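import Cfsg.Agent.Lib.ToddCox.Fi22_14080.Data0
set_option autoImplicit false
set_option maxRecDepth 100000
namespace Cfsg.Agent.Lib.ToddCox.Fi22_14080
def eT_1_3 (j : ℕ) : ℕ := bif Nat.blt j 2 then E_1 else E_2
def eT_0_3 (j : ℕ) : ℕ := bif Nat.blt j 1 then E_0 else (eT_1_3 j)
def eT_3_5 (j : ℕ) : ℕ := bif Nat.blt j 4 then E_3 else E_4
def eT_5_7 (j : ℕ) : ℕ := bif Nat.blt j 6 then E_5 else E_6
def eT_3_7 (j : ℕ) : ℕ := bif Nat.blt j 5 then (eT_3_5 j) else (eT_5_7 j)
def eT_0_7 (j : ℕ) : ℕ := bif Nat.blt j 3 then (eT_0_3 j) else (eT_3_7 j)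
def eT_7_9 (j : ℕ) : ℕ := bif Nat.blt j 8 then E_7 else E_8
def eT_9_11 (j : ℕ) : ℕ := bif Nat.blt j 10 then E_9 else E_10
def eT_7_11 (j : ℕ) : ℕ := bif Nat.blt j 9 then (eT_7_9 j) else (eT_9_11 j)
def eT_11_13 (j : ℕ) : ℕ := bif Nat.blt j 12 then E_11 else E_12
def eT_13_15 (j : ℕ) : ℕ := bif Nat.blt j 14 then E_13 else E_14
def eT_11_15 (j : ℕ) : ℕ := bif Nat.blt j 13 then (eT_11_13 j) else (eT_13_15 j)
def eT_7_15 (j : ℕ) : ℕ := bif Nat.blt j 11 then (eT_7_11 j) else (eT_11_15 j)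
def eT_0_15 (j : ℕ) : ℕ := bif Nat.blt j 7 then (eT_0_7 j) else (eT_7_15 j)
def eT_15_17 (j : ℕ) : ℕ := bif Nat.blt j 16 then E_15 else E_16
def eT_17_19 (j : ℕ) : ℕ := bif Nat.blt j 18 then E_17 else E_18
def eT_15_19 (j : ℕ) : ℕ := bif Nat.blt j 17 then (eT_15_17 j) else (eT_17_19 j)
def eT_19_21 (j : ℕ) : ℕ := bif Nat.blt j 20 then E_19 else E_20
def eT_21_23 (j : ℕ) : ℕ := bif Nat.blt j 22 then E_21 else E_22
def eT_19_23 (j : ℕ) : ℕ := bif Nat.blt j 21 then (eT_19_21 j) else (eT_21_23 j)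
def eT_15_23 (j : ℕ) : ℕ := bif Nat.blt j 19 then (eT_15_19 j) else (eT_19_23 j)
def eT_23_25 (j : ℕ) : ℕ := bif Nat.blt j 24 then E_23 else E_24
def eT_25_27 (j : ℕ) : ℕ := bif Nat.blt j 26 then E_25 else E_26
def eT_23_27 (j : ℕ) : ℕ := bif Nat.blt j 25 then (eT_23_25 j) else (eT_25_27 j)
def eT_27_29 (j : ℕ) : ℕ := bif Nat.blt j 28 then E_27 else E_28
def eT_29_31 (j : ℕ) : ℕ := bif Nat.blt j 30 then E_29 else E_30
def eT_27_31 (j : ℕ) : ℕ := bif Nat.blt j 29 then (eT_27_29 j) else (eT_29_31 j)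
def eT_23_31 (j : ℕ) : ℕ := bif Nat.blt j 27 then (eT_23_27 j) else (eT_27_31 j)
def eT_15_31 (j : ℕ) : ℕ := bif Nat.blt j 23 then (eT_15_23 j) else (eT_23_31 j)
def eT_0_31 (j : ℕ) : ℕ := bif Nat.blt j 15 then (eT_0_15 j) else (eT_15_31 j)
def eT_32_34 (j : ℕ) : ℕ := bif Nat.blt j 33 then E_32 else E_33
def eT_31_34 (j : ℕ) : ℕ := bif Nat.blt j 32 then E_31 else (eT_32_34 j)
def eT_34_36 (j : ℕ) : ℕ := bif Nat.blt j 35 then E_34 else E_35
def eT_36_38 (j : ℕ) : ℕ := bif Nat.blt j 37 then E_36 else E_37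
def eT_34_38 (j : ℕ) : ℕ := bif Nat.blt j 36 then (eT_34_36 j) else (eT_36_38 j)
def eT_31_38 (j : ℕ) : ℕ := bif Nat.blt j 34 then (eT_31_34 j) else (eT_34_38 j)
def eT_38_40 (j : ℕ) : ℕ := bif Nat.blt j 39 then E_38 else E_39
def eT_40_42 (j : ℕ) : ℕ := bif Nat.blt j 41 then E_40 else E_41
def eT_38_42 (j : ℕ) : ℕ := bif Nat.blt j 40 then (eT_38_40 j) else (eT_40_42 j)
def eT_42_44 (j : ℕ) : ℕ := bif Nat.blt j 43 then E_42 else E_43
def eT_44_46 (j : ℕ) : ℕ := bif Nat.blt j 45 then E_44 else E_45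
def eT_42_46 (j : ℕ) : ℕ := bif Nat.blt j 44 then (eT_42_44 j) else (eT_44_46 j)
def eT_38_46 (j : ℕ) : ℕ := bif Nat.blt j 42 then (eT_38_42 j) else (eT_42_46 j)
def eT_31_46 (j : ℕ) : ℕ := bif Nat.blt j 38 then (eT_31_38 j) else (eT_38_46 j)
def eT_46_48 (j : ℕ) : ℕ := bif Nat.blt j 47 then E_46 else E_47
def eT_48_50 (j : ℕ) : ℕ := bif Nat.blt j 49 then E_48 else E_49
def eT_46_50 (j : ℕ) : ℕ := bif Nat.blt j 48 then (eT_46_48 j) else (eT_48_50 j)
def eT_50_52 (j : ℕ) : ℕ := bif Nat.blt j 51 then E_50 else E_51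
def eT_52_54 (j : ℕ) : ℕ := bif Nat.blt j 53 then E_52 else E_53
def eT_50_54 (j : ℕ) : ℕ := bif Nat.blt j 52 then (eT_50_52 j) else (eT_52_54 j)
def eT_46_54 (j : ℕ) : ℕ := bif Nat.blt j 50 then (eT_46_50 j) else (eT_50_54 j)
def eT_54_56 (j : ℕ) : ℕ := bif Nat.blt j 55 then E_54 else E_55
def eT_56_58 (j : ℕ) : ℕ := bif Nat.blt j 57 then E_56 else E_57
def eT_54_58 (j : ℕ) : ℕ := bif Nat.blt j 56 then (eT_54_56 j) else (eT_56_58 j)
def eT_58_60 (j : ℕ) : ℕ := bif Nat.blt j 59 then E_58 else E_59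
def eT_60_62 (j : ℕ) : ℕ := bif Nat.blt j 61 then E_60 else E_61
def eT_58_62 (j : ℕ) : ℕ := bif Nat.blt j 60 then (eT_58_60 j) else (eT_60_62 j)
def eT_54_62 (j : ℕ) : ℕ := bif Nat.blt j 58 then (eT_54_58 j) else (eT_58_62 j)
def eT_46_62 (j : ℕ) : ℕ := bif Nat.blt j 54 then (eT_46_54 j) else (eT_54_62 j)
def eT_31_62 (j : ℕ) : ℕ := bif Nat.blt j 46 then (eT_31_46 j) else (eT_46_62 j)
def eT_0_62 (j : ℕ) : ℕ := bif Nat.blt j 31 then (eT_0_31 j) else (eT_31_62 j)
def eT_63_65 (j : ℕ) : ℕ := bif Nat.blt j 64 then E_63 else E_64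
def eT_62_65 (j : ℕ) : ℕ := bif Nat.blt j 63 then E_62 else (eT_63_65 j)
def eT_65_67 (j : ℕ) : ℕ := bif Nat.blt j 66 then E_65 else E_66
def eT_67_69 (j : ℕ) : ℕ := bif Nat.blt j 68 then E_67 else E_68
def eT_65_69 (j : ℕ) : ℕ := bif Nat.blt j 67 then (eT_65_67 j) else (eT_67_69 j)
def eT_62_69 (j : ℕ) : ℕ := bif Nat.blt j 65 then (eT_62_65 j) else (eT_65_69 j)
def eT_69_71 (j : ℕ) : ℕ := bif Nat.blt j 70 then E_69 else E_70
def eT_71_73 (j : ℕ) : ℕ := bif Nat.blt j 72 then E_71 else E_72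
def eT_69_73 (j : ℕ) : ℕ := bif Nat.blt j 71 then (eT_69_71 j) else (eT_71_73 j)
def eT_73_75 (j : ℕ) : ℕ := bif Nat.blt j 74 then E_73 else E_74
def eT_75_77 (j : ℕ) : ℕ := bif Nat.blt j 76 then E_75 else E_76
def eT_73_77 (j : ℕ) : ℕ := bif Nat.blt j 75 then (eT_73_75 j) else (eT_75_77 j)
def eT_69_77 (j : ℕ) : ℕ := bif Nat.blt j 73 then (eT_69_73 j) else (eT_73_77 j)
def eT_62_77 (j : ℕ) : ℕ := bif Nat.blt j 69 then (eT_62_69 j) else (eT_69_77 j)
def eT_77_79 (j : ℕ) : ℕ := bif Nat.blt j 78 then E_77 else E_78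
def eT_79_81 (j : ℕ) : ℕ := bif Nat.blt j 80 then E_79 else E_80
def eT_77_81 (j : ℕ) : ℕ := bif Nat.blt j 79 then (eT_77_79 j) else (eT_79_81 j)
def eT_81_83 (j : ℕ) : ℕ := bif Nat.blt j 82 then E_81 else E_82
def eT_83_85 (j : ℕ) : ℕ := bif Nat.blt j 84 then E_83 else E_84
def eT_81_85 (j : ℕ) : ℕ := bif Nat.blt j 83 then (eT_81_83 j) else (eT_83_85 j)
def eT_77_85 (j : ℕ) : ℕ := bif Nat.blt j 81 then (eT_77_81 j) else (eT_81_85 j)
def eT_85_87 (j : ℕ) : ℕ := bif Nat.blt j 86 then E_85 else E_86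
def eT_87_89 (j : ℕ) : ℕ := bif Nat.blt j 88 then E_87 else E_88
def eT_85_89 (j : ℕ) : ℕ := bif Nat.blt j 87 then (eT_85_87 j) else (eT_87_89 j)
def eT_89_91 (j : ℕ) : ℕ := bif Nat.blt j 90 then E_89 else E_90
def eT_91_93 (j : ℕ) : ℕ := bif Nat.blt j 92 then E_91 else E_92
def eT_89_93 (j : ℕ) : ℕ := bif Nat.blt j 91 then (eT_89_91 j) else (eT_91_93 j)
def eT_85_93 (j : ℕ) : ℕ := bif Nat.blt j 89 then (eT_85_89 j) else (eT_89_93 j)
def eT_77_93 (j : ℕ) : ℕ := bif Nat.blt j 85 then (eT_77_85 j) else (eT_85_93 j)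
def eT_62_93 (j : ℕ) : ℕ := bif Nat.blt j 77 then (eT_62_77 j) else (eT_77_93 j)
def eT_93_95 (j : ℕ) : ℕ := bif Nat.blt j 94 then E_93 else E_94
def eT_95_97 (j : ℕ) : ℕ := bif Nat.blt j 96 then E_95 else E_96
def eT_93_97 (j : ℕ) : ℕ := bif Nat.blt j 95 then (eT_93_95 j) else (eT_95_97 j)
def eT_97_99 (j : ℕ) : ℕ := bif Nat.blt j 98 then E_97 else E_98
def eT_99_101 (j : ℕ) : ℕ := bif Nat.blt j 100 then E_99 else E_100
def eT_97_101 (j : ℕ) : ℕ := bif Nat.blt j 99 then (eT_97_99 j) else (eT_99_101 j)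
def eT_93_101 (j : ℕ) : ℕ := bif Nat.blt j 97 then (eT_93_97 j) else (eT_97_101 j)
def eT_101_103 (j : ℕ) : ℕ := bif Nat.blt j 102 then E_101 else E_102
def eT_103_105 (j : ℕ) : ℕ := bif Nat.blt j 104 then E_103 else E_104
def eT_101_105 (j : ℕ) : ℕ := bif Nat.blt j 103 then (eT_101_103 j) else (eT_103_105 j)
def eT_105_107 (j : ℕ) : ℕ := bif Nat.blt j 106 then E_105 else E_106
def eT_107_109 (j : ℕ) : ℕ := bif Nat.blt j 108 then E_107 else E_108
def eT_105_109 (j : ℕ) : ℕ := bif Nat.blt j 107 then (eT_105_107 j) else (eT_107_109 j)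
def eT_101_109 (j : ℕ) : ℕ := bif Nat.blt j 105 then (eT_101_105 j) else (eT_105_109 j)
def eT_93_109 (j : ℕ) : ℕ := bif Nat.blt j 101 then (eT_93_101 j) else (eT_101_109 j)
def eT_109_111 (j : ℕ) : ℕ := bif Nat.blt j 110 then E_109 else E_110
def eT_111_113 (j : ℕ) : ℕ := bif Nat.blt j 112 then E_111 else E_112
def eT_109_113 (j : ℕ) : ℕ := bif Nat.blt j 111 then (eT_109_111 j) else (eT_111_113 j)
def eT_113_115 (j : ℕ) : ℕ := bif Nat.blt j 114 then E_113 else E_114
def eT_115_117 (j : ℕ) : ℕ := bif Nat.blt j 116 then E_115 else E_116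
def eT_113_117 (j : ℕ) : ℕ := bif Nat.blt j 115 then (eT_113_115 j) else (eT_115_117 j)
def eT_109_117 (j : ℕ) : ℕ := bif Nat.blt j 113 then (eT_109_113 j) else (eT_113_117 j)
def eT_117_119 (j : ℕ) : ℕ := bif Nat.blt j 118 then E_117 else E_118
def eT_119_121 (j : ℕ) : ℕ := bif Nat.blt j 120 then E_119 else E_120
def eT_117_121 (j : ℕ) : ℕ := bif Nat.blt j 119 then (eT_117_119 j) else (eT_119_121 j)
def eT_121_123 (j : ℕ) : ℕ := bif Nat.blt j 122 then E_121 else E_122
def eT_123_125 (j : ℕ) : ℕ := bif Nat.blt j 124 then E_123 else E_124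
def eT_121_125 (j : ℕ) : ℕ := bif Nat.blt j 123 then (eT_121_123 j) else (eT_123_125 j)
def eT_117_125 (j : ℕ) : ℕ := bif Nat.blt j 121 then (eT_117_121 j) else (eT_121_125 j)
def eT_109_125 (j : ℕ) : ℕ := bif Nat.blt j 117 then (eT_109_117 j) else (eT_117_125 j)
def eT_93_125 (j : ℕ) : ℕ := bif Nat.blt j 109 then (eT_93_109 j) else (eT_109_125 j)
def eT_62_125 (j : ℕ) : ℕ := bif Nat.blt j 93 then (eT_62_93 j) else (eT_93_125 j)
def eT_0_125 (j : ℕ) : ℕ := bif Nat.blt j 62 then (eT_0_62 j) else (eT_62_125 j)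
def eT_126_128 (j : ℕ) : ℕ := bif Nat.blt j 127 then E_126 else E_127
def eT_125_128 (j : ℕ) : ℕ := bif Nat.blt j 126 then E_125 else (eT_126_128 j)
def eT_128_130 (j : ℕ) : ℕ := bif Nat.blt j 129 then E_128 else E_129
def eT_130_132 (j : ℕ) : ℕ := bif Nat.blt j 131 then E_130 else E_131
def eT_128_132 (j : ℕ) : ℕ := bif Nat.blt j 130 then (eT_128_130 j) else (eT_130_132 j)
def eT_125_132 (j : ℕ) : ℕ := bif Nat.blt j 128 then (eT_125_128 j) else (eT_128_132 j)
def eT_132_134 (j : ℕ) : ℕ := bif Nat.blt j 133 then E_132 else E_133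
def eT_134_136 (j : ℕ) : ℕ := bif Nat.blt j 135 then E_134 else E_135
def eT_132_136 (j : ℕ) : ℕ := bif Nat.blt j 134 then (eT_132_134 j) else (eT_134_136 j)
def eT_136_138 (j : ℕ) : ℕ := bif Nat.blt j 137 then E_136 else E_137
def eT_138_140 (j : ℕ) : ℕ := bif Nat.blt j 139 then E_138 else E_139
def eT_136_140 (j : ℕ) : ℕ := bif Nat.blt j 138 then (eT_136_138 j) else (eT_138_140 j)
def eT_132_140 (j : ℕ) : ℕ := bif Nat.blt j 136 then (eT_132_136 j) else (eT_136_140 j)
def eT_125_140 (j : ℕ) : ℕ := bif Nat.blt j 132 then (eT_125_132 j) else (eT_132_140 j)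
def eT_140_142 (j : ℕ) : ℕ := bif Nat.blt j 141 then E_140 else E_141
def eT_142_144 (j : ℕ) : ℕ := bif Nat.blt j 143 then E_142 else E_143
def eT_140_144 (j : ℕ) : ℕ := bif Nat.blt j 142 then (eT_140_142 j) else (eT_142_144 j)
def eT_144_146 (j : ℕ) : ℕ := bif Nat.blt j 145 then E_144 else E_145
def eT_146_148 (j : ℕ) : ℕ := bif Nat.blt j 147 then E_146 else E_147
def eT_144_148 (j : ℕ) : ℕ := bif Nat.blt j 146 then (eT_144_146 j) else (eT_146_148 j)
def eT_140_148 (j : ℕ) : ℕ := bif Nat.blt j 144 then (eT_140_144 j) else (eT_144_148 j)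
def eT_148_150 (j : ℕ) : ℕ := bif Nat.blt j 149 then E_148 else E_149
def eT_150_152 (j : ℕ) : ℕ := bif Nat.blt j 151 then E_150 else E_151
def eT_148_152 (j : ℕ) : ℕ := bif Nat.blt j 150 then (eT_148_150 j) else (eT_150_152 j)
def eT_152_154 (j : ℕ) : ℕ := bif Nat.blt j 153 then E_152 else E_153
def eT_154_156 (j : ℕ) : ℕ := bif Nat.blt j 155 then E_154 else E_155
def eT_152_156 (j : ℕ) : ℕ := bif Nat.blt j 154 then (eT_152_154 j) else (eT_154_156 j)
def eT_148_156 (j : ℕ) : ℕ := bif Nat.blt j 152 then (eT_148_152 j) else (eT_152_156 j)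
def eT_140_156 (j : ℕ) : ℕ := bif Nat.blt j 148 then (eT_140_148 j) else (eT_148_156 j)
def eT_125_156 (j : ℕ) : ℕ := bif Nat.blt j 140 then (eT_125_140 j) else (eT_140_156 j)
def eT_156_158 (j : ℕ) : ℕ := bif Nat.blt j 157 then E_156 else E_157
def eT_158_160 (j : ℕ) : ℕ := bif Nat.blt j 159 then E_158 else E_159
def eT_156_160 (j : ℕ) : ℕ := bif Nat.blt j 158 then (eT_156_158 j) else (eT_158_160 j)
def eT_160_162 (j : ℕ) : ℕ := bif Nat.blt j 161 then E_160 else E_161
def eT_162_164 (j : ℕ) : ℕ := bif Nat.blt j 163 then E_162 else E_163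
def eT_160_164 (j : ℕ) : ℕ := bif Nat.blt j 162 then (eT_160_162 j) else (eT_162_164 j)
def eT_156_164 (j : ℕ) : ℕ := bif Nat.blt j 160 then (eT_156_160 j) else (eT_160_164 j)
def eT_164_166 (j : ℕ) : ℕ := bif Nat.blt j 165 then E_164 else E_165
def eT_166_168 (j : ℕ) : ℕ := bif Nat.blt j 167 then E_166 else E_167
def eT_164_168 (j : ℕ) : ℕ := bif Nat.blt j 166 then (eT_164_166 j) else (eT_166_168 j)
def eT_168_170 (j : ℕ) : ℕ := bif Nat.blt j 169 then E_168 else E_169
def eT_170_172 (j : ℕ) : ℕ := bif Nat.blt j 171 then E_170 else E_171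
def eT_168_172 (j : ℕ) : ℕ := bif Nat.blt j 170 then (eT_168_170 j) else (eT_170_172 j)
def eT_164_172 (j : ℕ) : ℕ := bif Nat.blt j 168 then (eT_164_168 j) else (eT_168_172 j)
def eT_156_172 (j : ℕ) : ℕ := bif Nat.blt j 164 then (eT_156_164 j) else (eT_164_172 j)
def eT_172_174 (j : ℕ) : ℕ := bif Nat.blt j 173 then E_172 else E_173
def eT_174_176 (j : ℕ) : ℕ := bif Nat.blt j 175 then E_174 else E_175
def eT_172_176 (j : ℕ) : ℕ := bif Nat.blt j 174 then (eT_172_174 j) else (eT_174_176 j)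
def eT_176_178 (j : ℕ) : ℕ := bif Nat.blt j 177 then E_176 else E_177
def eT_178_180 (j : ℕ) : ℕ := bif Nat.blt j 179 then E_178 else E_179
def eT_176_180 (j : ℕ) : ℕ := bif Nat.blt j 178 then (eT_176_178 j) else (eT_178_180 j)
def eT_172_180 (j : ℕ) : ℕ := bif Nat.blt j 176 then (eT_172_176 j) else (eT_176_180 j)
def eT_180_182 (j : ℕ) : ℕ := bif Nat.blt j 181 then E_180 else E_181
def eT_182_184 (j : ℕ) : ℕ := bif Nat.blt j 183 then E_182 else E_183
def eT_180_184 (j : ℕ) : ℕ := bif Nat.blt j 182 then (eT_180_182 j) else (eT_182_184 j)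
def eT_184_186 (j : ℕ) : ℕ := bif Nat.blt j 185 then E_184 else E_185
def eT_186_188 (j : ℕ) : ℕ := bif Nat.blt j 187 then E_186 else E_187
def eT_184_188 (j : ℕ) : ℕ := bif Nat.blt j 186 then (eT_184_186 j) else (eT_186_188 j)
def eT_180_188 (j : ℕ) : ℕ := bif Nat.blt j 184 then (eT_180_184 j) else (eT_184_188 j)
def eT_172_188 (j : ℕ) : ℕ := bif Nat.blt j 180 then (eT_172_180 j) else (eT_180_188 j)
def eT_156_188 (j : ℕ) : ℕ := bif Nat.blt j 172 then (eT_156_172 j) else (eT_172_188 j)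
def eT_125_188 (j : ℕ) : ℕ := bif Nat.blt j 156 then (eT_125_156 j) else (eT_156_188 j)
def eT_189_191 (j : ℕ) : ℕ := bif Nat.blt j 190 then E_189 else E_190
def eT_188_191 (j : ℕ) : ℕ := bif Nat.blt j 189 then E_188 else (eT_189_191 j)
def eT_191_193 (j : ℕ) : ℕ := bif Nat.blt j 192 then E_191 else E_192
def eT_193_195 (j : ℕ) : ℕ := bif Nat.blt j 194 then E_193 else E_194
def eT_191_195 (j : ℕ) : ℕ := bif Nat.blt j 193 then (eT_191_193 j) else (eT_193_195 j)
def eT_188_195 (j : ℕ) : ℕ := bif Nat.blt j 191 then (eT_188_191 j) else (eT_191_195 j)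
def eT_195_197 (j : ℕ) : ℕ := bif Nat.blt j 196 then E_195 else E_196
def eT_197_199 (j : ℕ) : ℕ := bif Nat.blt j 198 then E_197 else E_198
def eT_195_199 (j : ℕ) : ℕ := bif Nat.blt j 197 then (eT_195_197 j) else (eT_197_199 j)
def eT_199_201 (j : ℕ) : ℕ := bif Nat.blt j 200 then E_199 else E_200
def eT_201_203 (j : ℕ) : ℕ := bif Nat.blt j 202 then E_201 else E_202
def eT_199_203 (j : ℕ) : ℕ := bif Nat.blt j 201 then (eT_199_201 j) else (eT_201_203 j)
def eT_195_203 (j : ℕ) : ℕ := bif Nat.blt j 199 then (eT_195_199 j) else (eT_199_203 j)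
def eT_188_203 (j : ℕ) : ℕ := bif Nat.blt j 195 then (eT_188_195 j) else (eT_195_203 j)
def eT_203_205 (j : ℕ) : ℕ := bif Nat.blt j 204 then E_203 else E_204
def eT_205_207 (j : ℕ) : ℕ := bif Nat.blt j 206 then E_205 else E_206
def eT_203_207 (j : ℕ) : ℕ := bif Nat.blt j 205 then (eT_203_205 j) else (eT_205_207 j)
def eT_207_209 (j : ℕ) : ℕ := bif Nat.blt j 208 then E_207 else E_208
def eT_209_211 (j : ℕ) : ℕ := bif Nat.blt j 210 then E_209 else E_210
def eT_207_211 (j : ℕ) : ℕ := bif Nat.blt j 209 then (eT_207_209 j) else (eT_209_211 j)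
def eT_203_211 (j : ℕ) : ℕ := bif Nat.blt j 207 then (eT_203_207 j) else (eT_207_211 j)
def eT_211_213 (j : ℕ) : ℕ := bif Nat.blt j 212 then E_211 else E_212
def eT_213_215 (j : ℕ) : ℕ := bif Nat.blt j 214 then E_213 else E_214
def eT_211_215 (j : ℕ) : ℕ := bif Nat.blt j 213 then (eT_211_213 j) else (eT_213_215 j)
def eT_215_217 (j : ℕ) : ℕ := bif Nat.blt j 216 then E_215 else E_216
def eT_217_219 (j : ℕ) : ℕ := bif Nat.blt j 218 then E_217 else E_218
def eT_215_219 (j : ℕ) : ℕ := bif Nat.blt j 217 then (eT_215_217 j) else (eT_217_219 j)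
def eT_211_219 (j : ℕ) : ℕ := bif Nat.blt j 215 then (eT_211_215 j) else (eT_215_219 j)
def eT_203_219 (j : ℕ) : ℕ := bif Nat.blt j 211 then (eT_203_211 j) else (eT_211_219 j)
def eT_188_219 (j : ℕ) : ℕ := bif Nat.blt j 203 then (eT_188_203 j) else (eT_203_219 j)
def eT_219_221 (j : ℕ) : ℕ := bif Nat.blt j 220 then E_219 else E_220
def eT_221_223 (j : ℕ) : ℕ := bif Nat.blt j 222 then E_221 else E_222
def eT_219_223 (j : ℕ) : ℕ := bif Nat.blt j 221 then (eT_219_221 j) else (eT_221_223 j)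
def eT_223_225 (j : ℕ) : ℕ := bif Nat.blt j 224 then E_223 else E_224
def eT_225_227 (j : ℕ) : ℕ := bif Nat.blt j 226 then E_225 else E_226
def eT_223_227 (j : ℕ) : ℕ := bif Nat.blt j 225 then (eT_223_225 j) else (eT_225_227 j)
def eT_219_227 (j : ℕ) : ℕ := bif Nat.blt j 223 then (eT_219_223 j) else (eT_223_227 j)
def eT_227_229 (j : ℕ) : ℕ := bif Nat.blt j 228 then E_227 else E_228
def eT_229_231 (j : ℕ) : ℕ := bif Nat.blt j 230 then E_229 else E_230
def eT_227_231 (j : ℕ) : ℕ := bif Nat.blt j 229 then (eT_227_229 j) else (eT_229_231 j)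
def eT_231_233 (j : ℕ) : ℕ := bif Nat.blt j 232 then E_231 else E_232
def eT_233_235 (j : ℕ) : ℕ := bif Nat.blt j 234 then E_233 else E_234
def eT_231_235 (j : ℕ) : ℕ := bif Nat.blt j 233 then (eT_231_233 j) else (eT_233_235 j)
def eT_227_235 (j : ℕ) : ℕ := bif Nat.blt j 231 then (eT_227_231 j) else (eT_231_235 j)
def eT_219_235 (j : ℕ) : ℕ := bif Nat.blt j 227 then (eT_219_227 j) else (eT_227_235 j)
def eT_235_237 (j : ℕ) : ℕ := bif Nat.blt j 236 then E_235 else E_236
def eT_237_239 (j : ℕ) : ℕ := bif Nat.blt j 238 then E_237 else E_238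
def eT_235_239 (j : ℕ) : ℕ := bif Nat.blt j 237 then (eT_235_237 j) else (eT_237_239 j)
def eT_239_241 (j : ℕ) : ℕ := bif Nat.blt j 240 then E_239 else E_240
def eT_241_243 (j : ℕ) : ℕ := bif Nat.blt j 242 then E_241 else E_242
def eT_239_243 (j : ℕ) : ℕ := bif Nat.blt j 241 then (eT_239_241 j) else (eT_241_243 j)
def eT_235_243 (j : ℕ) : ℕ := bif Nat.blt j 239 then (eT_235_239 j) else (eT_239_243 j)
def eT_243_245 (j : ℕ) : ℕ := bif Nat.blt j 244 then E_243 else E_244
def eT_245_247 (j : ℕ) : ℕ := bif Nat.blt j 246 then E_245 else E_246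
def eT_243_247 (j : ℕ) : ℕ := bif Nat.blt j 245 then (eT_243_245 j) else (eT_245_247 j)
def eT_247_249 (j : ℕ) : ℕ := bif Nat.blt j 248 then E_247 else E_248
def eT_249_251 (j : ℕ) : ℕ := bif Nat.blt j 250 then E_249 else E_250
def eT_247_251 (j : ℕ) : ℕ := bif Nat.blt j 249 then (eT_247_249 j) else (eT_249_251 j)
def eT_243_251 (j : ℕ) : ℕ := bif Nat.blt j 247 then (eT_243_247 j) else (eT_247_251 j)
def eT_235_251 (j : ℕ) : ℕ := bif Nat.blt j 243 then (eT_235_243 j) else (eT_243_251 j)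
def eT_219_251 (j : ℕ) : ℕ := bif Nat.blt j 235 then (eT_219_235 j) else (eT_235_251 j)
def eT_188_251 (j : ℕ) : ℕ := bif Nat.blt j 219 then (eT_188_219 j) else (eT_219_251 j)
def eT_125_251 (j : ℕ) : ℕ := bif Nat.blt j 188 then (eT_125_188 j) else (eT_188_251 j)
def eT_0_251 (j : ℕ) : ℕ := bif Nat.blt j 125 then (eT_0_125 j) else (eT_125_251 j)
def eT_252_254 (j : ℕ) : ℕ := bif Nat.blt j 253 then E_252 else E_253
def eT_251_254 (j : ℕ) : ℕ := bif Nat.blt j 252 then E_251 else (eT_252_254 j)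
def eT_254_256 (j : ℕ) : ℕ := bif Nat.blt j 255 then E_254 else E_255
def eT_256_258 (j : ℕ) : ℕ := bif Nat.blt j 257 then E_256 else E_257
def eT_254_258 (j : ℕ) : ℕ := bif Nat.blt j 256 then (eT_254_256 j) else (eT_256_258 j)
def eT_251_258 (j : ℕ) : ℕ := bif Nat.blt j 254 then (eT_251_254 j) else (eT_254_258 j)
def eT_258_260 (j : ℕ) : ℕ := bif Nat.blt j 259 then E_258 else E_259
def eT_260_262 (j : ℕ) : ℕ := bif Nat.blt j 261 then E_260 else E_261
def eT_258_262 (j : ℕ) : ℕ := bif Nat.blt j 260 then (eT_258_260 j) else (eT_260_262 j)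
def eT_262_264 (j : ℕ) : ℕ := bif Nat.blt j 263 then E_262 else E_263
def eT_264_266 (j : ℕ) : ℕ := bif Nat.blt j 265 then E_264 else E_265
def eT_262_266 (j : ℕ) : ℕ := bif Nat.blt j 264 then (eT_262_264 j) else (eT_264_266 j)
def eT_258_266 (j : ℕ) : ℕ := bif Nat.blt j 262 then (eT_258_262 j) else (eT_262_266 j)
def eT_251_266 (j : ℕ) : ℕ := bif Nat.blt j 258 then (eT_251_258 j) else (eT_258_266 j)
def eT_266_268 (j : ℕ) : ℕ := bif Nat.blt j 267 then E_266 else E_267
def eT_268_270 (j : ℕ) : ℕ := bif Nat.blt j 269 then E_268 else E_269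
def eT_266_270 (j : ℕ) : ℕ := bif Nat.blt j 268 then (eT_266_268 j) else (eT_268_270 j)
def eT_270_272 (j : ℕ) : ℕ := bif Nat.blt j 271 then E_270 else E_271
def eT_272_274 (j : ℕ) : ℕ := bif Nat.blt j 273 then E_272 else E_273
def eT_270_274 (j : ℕ) : ℕ := bif Nat.blt j 272 then (eT_270_272 j) else (eT_272_274 j)
def eT_266_274 (j : ℕ) : ℕ := bif Nat.blt j 270 then (eT_266_270 j) else (eT_270_274 j)
def eT_274_276 (j : ℕ) : ℕ := bif Nat.blt j 275 then E_274 else E_275
def eT_276_278 (j : ℕ) : ℕ := bif Nat.blt j 277 then E_276 else E_277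
def eT_274_278 (j : ℕ) : ℕ := bif Nat.blt j 276 then (eT_274_276 j) else (eT_276_278 j)
def eT_278_280 (j : ℕ) : ℕ := bif Nat.blt j 279 then E_278 else E_279
def eT_280_282 (j : ℕ) : ℕ := bif Nat.blt j 281 then E_280 else E_281
def eT_278_282 (j : ℕ) : ℕ := bif Nat.blt j 280 then (eT_278_280 j) else (eT_280_282 j)
def eT_274_282 (j : ℕ) : ℕ := bif Nat.blt j 278 then (eT_274_278 j) else (eT_278_282 j)
def eT_266_282 (j : ℕ) : ℕ := bif Nat.blt j 274 then (eT_266_274 j) else (eT_274_282 j)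
def eT_251_282 (j : ℕ) : ℕ := bif Nat.blt j 266 then (eT_251_266 j) else (eT_266_282 j)
def eT_282_284 (j : ℕ) : ℕ := bif Nat.blt j 283 then E_282 else E_283
def eT_284_286 (j : ℕ) : ℕ := bif Nat.blt j 285 then E_284 else E_285
def eT_282_286 (j : ℕ) : ℕ := bif Nat.blt j 284 then (eT_282_284 j) else (eT_284_286 j)
def eT_286_288 (j : ℕ) : ℕ := bif Nat.blt j 287 then E_286 else E_287
def eT_288_290 (j : ℕ) : ℕ := bif Nat.blt j 289 then E_288 else E_289
def eT_286_290 (j : ℕ) : ℕ := bif Nat.blt j 288 then (eT_286_288 j) else (eT_288_290 j)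
def eT_282_290 (j : ℕ) : ℕ := bif Nat.blt j 286 then (eT_282_286 j) else (eT_286_290 j)
def eT_290_292 (j : ℕ) : ℕ := bif Nat.blt j 291 then E_290 else E_291
def eT_292_294 (j : ℕ) : ℕ := bif Nat.blt j 293 then E_292 else E_293
def eT_290_294 (j : ℕ) : ℕ := bif Nat.blt j 292 then (eT_290_292 j) else (eT_292_294 j)
def eT_294_296 (j : ℕ) : ℕ := bif Nat.blt j 295 then E_294 else E_295
def eT_296_298 (j : ℕ) : ℕ := bif Nat.blt j 297 then E_296 else E_297
def eT_294_298 (j : ℕ) : ℕ := bif Nat.blt j 296 then (eT_294_296 j) else (eT_296_298 j)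
def eT_290_298 (j : ℕ) : ℕ := bif Nat.blt j 294 then (eT_290_294 j) else (eT_294_298 j)
def eT_282_298 (j : ℕ) : ℕ := bif Nat.blt j 290 then (eT_282_290 j) else (eT_290_298 j)
def eT_298_300 (j : ℕ) : ℕ := bif Nat.blt j 299 then E_298 else E_299
def eT_300_302 (j : ℕ) : ℕ := bif Nat.blt j 301 then E_300 else E_301
def eT_298_302 (j : ℕ) : ℕ := bif Nat.blt j 300 then (eT_298_300 j) else (eT_300_302 j)
def eT_302_304 (j : ℕ) : ℕ := bif Nat.blt j 303 then E_302 else E_303
def eT_304_306 (j : ℕ) : ℕ := bif Nat.blt j 305 then E_304 else E_305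
def eT_302_306 (j : ℕ) : ℕ := bif Nat.blt j 304 then (eT_302_304 j) else (eT_304_306 j)
def eT_298_306 (j : ℕ) : ℕ := bif Nat.blt j 302 then (eT_298_302 j) else (eT_302_306 j)
def eT_306_308 (j : ℕ) : ℕ := bif Nat.blt j 307 then E_306 else E_307
def eT_308_310 (j : ℕ) : ℕ := bif Nat.blt j 309 then E_308 else E_309
def eT_306_310 (j : ℕ) : ℕ := bif Nat.blt j 308 then (eT_306_308 j) else (eT_308_310 j)
def eT_310_312 (j : ℕ) : ℕ := bif Nat.blt j 311 then E_310 else E_311
def eT_312_314 (j : ℕ) : ℕ := bif Nat.blt j 313 then E_312 else E_313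
def eT_310_314 (j : ℕ) : ℕ := bif Nat.blt j 312 then (eT_310_312 j) else (eT_312_314 j)
def eT_306_314 (j : ℕ) : ℕ := bif Nat.blt j 310 then (eT_306_310 j) else (eT_310_314 j)
def eT_298_314 (j : ℕ) : ℕ := bif Nat.blt j 306 then (eT_298_306 j) else (eT_306_314 j)
def eT_282_314 (j : ℕ) : ℕ := bif Nat.blt j 298 then (eT_282_298 j) else (eT_298_314 j)
def eT_251_314 (j : ℕ) : ℕ := bif Nat.blt j 282 then (eT_251_282 j) else (eT_282_314 j)
def eT_315_317 (j : ℕ) : ℕ := bif Nat.blt j 316 then E_315 else E_316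
def eT_314_317 (j : ℕ) : ℕ := bif Nat.blt j 315 then E_314 else (eT_315_317 j)
def eT_317_319 (j : ℕ) : ℕ := bif Nat.blt j 318 then E_317 else E_318
def eT_319_321 (j : ℕ) : ℕ := bif Nat.blt j 320 then E_319 else E_320
def eT_317_321 (j : ℕ) : ℕ := bif Nat.blt j 319 then (eT_317_319 j) else (eT_319_321 j)
def eT_314_321 (j : ℕ) : ℕ := bif Nat.blt j 317 then (eT_314_317 j) else (eT_317_321 j)
def eT_321_323 (j : ℕ) : ℕ := bif Nat.blt j 322 then E_321 else E_322
def eT_323_325 (j : ℕ) : ℕ := bif Nat.blt j 324 then E_323 else E_324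
def eT_321_325 (j : ℕ) : ℕ := bif Nat.blt j 323 then (eT_321_323 j) else (eT_323_325 j)
def eT_325_327 (j : ℕ) : ℕ := bif Nat.blt j 326 then E_325 else E_326
def eT_327_329 (j : ℕ) : ℕ := bif Nat.blt j 328 then E_327 else E_328
def eT_325_329 (j : ℕ) : ℕ := bif Nat.blt j 327 then (eT_325_327 j) else (eT_327_329 j)
def eT_321_329 (j : ℕ) : ℕ := bif Nat.blt j 325 then (eT_321_325 j) else (eT_325_329 j)
def eT_314_329 (j : ℕ) : ℕ := bif Nat.blt j 321 then (eT_314_321 j) else (eT_321_329 j)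
def eT_329_331 (j : ℕ) : ℕ := bif Nat.blt j 330 then E_329 else E_330
def eT_331_333 (j : ℕ) : ℕ := bif Nat.blt j 332 then E_331 else E_332
def eT_329_333 (j : ℕ) : ℕ := bif Nat.blt j 331 then (eT_329_331 j) else (eT_331_333 j)
def eT_333_335 (j : ℕ) : ℕ := bif Nat.blt j 334 then E_333 else E_334
def eT_335_337 (j : ℕ) : ℕ := bif Nat.blt j 336 then E_335 else E_336
def eT_333_337 (j : ℕ) : ℕ := bif Nat.blt j 335 then (eT_333_335 j) else (eT_335_337 j)
def eT_329_337 (j : ℕ) : ℕ := bif Nat.blt j 333 then (eT_329_333 j) else (eT_333_337 j)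
def eT_337_339 (j : ℕ) : ℕ := bif Nat.blt j 338 then E_337 else E_338
def eT_339_341 (j : ℕ) : ℕ := bif Nat.blt j 340 then E_339 else E_340
def eT_337_341 (j : ℕ) : ℕ := bif Nat.blt j 339 then (eT_337_339 j) else (eT_339_341 j)
def eT_341_343 (j : ℕ) : ℕ := bif Nat.blt j 342 then E_341 else E_342
def eT_343_345 (j : ℕ) : ℕ := bif Nat.blt j 344 then E_343 else E_344
def eT_341_345 (j : ℕ) : ℕ := bif Nat.blt j 343 then (eT_341_343 j) else (eT_343_345 j)
def eT_337_345 (j : ℕ) : ℕ := bif Nat.blt j 341 then (eT_337_341 j) else (eT_341_345 j)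
def eT_329_345 (j : ℕ) : ℕ := bif Nat.blt j 337 then (eT_329_337 j) else (eT_337_345 j)
def eT_314_345 (j : ℕ) : ℕ := bif Nat.blt j 329 then (eT_314_329 j) else (eT_329_345 j)
def eT_345_347 (j : ℕ) : ℕ := bif Nat.blt j 346 then E_345 else E_346
def eT_347_349 (j : ℕ) : ℕ := bif Nat.blt j 348 then E_347 else E_348
def eT_345_349 (j : ℕ) : ℕ := bif Nat.blt j 347 then (eT_345_347 j) else (eT_347_349 j)
def eT_349_351 (j : ℕ) : ℕ := bif Nat.blt j 350 then E_349 else E_350
def eT_351_353 (j : ℕ) : ℕ := bif Nat.blt j 352 then E_351 else E_352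
def eT_349_353 (j : ℕ) : ℕ := bif Nat.blt j 351 then (eT_349_351 j) else (eT_351_353 j)
def eT_345_353 (j : ℕ) : ℕ := bif Nat.blt j 349 then (eT_345_349 j) else (eT_349_353 j)
def eT_353_355 (j : ℕ) : ℕ := bif Nat.blt j 354 then E_353 else E_354
def eT_355_357 (j : ℕ) : ℕ := bif Nat.blt j 356 then E_355 else E_356
def eT_353_357 (j : ℕ) : ℕ := bif Nat.blt j 355 then (eT_353_355 j) else (eT_355_357 j)
def eT_357_359 (j : ℕ) : ℕ := bif Nat.blt j 358 then E_357 else E_358
def eT_359_361 (j : ℕ) : ℕ := bif Nat.blt j 360 then E_359 else E_360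
def eT_357_361 (j : ℕ) : ℕ := bif Nat.blt j 359 then (eT_357_359 j) else (eT_359_361 j)
def eT_353_361 (j : ℕ) : ℕ := bif Nat.blt j 357 then (eT_353_357 j) else (eT_357_361 j)
def eT_345_361 (j : ℕ) : ℕ := bif Nat.blt j 353 then (eT_345_353 j) else (eT_353_361 j)
def eT_361_363 (j : ℕ) : ℕ := bif Nat.blt j 362 then E_361 else E_362
def eT_363_365 (j : ℕ) : ℕ := bif Nat.blt j 364 then E_363 else E_364
def eT_361_365 (j : ℕ) : ℕ := bif Nat.blt j 363 then (eT_361_363 j) else (eT_363_365 j)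
def eT_365_367 (j : ℕ) : ℕ := bif Nat.blt j 366 then E_365 else E_366
def eT_367_369 (j : ℕ) : ℕ := bif Nat.blt j 368 then E_367 else E_368
def eT_365_369 (j : ℕ) : ℕ := bif Nat.blt j 367 then (eT_365_367 j) else (eT_367_369 j)
def eT_361_369 (j : ℕ) : ℕ := bif Nat.blt j 365 then (eT_361_365 j) else (eT_365_369 j)
def eT_369_371 (j : ℕ) : ℕ := bif Nat.blt j 370 then E_369 else E_370
def eT_371_373 (j : ℕ) : ℕ := bif Nat.blt j 372 then E_371 else E_372
def eT_369_373 (j : ℕ) : ℕ := bif Nat.blt j 371 then (eT_369_371 j) else (eT_371_373 j)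
def eT_373_375 (j : ℕ) : ℕ := bif Nat.blt j 374 then E_373 else E_374
def eT_375_377 (j : ℕ) : ℕ := bif Nat.blt j 376 then E_375 else E_376
def eT_373_377 (j : ℕ) : ℕ := bif Nat.blt j 375 then (eT_373_375 j) else (eT_375_377 j)
def eT_369_377 (j : ℕ) : ℕ := bif Nat.blt j 373 then (eT_369_373 j) else (eT_373_377 j)
def eT_361_377 (j : ℕ) : ℕ := bif Nat.blt j 369 then (eT_361_369 j) else (eT_369_377 j)
def eT_345_377 (j : ℕ) : ℕ := bif Nat.blt j 361 then (eT_345_361 j) else (eT_361_377 j)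
def eT_314_377 (j : ℕ) : ℕ := bif Nat.blt j 345 then (eT_314_345 j) else (eT_345_377 j)
def eT_251_377 (j : ℕ) : ℕ := bif Nat.blt j 314 then (eT_251_314 j) else (eT_314_377 j)
def eT_378_380 (j : ℕ) : ℕ := bif Nat.blt j 379 then E_378 else E_379
def eT_377_380 (j : ℕ) : ℕ := bif Nat.blt j 378 then E_377 else (eT_378_380 j)
def eT_380_382 (j : ℕ) : ℕ := bif Nat.blt j 381 then E_380 else E_381
def eT_382_384 (j : ℕ) : ℕ := bif Nat.blt j 383 then E_382 else E_383
def eT_380_384 (j : ℕ) : ℕ := bif Nat.blt j 382 then (eT_380_382 j) else (eT_382_384 j)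
def eT_377_384 (j : ℕ) : ℕ := bif Nat.blt j 380 then (eT_377_380 j) else (eT_380_384 j)
def eT_384_386 (j : ℕ) : ℕ := bif Nat.blt j 385 then E_384 else E_385
def eT_386_388 (j : ℕ) : ℕ := bif Nat.blt j 387 then E_386 else E_387
def eT_384_388 (j : ℕ) : ℕ := bif Nat.blt j 386 then (eT_384_386 j) else (eT_386_388 j)
def eT_388_390 (j : ℕ) : ℕ := bif Nat.blt j 389 then E_388 else E_389
def eT_390_392 (j : ℕ) : ℕ := bif Nat.blt j 391 then E_390 else E_391
def eT_388_392 (j : ℕ) : ℕ := bif Nat.blt j 390 then (eT_388_390 j) else (eT_390_392 j)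
def eT_384_392 (j : ℕ) : ℕ := bif Nat.blt j 388 then (eT_384_388 j) else (eT_388_392 j)
def eT_377_392 (j : ℕ) : ℕ := bif Nat.blt j 384 then (eT_377_384 j) else (eT_384_392 j)
def eT_392_394 (j : ℕ) : ℕ := bif Nat.blt j 393 then E_392 else E_393
def eT_394_396 (j : ℕ) : ℕ := bif Nat.blt j 395 then E_394 else E_395
def eT_392_396 (j : ℕ) : ℕ := bif Nat.blt j 394 then (eT_392_394 j) else (eT_394_396 j)
def eT_396_398 (j : ℕ) : ℕ := bif Nat.blt j 397 then E_396 else E_397
def eT_398_400 (j : ℕ) : ℕ := bif Nat.blt j 399 then E_398 else E_399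
def eT_396_400 (j : ℕ) : ℕ := bif Nat.blt j 398 then (eT_396_398 j) else (eT_398_400 j)
def eT_392_400 (j : ℕ) : ℕ := bif Nat.blt j 396 then (eT_392_396 j) else (eT_396_400 j)
def eT_400_402 (j : ℕ) : ℕ := bif Nat.blt j 401 then E_400 else E_401
def eT_402_404 (j : ℕ) : ℕ := bif Nat.blt j 403 then E_402 else E_403
def eT_400_404 (j : ℕ) : ℕ := bif Nat.blt j 402 then (eT_400_402 j) else (eT_402_404 j)
def eT_404_406 (j : ℕ) : ℕ := bif Nat.blt j 405 then E_404 else E_405
def eT_406_408 (j : ℕ) : ℕ := bif Nat.blt j 407 then E_406 else E_407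
def eT_404_408 (j : ℕ) : ℕ := bif Nat.blt j 406 then (eT_404_406 j) else (eT_406_408 j)
def eT_400_408 (j : ℕ) : ℕ := bif Nat.blt j 404 then (eT_400_404 j) else (eT_404_408 j)
def eT_392_408 (j : ℕ) : ℕ := bif Nat.blt j 400 then (eT_392_400 j) else (eT_400_408 j)
def eT_377_408 (j : ℕ) : ℕ := bif Nat.blt j 392 then (eT_377_392 j) else (eT_392_408 j)
def eT_408_410 (j : ℕ) : ℕ := bif Nat.blt j 409 then E_408 else E_409
def eT_410_412 (j : ℕ) : ℕ := bif Nat.blt j 411 then E_410 else E_411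
def eT_408_412 (j : ℕ) : ℕ := bif Nat.blt j 410 then (eT_408_410 j) else (eT_410_412 j)
def eT_412_414 (j : ℕ) : ℕ := bif Nat.blt j 413 then E_412 else E_413
def eT_414_416 (j : ℕ) : ℕ := bif Nat.blt j 415 then E_414 else E_415
def eT_412_416 (j : ℕ) : ℕ := bif Nat.blt j 414 then (eT_412_414 j) else (eT_414_416 j)
def eT_408_416 (j : ℕ) : ℕ := bif Nat.blt j 412 then (eT_408_412 j) else (eT_412_416 j)
def eT_416_418 (j : ℕ) : ℕ := bif Nat.blt j 417 then E_416 else E_417
def eT_418_420 (j : ℕ) : ℕ := bif Nat.blt j 419 then E_418 else E_419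
def eT_416_420 (j : ℕ) : ℕ := bif Nat.blt j 418 then (eT_416_418 j) else (eT_418_420 j)
def eT_420_422 (j : ℕ) : ℕ := bif Nat.blt j 421 then E_420 else E_421
def eT_422_424 (j : ℕ) : ℕ := bif Nat.blt j 423 then E_422 else E_423
def eT_420_424 (j : ℕ) : ℕ := bif Nat.blt j 422 then (eT_420_422 j) else (eT_422_424 j)
def eT_416_424 (j : ℕ) : ℕ := bif Nat.blt j 420 then (eT_416_420 j) else (eT_420_424 j)
def eT_408_424 (j : ℕ) : ℕ := bif Nat.blt j 416 then (eT_408_416 j) else (eT_416_424 j)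
def eT_424_426 (j : ℕ) : ℕ := bif Nat.blt j 425 then E_424 else E_425
def eT_426_428 (j : ℕ) : ℕ := bif Nat.blt j 427 then E_426 else E_427
def eT_424_428 (j : ℕ) : ℕ := bif Nat.blt j 426 then (eT_424_426 j) else (eT_426_428 j)
def eT_428_430 (j : ℕ) : ℕ := bif Nat.blt j 429 then E_428 else E_429
def eT_430_432 (j : ℕ) : ℕ := bif Nat.blt j 431 then E_430 else E_431
def eT_428_432 (j : ℕ) : ℕ := bif Nat.blt j 430 then (eT_428_430 j) else (eT_430_432 j)
def eT_424_432 (j : ℕ) : ℕ := bif Nat.blt j 428 then (eT_424_428 j) else (eT_428_432 j)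
def eT_432_434 (j : ℕ) : ℕ := bif Nat.blt j 433 then E_432 else E_433
def eT_434_436 (j : ℕ) : ℕ := bif Nat.blt j 435 then E_434 else E_435
def eT_432_436 (j : ℕ) : ℕ := bif Nat.blt j 434 then (eT_432_434 j) else (eT_434_436 j)
def eT_436_438 (j : ℕ) : ℕ := bif Nat.blt j 437 then E_436 else E_437
def eT_438_440 (j : ℕ) : ℕ := bif Nat.blt j 439 then E_438 else E_439
def eT_436_440 (j : ℕ) : ℕ := bif Nat.blt j 438 then (eT_436_438 j) else (eT_438_440 j)
def eT_432_440 (j : ℕ) : ℕ := bif Nat.blt j 436 then (eT_432_436 j) else (eT_436_440 j)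
def eT_424_440 (j : ℕ) : ℕ := bif Nat.blt j 432 then (eT_424_432 j) else (eT_432_440 j)
def eT_408_440 (j : ℕ) : ℕ := bif Nat.blt j 424 then (eT_408_424 j) else (eT_424_440 j)
def eT_377_440 (j : ℕ) : ℕ := bif Nat.blt j 408 then (eT_377_408 j) else (eT_408_440 j)
def eT_441_443 (j : ℕ) : ℕ := bif Nat.blt j 442 then E_441 else E_442
def eT_440_443 (j : ℕ) : ℕ := bif Nat.blt j 441 then E_440 else (eT_441_443 j)
def eT_443_445 (j : ℕ) : ℕ := bif Nat.blt j 444 then E_443 else E_444
def eT_445_447 (j : ℕ) : ℕ := bif Nat.blt j 446 then E_445 else E_446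
def eT_443_447 (j : ℕ) : ℕ := bif Nat.blt j 445 then (eT_443_445 j) else (eT_445_447 j)
def eT_440_447 (j : ℕ) : ℕ := bif Nat.blt j 443 then (eT_440_443 j) else (eT_443_447 j)
def eT_447_449 (j : ℕ) : ℕ := bif Nat.blt j 448 then E_447 else E_448
def eT_449_451 (j : ℕ) : ℕ := bif Nat.blt j 450 then E_449 else E_450
def eT_447_451 (j : ℕ) : ℕ := bif Nat.blt j 449 then (eT_447_449 j) else (eT_449_451 j)
def eT_451_453 (j : ℕ) : ℕ := bif Nat.blt j 452 then E_451 else E_452
def eT_453_455 (j : ℕ) : ℕ := bif Nat.blt j 454 then E_453 else E_454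
def eT_451_455 (j : ℕ) : ℕ := bif Nat.blt j 453 then (eT_451_453 j) else (eT_453_455 j)
def eT_447_455 (j : ℕ) : ℕ := bif Nat.blt j 451 then (eT_447_451 j) else (eT_451_455 j)
def eT_440_455 (j : ℕ) : ℕ := bif Nat.blt j 447 then (eT_440_447 j) else (eT_447_455 j)
def eT_455_457 (j : ℕ) : ℕ := bif Nat.blt j 456 then E_455 else E_456
def eT_457_459 (j : ℕ) : ℕ := bif Nat.blt j 458 then E_457 else E_458
def eT_455_459 (j : ℕ) : ℕ := bif Nat.blt j 457 then (eT_455_457 j) else (eT_457_459 j)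
def eT_459_461 (j : ℕ) : ℕ := bif Nat.blt j 460 then E_459 else E_460
def eT_461_463 (j : ℕ) : ℕ := bif Nat.blt j 462 then E_461 else E_462
def eT_459_463 (j : ℕ) : ℕ := bif Nat.blt j 461 then (eT_459_461 j) else (eT_461_463 j)
def eT_455_463 (j : ℕ) : ℕ := bif Nat.blt j 459 then (eT_455_459 j) else (eT_459_463 j)
def eT_463_465 (j : ℕ) : ℕ := bif Nat.blt j 464 then E_463 else E_464
def eT_465_467 (j : ℕ) : ℕ := bif Nat.blt j 466 then E_465 else E_466
def eT_463_467 (j : ℕ) : ℕ := bif Nat.blt j 465 then (eT_463_465 j) else (eT_465_467 j)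
def eT_467_469 (j : ℕ) : ℕ := bif Nat.blt j 468 then E_467 else E_468
def eT_469_471 (j : ℕ) : ℕ := bif Nat.blt j 470 then E_469 else E_470
def eT_467_471 (j : ℕ) : ℕ := bif Nat.blt j 469 then (eT_467_469 j) else (eT_469_471 j)
def eT_463_471 (j : ℕ) : ℕ := bif Nat.blt j 467 then (eT_463_467 j) else (eT_467_471 j)
def eT_455_471 (j : ℕ) : ℕ := bif Nat.blt j 463 then (eT_455_463 j) else (eT_463_471 j)
def eT_440_471 (j : ℕ) : ℕ := bif Nat.blt j 455 then (eT_440_455 j) else (eT_455_471 j)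
def eT_471_473 (j : ℕ) : ℕ := bif Nat.blt j 472 then E_471 else E_472
def eT_473_475 (j : ℕ) : ℕ := bif Nat.blt j 474 then E_473 else E_474
def eT_471_475 (j : ℕ) : ℕ := bif Nat.blt j 473 then (eT_471_473 j) else (eT_473_475 j)
def eT_475_477 (j : ℕ) : ℕ := bif Nat.blt j 476 then E_475 else E_476
def eT_477_479 (j : ℕ) : ℕ := bif Nat.blt j 478 then E_477 else E_478
def eT_475_479 (j : ℕ) : ℕ := bif Nat.blt j 477 then (eT_475_477 j) else (eT_477_479 j)
def eT_471_479 (j : ℕ) : ℕ := bif Nat.blt j 475 then (eT_471_475 j) else (eT_475_479 j)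
def eT_479_481 (j : ℕ) : ℕ := bif Nat.blt j 480 then E_479 else E_480
def eT_481_483 (j : ℕ) : ℕ := bif Nat.blt j 482 then E_481 else E_482
def eT_479_483 (j : ℕ) : ℕ := bif Nat.blt j 481 then (eT_479_481 j) else (eT_481_483 j)
def eT_483_485 (j : ℕ) : ℕ := bif Nat.blt j 484 then E_483 else E_484
def eT_485_487 (j : ℕ) : ℕ := bif Nat.blt j 486 then E_485 else E_486
def eT_483_487 (j : ℕ) : ℕ := bif Nat.blt j 485 then (eT_483_485 j) else (eT_485_487 j)
def eT_479_487 (j : ℕ) : ℕ := bif Nat.blt j 483 then (eT_479_483 j) else (eT_483_487 j)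
def eT_471_487 (j : ℕ) : ℕ := bif Nat.blt j 479 then (eT_471_479 j) else (eT_479_487 j)
def eT_487_489 (j : ℕ) : ℕ := bif Nat.blt j 488 then E_487 else E_488
def eT_489_491 (j : ℕ) : ℕ := bif Nat.blt j 490 then E_489 else E_490
def eT_487_491 (j : ℕ) : ℕ := bif Nat.blt j 489 then (eT_487_489 j) else (eT_489_491 j)
def eT_491_493 (j : ℕ) : ℕ := bif Nat.blt j 492 then E_491 else E_492
def eT_493_495 (j : ℕ) : ℕ := bif Nat.blt j 494 then E_493 else E_494
def eT_491_495 (j : ℕ) : ℕ := bif Nat.blt j 493 then (eT_491_493 j) else (eT_493_495 j)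
def eT_487_495 (j : ℕ) : ℕ := bif Nat.blt j 491 then (eT_487_491 j) else (eT_491_495 j)
def eT_495_497 (j : ℕ) : ℕ := bif Nat.blt j 496 then E_495 else E_496
def eT_497_499 (j : ℕ) : ℕ := bif Nat.blt j 498 then E_497 else E_498
def eT_495_499 (j : ℕ) : ℕ := bif Nat.blt j 497 then (eT_495_497 j) else (eT_497_499 j)
def eT_499_501 (j : ℕ) : ℕ := bif Nat.blt j 500 then E_499 else E_500
def eT_501_503 (j : ℕ) : ℕ := bif Nat.blt j 502 then E_501 else E_502
def eT_499_503 (j : ℕ) : ℕ := bif Nat.blt j 501 then (eT_499_501 j) else (eT_501_503 j)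
def eT_495_503 (j : ℕ) : ℕ := bif Nat.blt j 499 then (eT_495_499 j) else (eT_499_503 j)
def eT_487_503 (j : ℕ) : ℕ := bif Nat.blt j 495 then (eT_487_495 j) else (eT_495_503 j)
def eT_471_503 (j : ℕ) : ℕ := bif Nat.blt j 487 then (eT_471_487 j) else (eT_487_503 j)
def eT_440_503 (j : ℕ) : ℕ := bif Nat.blt j 471 then (eT_440_471 j) else (eT_471_503 j)
def eT_377_503 (j : ℕ) : ℕ := bif Nat.blt j 440 then (eT_377_440 j) else (eT_440_503 j)
def eT_251_503 (j : ℕ) : ℕ := bif Nat.blt j 377 then (eT_251_377 j) else (eT_377_503 j)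
def eT_0_503 (j : ℕ) : ℕ := bif Nat.blt j 251 then (eT_0_251 j) else (eT_251_503 j)
def eT_504_506 (j : ℕ) : ℕ := bif Nat.blt j 505 then E_504 else E_505
def eT_503_506 (j : ℕ) : ℕ := bif Nat.blt j 504 then E_503 else (eT_504_506 j)
def eT_506_508 (j : ℕ) : ℕ := bif Nat.blt j 507 then E_506 else E_507
def eT_508_510 (j : ℕ) : ℕ := bif Nat.blt j 509 then E_508 else E_509
def eT_506_510 (j : ℕ) : ℕ := bif Nat.blt j 508 then (eT_506_508 j) else (eT_508_510 j)
def eT_503_510 (j : ℕ) : ℕ := bif Nat.blt j 506 then (eT_503_506 j) else (eT_506_510 j)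
def eT_510_512 (j : ℕ) : ℕ := bif Nat.blt j 511 then E_510 else E_511
def eT_512_514 (j : ℕ) : ℕ := bif Nat.blt j 513 then E_512 else E_513
def eT_510_514 (j : ℕ) : ℕ := bif Nat.blt j 512 then (eT_510_512 j) else (eT_512_514 j)
def eT_514_516 (j : ℕ) : ℕ := bif Nat.blt j 515 then E_514 else E_515
def eT_516_518 (j : ℕ) : ℕ := bif Nat.blt j 517 then E_516 else E_517
def eT_514_518 (j : ℕ) : ℕ := bif Nat.blt j 516 then (eT_514_516 j) else (eT_516_518 j)
def eT_510_518 (j : ℕ) : ℕ := bif Nat.blt j 514 then (eT_510_514 j) else (eT_514_518 j)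
def eT_503_518 (j : ℕ) : ℕ := bif Nat.blt j 510 then (eT_503_510 j) else (eT_510_518 j)
def eT_518_520 (j : ℕ) : ℕ := bif Nat.blt j 519 then E_518 else E_519
def eT_520_522 (j : ℕ) : ℕ := bif Nat.blt j 521 then E_520 else E_521
def eT_518_522 (j : ℕ) : ℕ := bif Nat.blt j 520 then (eT_518_520 j) else (eT_520_522 j)
def eT_522_524 (j : ℕ) : ℕ := bif Nat.blt j 523 then E_522 else E_523
def eT_524_526 (j : ℕ) : ℕ := bif Nat.blt j 525 then E_524 else E_525
def eT_522_526 (j : ℕ) : ℕ := bif Nat.blt j 524 then (eT_522_524 j) else (eT_524_526 j)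
def eT_518_526 (j : ℕ) : ℕ := bif Nat.blt j 522 then (eT_518_522 j) else (eT_522_526 j)
def eT_526_528 (j : ℕ) : ℕ := bif Nat.blt j 527 then E_526 else E_527
def eT_528_530 (j : ℕ) : ℕ := bif Nat.blt j 529 then E_528 else E_529
def eT_526_530 (j : ℕ) : ℕ := bif Nat.blt j 528 then (eT_526_528 j) else (eT_528_530 j)
def eT_530_532 (j : ℕ) : ℕ := bif Nat.blt j 531 then E_530 else E_531
def eT_532_534 (j : ℕ) : ℕ := bif Nat.blt j 533 then E_532 else E_533
def eT_530_534 (j : ℕ) : ℕ := bif Nat.blt j 532 then (eT_530_532 j) else (eT_532_534 j)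
def eT_526_534 (j : ℕ) : ℕ := bif Nat.blt j 530 then (eT_526_530 j) else (eT_530_534 j)
def eT_518_534 (j : ℕ) : ℕ := bif Nat.blt j 526 then (eT_518_526 j) else (eT_526_534 j)
def eT_503_534 (j : ℕ) : ℕ := bif Nat.blt j 518 then (eT_503_518 j) else (eT_518_534 j)
def eT_535_537 (j : ℕ) : ℕ := bif Nat.blt j 536 then E_535 else E_536
def eT_534_537 (j : ℕ) : ℕ := bif Nat.blt j 535 then E_534 else (eT_535_537 j)
def eT_537_539 (j : ℕ) : ℕ := bif Nat.blt j 538 then E_537 else E_538
def eT_539_541 (j : ℕ) : ℕ := bif Nat.blt j 540 then E_539 else E_540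
def eT_537_541 (j : ℕ) : ℕ := bif Nat.blt j 539 then (eT_537_539 j) else (eT_539_541 j)
def eT_534_541 (j : ℕ) : ℕ := bif Nat.blt j 537 then (eT_534_537 j) else (eT_537_541 j)
def eT_541_543 (j : ℕ) : ℕ := bif Nat.blt j 542 then E_541 else E_542
def eT_543_545 (j : ℕ) : ℕ := bif Nat.blt j 544 then E_543 else E_544
def eT_541_545 (j : ℕ) : ℕ := bif Nat.blt j 543 then (eT_541_543 j) else (eT_543_545 j)
def eT_545_547 (j : ℕ) : ℕ := bif Nat.blt j 546 then E_545 else E_546
def eT_547_549 (j : ℕ) : ℕ := bif Nat.blt j 548 then E_547 else E_548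
def eT_545_549 (j : ℕ) : ℕ := bif Nat.blt j 547 then (eT_545_547 j) else (eT_547_549 j)
def eT_541_549 (j : ℕ) : ℕ := bif Nat.blt j 545 then (eT_541_545 j) else (eT_545_549 j)
def eT_534_549 (j : ℕ) : ℕ := bif Nat.blt j 541 then (eT_534_541 j) else (eT_541_549 j)
def eT_549_551 (j : ℕ) : ℕ := bif Nat.blt j 550 then E_549 else E_550
def eT_551_553 (j : ℕ) : ℕ := bif Nat.blt j 552 then E_551 else E_552
def eT_549_553 (j : ℕ) : ℕ := bif Nat.blt j 551 then (eT_549_551 j) else (eT_551_553 j)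
def eT_553_555 (j : ℕ) : ℕ := bif Nat.blt j 554 then E_553 else E_554
def eT_555_557 (j : ℕ) : ℕ := bif Nat.blt j 556 then E_555 else E_556
def eT_553_557 (j : ℕ) : ℕ := bif Nat.blt j 555 then (eT_553_555 j) else (eT_555_557 j)
def eT_549_557 (j : ℕ) : ℕ := bif Nat.blt j 553 then (eT_549_553 j) else (eT_553_557 j)
def eT_557_559 (j : ℕ) : ℕ := bif Nat.blt j 558 then E_557 else E_558
def eT_559_561 (j : ℕ) : ℕ := bif Nat.blt j 560 then E_559 else E_560
def eT_557_561 (j : ℕ) : ℕ := bif Nat.blt j 559 then (eT_557_559 j) else (eT_559_561 j)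
def eT_561_563 (j : ℕ) : ℕ := bif Nat.blt j 562 then E_561 else E_562
def eT_563_565 (j : ℕ) : ℕ := bif Nat.blt j 564 then E_563 else E_564
def eT_561_565 (j : ℕ) : ℕ := bif Nat.blt j 563 then (eT_561_563 j) else (eT_563_565 j)
def eT_557_565 (j : ℕ) : ℕ := bif Nat.blt j 561 then (eT_557_561 j) else (eT_561_565 j)
def eT_549_565 (j : ℕ) : ℕ := bif Nat.blt j 557 then (eT_549_557 j) else (eT_557_565 j)
def eT_534_565 (j : ℕ) : ℕ := bif Nat.blt j 549 then (eT_534_549 j) else (eT_549_565 j)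
def eT_503_565 (j : ℕ) : ℕ := bif Nat.blt j 534 then (eT_503_534 j) else (eT_534_565 j)
def eT_566_568 (j : ℕ) : ℕ := bif Nat.blt j 567 then E_566 else E_567
def eT_565_568 (j : ℕ) : ℕ := bif Nat.blt j 566 then E_565 else (eT_566_568 j)
def eT_568_570 (j : ℕ) : ℕ := bif Nat.blt j 569 then E_568 else E_569
def eT_570_572 (j : ℕ) : ℕ := bif Nat.blt j 571 then E_570 else E_571
def eT_568_572 (j : ℕ) : ℕ := bif Nat.blt j 570 then (eT_568_570 j) else (eT_570_572 j)
def eT_565_572 (j : ℕ) : ℕ := bif Nat.blt j 568 then (eT_565_568 j) else (eT_568_572 j)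
def eT_572_574 (j : ℕ) : ℕ := bif Nat.blt j 573 then E_572 else E_573
def eT_574_576 (j : ℕ) : ℕ := bif Nat.blt j 575 then E_574 else E_575
def eT_572_576 (j : ℕ) : ℕ := bif Nat.blt j 574 then (eT_572_574 j) else (eT_574_576 j)
def eT_576_578 (j : ℕ) : ℕ := bif Nat.blt j 577 then E_576 else E_577
def eT_578_580 (j : ℕ) : ℕ := bif Nat.blt j 579 then E_578 else E_579
def eT_576_580 (j : ℕ) : ℕ := bif Nat.blt j 578 then (eT_576_578 j) else (eT_578_580 j)
def eT_572_580 (j : ℕ) : ℕ := bif Nat.blt j 576 then (eT_572_576 j) else (eT_576_580 j)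
def eT_565_580 (j : ℕ) : ℕ := bif Nat.blt j 572 then (eT_565_572 j) else (eT_572_580 j)
def eT_580_582 (j : ℕ) : ℕ := bif Nat.blt j 581 then E_580 else E_581
def eT_582_584 (j : ℕ) : ℕ := bif Nat.blt j 583 then E_582 else E_583
def eT_580_584 (j : ℕ) : ℕ := bif Nat.blt j 582 then (eT_580_582 j) else (eT_582_584 j)
def eT_584_586 (j : ℕ) : ℕ := bif Nat.blt j 585 then E_584 else E_585
def eT_586_588 (j : ℕ) : ℕ := bif Nat.blt j 587 then E_586 else E_587
def eT_584_588 (j : ℕ) : ℕ := bif Nat.blt j 586 then (eT_584_586 j) else (eT_586_588 j)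
def eT_580_588 (j : ℕ) : ℕ := bif Nat.blt j 584 then (eT_580_584 j) else (eT_584_588 j)
def eT_588_590 (j : ℕ) : ℕ := bif Nat.blt j 589 then E_588 else E_589
def eT_590_592 (j : ℕ) : ℕ := bif Nat.blt j 591 then E_590 else E_591
def eT_588_592 (j : ℕ) : ℕ := bif Nat.blt j 590 then (eT_588_590 j) else (eT_590_592 j)
def eT_592_594 (j : ℕ) : ℕ := bif Nat.blt j 593 then E_592 else E_593
def eT_594_596 (j : ℕ) : ℕ := bif Nat.blt j 595 then E_594 else E_595
def eT_592_596 (j : ℕ) : ℕ := bif Nat.blt j 594 then (eT_592_594 j) else (eT_594_596 j)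
def eT_588_596 (j : ℕ) : ℕ := bif Nat.blt j 592 then (eT_588_592 j) else (eT_592_596 j)
def eT_580_596 (j : ℕ) : ℕ := bif Nat.blt j 588 then (eT_580_588 j) else (eT_588_596 j)
def eT_565_596 (j : ℕ) : ℕ := bif Nat.blt j 580 then (eT_565_580 j) else (eT_580_596 j)
def eT_596_598 (j : ℕ) : ℕ := bif Nat.blt j 597 then E_596 else E_597
def eT_598_600 (j : ℕ) : ℕ := bif Nat.blt j 599 then E_598 else E_599
def eT_596_600 (j : ℕ) : ℕ := bif Nat.blt j 598 then (eT_596_598 j) else (eT_598_600 j)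
def eT_600_602 (j : ℕ) : ℕ := bif Nat.blt j 601 then E_600 else E_601
def eT_602_604 (j : ℕ) : ℕ := bif Nat.blt j 603 then E_602 else E_603
def eT_600_604 (j : ℕ) : ℕ := bif Nat.blt j 602 then (eT_600_602 j) else (eT_602_604 j)
def eT_596_604 (j : ℕ) : ℕ := bif Nat.blt j 600 then (eT_596_600 j) else (eT_600_604 j)
def eT_604_606 (j : ℕ) : ℕ := bif Nat.blt j 605 then E_604 else E_605
def eT_606_608 (j : ℕ) : ℕ := bif Nat.blt j 607 then E_606 else E_607
def eT_604_608 (j : ℕ) : ℕ := bif Nat.blt j 606 then (eT_604_606 j) else (eT_606_608 j)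
def eT_608_610 (j : ℕ) : ℕ := bif Nat.blt j 609 then E_608 else E_609
def eT_610_612 (j : ℕ) : ℕ := bif Nat.blt j 611 then E_610 else E_611
def eT_608_612 (j : ℕ) : ℕ := bif Nat.blt j 610 then (eT_608_610 j) else (eT_610_612 j)
def eT_604_612 (j : ℕ) : ℕ := bif Nat.blt j 608 then (eT_604_608 j) else (eT_608_612 j)
def eT_596_612 (j : ℕ) : ℕ := bif Nat.blt j 604 then (eT_596_604 j) else (eT_604_612 j)
def eT_612_614 (j : ℕ) : ℕ := bif Nat.blt j 613 then E_612 else E_613
def eT_614_616 (j : ℕ) : ℕ := bif Nat.blt j 615 then E_614 else E_615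
def eT_612_616 (j : ℕ) : ℕ := bif Nat.blt j 614 then (eT_612_614 j) else (eT_614_616 j)
def eT_616_618 (j : ℕ) : ℕ := bif Nat.blt j 617 then E_616 else E_617
def eT_618_620 (j : ℕ) : ℕ := bif Nat.blt j 619 then E_618 else E_619
def eT_616_620 (j : ℕ) : ℕ := bif Nat.blt j 618 then (eT_616_618 j) else (eT_618_620 j)
def eT_612_620 (j : ℕ) : ℕ := bif Nat.blt j 616 then (eT_612_616 j) else (eT_616_620 j)
def eT_620_622 (j : ℕ) : ℕ := bif Nat.blt j 621 then E_620 else E_621
def eT_622_624 (j : ℕ) : ℕ := bif Nat.blt j 623 then E_622 else E_623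
def eT_620_624 (j : ℕ) : ℕ := bif Nat.blt j 622 then (eT_620_622 j) else (eT_622_624 j)
def eT_624_626 (j : ℕ) : ℕ := bif Nat.blt j 625 then E_624 else E_625
def eT_626_628 (j : ℕ) : ℕ := bif Nat.blt j 627 then E_626 else E_627
def eT_624_628 (j : ℕ) : ℕ := bif Nat.blt j 626 then (eT_624_626 j) else (eT_626_628 j)
def eT_620_628 (j : ℕ) : ℕ := bif Nat.blt j 624 then (eT_620_624 j) else (eT_624_628 j)
def eT_612_628 (j : ℕ) : ℕ := bif Nat.blt j 620 then (eT_612_620 j) else (eT_620_628 j)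
def eT_596_628 (j : ℕ) : ℕ := bif Nat.blt j 612 then (eT_596_612 j) else (eT_612_628 j)
def eT_565_628 (j : ℕ) : ℕ := bif Nat.blt j 596 then (eT_565_596 j) else (eT_596_628 j)
def eT_503_628 (j : ℕ) : ℕ := bif Nat.blt j 565 then (eT_503_565 j) else (eT_565_628 j)
def eT_629_631 (j : ℕ) : ℕ := bif Nat.blt j 630 then E_629 else E_630
def eT_628_631 (j : ℕ) : ℕ := bif Nat.blt j 629 then E_628 else (eT_629_631 j)
def eT_631_633 (j : ℕ) : ℕ := bif Nat.blt j 632 then E_631 else E_632
def eT_633_635 (j : ℕ) : ℕ := bif Nat.blt j 634 then E_633 else E_634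
def eT_631_635 (j : ℕ) : ℕ := bif Nat.blt j 633 then (eT_631_633 j) else (eT_633_635 j)
def eT_628_635 (j : ℕ) : ℕ := bif Nat.blt j 631 then (eT_628_631 j) else (eT_631_635 j)
def eT_635_637 (j : ℕ) : ℕ := bif Nat.blt j 636 then E_635 else E_636
def eT_637_639 (j : ℕ) : ℕ := bif Nat.blt j 638 then E_637 else E_638
def eT_635_639 (j : ℕ) : ℕ := bif Nat.blt j 637 then (eT_635_637 j) else (eT_637_639 j)
def eT_639_641 (j : ℕ) : ℕ := bif Nat.blt j 640 then E_639 else E_640
def eT_641_643 (j : ℕ) : ℕ := bif Nat.blt j 642 then E_641 else E_642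
def eT_639_643 (j : ℕ) : ℕ := bif Nat.blt j 641 then (eT_639_641 j) else (eT_641_643 j)
def eT_635_643 (j : ℕ) : ℕ := bif Nat.blt j 639 then (eT_635_639 j) else (eT_639_643 j)
def eT_628_643 (j : ℕ) : ℕ := bif Nat.blt j 635 then (eT_628_635 j) else (eT_635_643 j)
def eT_643_645 (j : ℕ) : ℕ := bif Nat.blt j 644 then E_643 else E_644
def eT_645_647 (j : ℕ) : ℕ := bif Nat.blt j 646 then E_645 else E_646
def eT_643_647 (j : ℕ) : ℕ := bif Nat.blt j 645 then (eT_643_645 j) else (eT_645_647 j)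
def eT_647_649 (j : ℕ) : ℕ := bif Nat.blt j 648 then E_647 else E_648
def eT_649_651 (j : ℕ) : ℕ := bif Nat.blt j 650 then E_649 else E_650
def eT_647_651 (j : ℕ) : ℕ := bif Nat.blt j 649 then (eT_647_649 j) else (eT_649_651 j)
def eT_643_651 (j : ℕ) : ℕ := bif Nat.blt j 647 then (eT_643_647 j) else (eT_647_651 j)
def eT_651_653 (j : ℕ) : ℕ := bif Nat.blt j 652 then E_651 else E_652
def eT_653_655 (j : ℕ) : ℕ := bif Nat.blt j 654 then E_653 else E_654
def eT_651_655 (j : ℕ) : ℕ := bif Nat.blt j 653 then (eT_651_653 j) else (eT_653_655 j)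
def eT_655_657 (j : ℕ) : ℕ := bif Nat.blt j 656 then E_655 else E_656
def eT_657_659 (j : ℕ) : ℕ := bif Nat.blt j 658 then E_657 else E_658
def eT_655_659 (j : ℕ) : ℕ := bif Nat.blt j 657 then (eT_655_657 j) else (eT_657_659 j)
def eT_651_659 (j : ℕ) : ℕ := bif Nat.blt j 655 then (eT_651_655 j) else (eT_655_659 j)
def eT_643_659 (j : ℕ) : ℕ := bif Nat.blt j 651 then (eT_643_651 j) else (eT_651_659 j)
def eT_628_659 (j : ℕ) : ℕ := bif Nat.blt j 643 then (eT_628_643 j) else (eT_643_659 j)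
def eT_659_661 (j : ℕ) : ℕ := bif Nat.blt j 660 then E_659 else E_660
def eT_661_663 (j : ℕ) : ℕ := bif Nat.blt j 662 then E_661 else E_662
def eT_659_663 (j : ℕ) : ℕ := bif Nat.blt j 661 then (eT_659_661 j) else (eT_661_663 j)
def eT_663_665 (j : ℕ) : ℕ := bif Nat.blt j 664 then E_663 else E_664
def eT_665_667 (j : ℕ) : ℕ := bif Nat.blt j 666 then E_665 else E_666
def eT_663_667 (j : ℕ) : ℕ := bif Nat.blt j 665 then (eT_663_665 j) else (eT_665_667 j)
def eT_659_667 (j : ℕ) : ℕ := bif Nat.blt j 663 then (eT_659_663 j) else (eT_663_667 j)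
def eT_667_669 (j : ℕ) : ℕ := bif Nat.blt j 668 then E_667 else E_668
def eT_669_671 (j : ℕ) : ℕ := bif Nat.blt j 670 then E_669 else E_670
def eT_667_671 (j : ℕ) : ℕ := bif Nat.blt j 669 then (eT_667_669 j) else (eT_669_671 j)
def eT_671_673 (j : ℕ) : ℕ := bif Nat.blt j 672 then E_671 else E_672
def eT_673_675 (j : ℕ) : ℕ := bif Nat.blt j 674 then E_673 else E_674
def eT_671_675 (j : ℕ) : ℕ := bif Nat.blt j 673 then (eT_671_673 j) else (eT_673_675 j)
def eT_667_675 (j : ℕ) : ℕ := bif Nat.blt j 671 then (eT_667_671 j) else (eT_671_675 j)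
def eT_659_675 (j : ℕ) : ℕ := bif Nat.blt j 667 then (eT_659_667 j) else (eT_667_675 j)
def eT_675_677 (j : ℕ) : ℕ := bif Nat.blt j 676 then E_675 else E_676
def eT_677_679 (j : ℕ) : ℕ := bif Nat.blt j 678 then E_677 else E_678
def eT_675_679 (j : ℕ) : ℕ := bif Nat.blt j 677 then (eT_675_677 j) else (eT_677_679 j)
def eT_679_681 (j : ℕ) : ℕ := bif Nat.blt j 680 then E_679 else E_680
def eT_681_683 (j : ℕ) : ℕ := bif Nat.blt j 682 then E_681 else E_682
def eT_679_683 (j : ℕ) : ℕ := bif Nat.blt j 681 then (eT_679_681 j) else (eT_681_683 j)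
def eT_675_683 (j : ℕ) : ℕ := bif Nat.blt j 679 then (eT_675_679 j) else (eT_679_683 j)
def eT_683_685 (j : ℕ) : ℕ := bif Nat.blt j 684 then E_683 else E_684
def eT_685_687 (j : ℕ) : ℕ := bif Nat.blt j 686 then E_685 else E_686
def eT_683_687 (j : ℕ) : ℕ := bif Nat.blt j 685 then (eT_683_685 j) else (eT_685_687 j)
def eT_687_689 (j : ℕ) : ℕ := bif Nat.blt j 688 then E_687 else E_688
def eT_689_691 (j : ℕ) : ℕ := bif Nat.blt j 690 then E_689 else E_690
def eT_687_691 (j : ℕ) : ℕ := bif Nat.blt j 689 then (eT_687_689 j) else (eT_689_691 j)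
def eT_683_691 (j : ℕ) : ℕ := bif Nat.blt j 687 then (eT_683_687 j) else (eT_687_691 j)
def eT_675_691 (j : ℕ) : ℕ := bif Nat.blt j 683 then (eT_675_683 j) else (eT_683_691 j)
def eT_659_691 (j : ℕ) : ℕ := bif Nat.blt j 675 then (eT_659_675 j) else (eT_675_691 j)
def eT_628_691 (j : ℕ) : ℕ := bif Nat.blt j 659 then (eT_628_659 j) else (eT_659_691 j)
def eT_692_694 (j : ℕ) : ℕ := bif Nat.blt j 693 then E_692 else E_693
def eT_691_694 (j : ℕ) : ℕ := bif Nat.blt j 692 then E_691 else (eT_692_694 j)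
def eT_694_696 (j : ℕ) : ℕ := bif Nat.blt j 695 then E_694 else E_695
def eT_696_698 (j : ℕ) : ℕ := bif Nat.blt j 697 then E_696 else E_697
def eT_694_698 (j : ℕ) : ℕ := bif Nat.blt j 696 then (eT_694_696 j) else (eT_696_698 j)
def eT_691_698 (j : ℕ) : ℕ := bif Nat.blt j 694 then (eT_691_694 j) else (eT_694_698 j)
def eT_698_700 (j : ℕ) : ℕ := bif Nat.blt j 699 then E_698 else E_699
def eT_700_702 (j : ℕ) : ℕ := bif Nat.blt j 701 then E_700 else E_701
def eT_698_702 (j : ℕ) : ℕ := bif Nat.blt j 700 then (eT_698_700 j) else (eT_700_702 j)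
def eT_702_704 (j : ℕ) : ℕ := bif Nat.blt j 703 then E_702 else E_703
def eT_704_706 (j : ℕ) : ℕ := bif Nat.blt j 705 then E_704 else E_705
def eT_702_706 (j : ℕ) : ℕ := bif Nat.blt j 704 then (eT_702_704 j) else (eT_704_706 j)
def eT_698_706 (j : ℕ) : ℕ := bif Nat.blt j 702 then (eT_698_702 j) else (eT_702_706 j)
def eT_691_706 (j : ℕ) : ℕ := bif Nat.blt j 698 then (eT_691_698 j) else (eT_698_706 j)
def eT_706_708 (j : ℕ) : ℕ := bif Nat.blt j 707 then E_706 else E_707
def eT_708_710 (j : ℕ) : ℕ := bif Nat.blt j 709 then E_708 else E_709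
def eT_706_710 (j : ℕ) : ℕ := bif Nat.blt j 708 then (eT_706_708 j) else (eT_708_710 j)
def eT_710_712 (j : ℕ) : ℕ := bif Nat.blt j 711 then E_710 else E_711
def eT_712_714 (j : ℕ) : ℕ := bif Nat.blt j 713 then E_712 else E_713
def eT_710_714 (j : ℕ) : ℕ := bif Nat.blt j 712 then (eT_710_712 j) else (eT_712_714 j)
def eT_706_714 (j : ℕ) : ℕ := bif Nat.blt j 710 then (eT_706_710 j) else (eT_710_714 j)
def eT_714_716 (j : ℕ) : ℕ := bif Nat.blt j 715 then E_714 else E_715
def eT_716_718 (j : ℕ) : ℕ := bif Nat.blt j 717 then E_716 else E_717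
def eT_714_718 (j : ℕ) : ℕ := bif Nat.blt j 716 then (eT_714_716 j) else (eT_716_718 j)
def eT_718_720 (j : ℕ) : ℕ := bif Nat.blt j 719 then E_718 else E_719
def eT_720_722 (j : ℕ) : ℕ := bif Nat.blt j 721 then E_720 else E_721
def eT_718_722 (j : ℕ) : ℕ := bif Nat.blt j 720 then (eT_718_720 j) else (eT_720_722 j)
def eT_714_722 (j : ℕ) : ℕ := bif Nat.blt j 718 then (eT_714_718 j) else (eT_718_722 j)
def eT_706_722 (j : ℕ) : ℕ := bif Nat.blt j 714 then (eT_706_714 j) else (eT_714_722 j)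
def eT_691_722 (j : ℕ) : ℕ := bif Nat.blt j 706 then (eT_691_706 j) else (eT_706_722 j)
def eT_722_724 (j : ℕ) : ℕ := bif Nat.blt j 723 then E_722 else E_723
def eT_724_726 (j : ℕ) : ℕ := bif Nat.blt j 725 then E_724 else E_725
def eT_722_726 (j : ℕ) : ℕ := bif Nat.blt j 724 then (eT_722_724 j) else (eT_724_726 j)
def eT_726_728 (j : ℕ) : ℕ := bif Nat.blt j 727 then E_726 else E_727
def eT_728_730 (j : ℕ) : ℕ := bif Nat.blt j 729 then E_728 else E_729
def eT_726_730 (j : ℕ) : ℕ := bif Nat.blt j 728 then (eT_726_728 j) else (eT_728_730 j)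
def eT_722_730 (j : ℕ) : ℕ := bif Nat.blt j 726 then (eT_722_726 j) else (eT_726_730 j)
def eT_730_732 (j : ℕ) : ℕ := bif Nat.blt j 731 then E_730 else E_731
def eT_732_734 (j : ℕ) : ℕ := bif Nat.blt j 733 then E_732 else E_733
def eT_730_734 (j : ℕ) : ℕ := bif Nat.blt j 732 then (eT_730_732 j) else (eT_732_734 j)
def eT_734_736 (j : ℕ) : ℕ := bif Nat.blt j 735 then E_734 else E_735
def eT_736_738 (j : ℕ) : ℕ := bif Nat.blt j 737 then E_736 else E_737
def eT_734_738 (j : ℕ) : ℕ := bif Nat.blt j 736 then (eT_734_736 j) else (eT_736_738 j)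
def eT_730_738 (j : ℕ) : ℕ := bif Nat.blt j 734 then (eT_730_734 j) else (eT_734_738 j)
def eT_722_738 (j : ℕ) : ℕ := bif Nat.blt j 730 then (eT_722_730 j) else (eT_730_738 j)
def eT_738_740 (j : ℕ) : ℕ := bif Nat.blt j 739 then E_738 else E_739
def eT_740_742 (j : ℕ) : ℕ := bif Nat.blt j 741 then E_740 else E_741
def eT_738_742 (j : ℕ) : ℕ := bif Nat.blt j 740 then (eT_738_740 j) else (eT_740_742 j)
def eT_742_744 (j : ℕ) : ℕ := bif Nat.blt j 743 then E_742 else E_743
def eT_744_746 (j : ℕ) : ℕ := bif Nat.blt j 745 then E_744 else E_745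
def eT_742_746 (j : ℕ) : ℕ := bif Nat.blt j 744 then (eT_742_744 j) else (eT_744_746 j)
def eT_738_746 (j : ℕ) : ℕ := bif Nat.blt j 742 then (eT_738_742 j) else (eT_742_746 j)
def eT_746_748 (j : ℕ) : ℕ := bif Nat.blt j 747 then E_746 else E_747
def eT_748_750 (j : ℕ) : ℕ := bif Nat.blt j 749 then E_748 else E_749
def eT_746_750 (j : ℕ) : ℕ := bif Nat.blt j 748 then (eT_746_748 j) else (eT_748_750 j)
def eT_750_752 (j : ℕ) : ℕ := bif Nat.blt j 751 then E_750 else E_751
def eT_752_754 (j : ℕ) : ℕ := bif Nat.blt j 753 then E_752 else E_753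
def eT_750_754 (j : ℕ) : ℕ := bif Nat.blt j 752 then (eT_750_752 j) else (eT_752_754 j)
def eT_746_754 (j : ℕ) : ℕ := bif Nat.blt j 750 then (eT_746_750 j) else (eT_750_754 j)
def eT_738_754 (j : ℕ) : ℕ := bif Nat.blt j 746 then (eT_738_746 j) else (eT_746_754 j)
def eT_722_754 (j : ℕ) : ℕ := bif Nat.blt j 738 then (eT_722_738 j) else (eT_738_754 j)
def eT_691_754 (j : ℕ) : ℕ := bif Nat.blt j 722 then (eT_691_722 j) else (eT_722_754 j)
def eT_628_754 (j : ℕ) : ℕ := bif Nat.blt j 691 then (eT_628_691 j) else (eT_691_754 j)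
def eT_503_754 (j : ℕ) : ℕ := bif Nat.blt j 628 then (eT_503_628 j) else (eT_628_754 j)
def eT_755_757 (j : ℕ) : ℕ := bif Nat.blt j 756 then E_755 else E_756
def eT_754_757 (j : ℕ) : ℕ := bif Nat.blt j 755 then E_754 else (eT_755_757 j)
def eT_757_759 (j : ℕ) : ℕ := bif Nat.blt j 758 then E_757 else E_758
def eT_759_761 (j : ℕ) : ℕ := bif Nat.blt j 760 then E_759 else E_760
def eT_757_761 (j : ℕ) : ℕ := bif Nat.blt j 759 then (eT_757_759 j) else (eT_759_761 j)
def eT_754_761 (j : ℕ) : ℕ := bif Nat.blt j 757 then (eT_754_757 j) else (eT_757_761 j)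
def eT_761_763 (j : ℕ) : ℕ := bif Nat.blt j 762 then E_761 else E_762
def eT_763_765 (j : ℕ) : ℕ := bif Nat.blt j 764 then E_763 else E_764
def eT_761_765 (j : ℕ) : ℕ := bif Nat.blt j 763 then (eT_761_763 j) else (eT_763_765 j)
def eT_765_767 (j : ℕ) : ℕ := bif Nat.blt j 766 then E_765 else E_766
def eT_767_769 (j : ℕ) : ℕ := bif Nat.blt j 768 then E_767 else E_768
def eT_765_769 (j : ℕ) : ℕ := bif Nat.blt j 767 then (eT_765_767 j) else (eT_767_769 j)
def eT_761_769 (j : ℕ) : ℕ := bif Nat.blt j 765 then (eT_761_765 j) else (eT_765_769 j)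
def eT_754_769 (j : ℕ) : ℕ := bif Nat.blt j 761 then (eT_754_761 j) else (eT_761_769 j)
def eT_769_771 (j : ℕ) : ℕ := bif Nat.blt j 770 then E_769 else E_770
def eT_771_773 (j : ℕ) : ℕ := bif Nat.blt j 772 then E_771 else E_772
def eT_769_773 (j : ℕ) : ℕ := bif Nat.blt j 771 then (eT_769_771 j) else (eT_771_773 j)
def eT_773_775 (j : ℕ) : ℕ := bif Nat.blt j 774 then E_773 else E_774
def eT_775_777 (j : ℕ) : ℕ := bif Nat.blt j 776 then E_775 else E_776
def eT_773_777 (j : ℕ) : ℕ := bif Nat.blt j 775 then (eT_773_775 j) else (eT_775_777 j)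
def eT_769_777 (j : ℕ) : ℕ := bif Nat.blt j 773 then (eT_769_773 j) else (eT_773_777 j)
def eT_777_779 (j : ℕ) : ℕ := bif Nat.blt j 778 then E_777 else E_778
def eT_779_781 (j : ℕ) : ℕ := bif Nat.blt j 780 then E_779 else E_780
def eT_777_781 (j : ℕ) : ℕ := bif Nat.blt j 779 then (eT_777_779 j) else (eT_779_781 j)
def eT_781_783 (j : ℕ) : ℕ := bif Nat.blt j 782 then E_781 else E_782
def eT_783_785 (j : ℕ) : ℕ := bif Nat.blt j 784 then E_783 else E_784
def eT_781_785 (j : ℕ) : ℕ := bif Nat.blt j 783 then (eT_781_783 j) else (eT_783_785 j)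
def eT_777_785 (j : ℕ) : ℕ := bif Nat.blt j 781 then (eT_777_781 j) else (eT_781_785 j)
def eT_769_785 (j : ℕ) : ℕ := bif Nat.blt j 777 then (eT_769_777 j) else (eT_777_785 j)
def eT_754_785 (j : ℕ) : ℕ := bif Nat.blt j 769 then (eT_754_769 j) else (eT_769_785 j)
def eT_785_787 (j : ℕ) : ℕ := bif Nat.blt j 786 then E_785 else E_786
def eT_787_789 (j : ℕ) : ℕ := bif Nat.blt j 788 then E_787 else E_788
def eT_785_789 (j : ℕ) : ℕ := bif Nat.blt j 787 then (eT_785_787 j) else (eT_787_789 j)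
def eT_789_791 (j : ℕ) : ℕ := bif Nat.blt j 790 then E_789 else E_790
def eT_791_793 (j : ℕ) : ℕ := bif Nat.blt j 792 then E_791 else E_792
def eT_789_793 (j : ℕ) : ℕ := bif Nat.blt j 791 then (eT_789_791 j) else (eT_791_793 j)
def eT_785_793 (j : ℕ) : ℕ := bif Nat.blt j 789 then (eT_785_789 j) else (eT_789_793 j)
def eT_793_795 (j : ℕ) : ℕ := bif Nat.blt j 794 then E_793 else E_794
def eT_795_797 (j : ℕ) : ℕ := bif Nat.blt j 796 then E_795 else E_796
def eT_793_797 (j : ℕ) : ℕ := bif Nat.blt j 795 then (eT_793_795 j) else (eT_795_797 j)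
def eT_797_799 (j : ℕ) : ℕ := bif Nat.blt j 798 then E_797 else E_798
def eT_799_801 (j : ℕ) : ℕ := bif Nat.blt j 800 then E_799 else E_800
def eT_797_801 (j : ℕ) : ℕ := bif Nat.blt j 799 then (eT_797_799 j) else (eT_799_801 j)
def eT_793_801 (j : ℕ) : ℕ := bif Nat.blt j 797 then (eT_793_797 j) else (eT_797_801 j)
def eT_785_801 (j : ℕ) : ℕ := bif Nat.blt j 793 then (eT_785_793 j) else (eT_793_801 j)
def eT_801_803 (j : ℕ) : ℕ := bif Nat.blt j 802 then E_801 else E_802
def eT_803_805 (j : ℕ) : ℕ := bif Nat.blt j 804 then E_803 else E_804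
def eT_801_805 (j : ℕ) : ℕ := bif Nat.blt j 803 then (eT_801_803 j) else (eT_803_805 j)
def eT_805_807 (j : ℕ) : ℕ := bif Nat.blt j 806 then E_805 else E_806
def eT_807_809 (j : ℕ) : ℕ := bif Nat.blt j 808 then E_807 else E_808
def eT_805_809 (j : ℕ) : ℕ := bif Nat.blt j 807 then (eT_805_807 j) else (eT_807_809 j)
def eT_801_809 (j : ℕ) : ℕ := bif Nat.blt j 805 then (eT_801_805 j) else (eT_805_809 j)
def eT_809_811 (j : ℕ) : ℕ := bif Nat.blt j 810 then E_809 else E_810
def eT_811_813 (j : ℕ) : ℕ := bif Nat.blt j 812 then E_811 else E_812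
def eT_809_813 (j : ℕ) : ℕ := bif Nat.blt j 811 then (eT_809_811 j) else (eT_811_813 j)
def eT_813_815 (j : ℕ) : ℕ := bif Nat.blt j 814 then E_813 else E_814
def eT_815_817 (j : ℕ) : ℕ := bif Nat.blt j 816 then E_815 else E_816
def eT_813_817 (j : ℕ) : ℕ := bif Nat.blt j 815 then (eT_813_815 j) else (eT_815_817 j)
def eT_809_817 (j : ℕ) : ℕ := bif Nat.blt j 813 then (eT_809_813 j) else (eT_813_817 j)
def eT_801_817 (j : ℕ) : ℕ := bif Nat.blt j 809 then (eT_801_809 j) else (eT_809_817 j)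
def eT_785_817 (j : ℕ) : ℕ := bif Nat.blt j 801 then (eT_785_801 j) else (eT_801_817 j)
def eT_754_817 (j : ℕ) : ℕ := bif Nat.blt j 785 then (eT_754_785 j) else (eT_785_817 j)
def eT_818_820 (j : ℕ) : ℕ := bif Nat.blt j 819 then E_818 else E_819
def eT_817_820 (j : ℕ) : ℕ := bif Nat.blt j 818 then E_817 else (eT_818_820 j)
def eT_820_822 (j : ℕ) : ℕ := bif Nat.blt j 821 then E_820 else E_821
def eT_822_824 (j : ℕ) : ℕ := bif Nat.blt j 823 then E_822 else E_823
def eT_820_824 (j : ℕ) : ℕ := bif Nat.blt j 822 then (eT_820_822 j) else (eT_822_824 j)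
def eT_817_824 (j : ℕ) : ℕ := bif Nat.blt j 820 then (eT_817_820 j) else (eT_820_824 j)
def eT_824_826 (j : ℕ) : ℕ := bif Nat.blt j 825 then E_824 else E_825
def eT_826_828 (j : ℕ) : ℕ := bif Nat.blt j 827 then E_826 else E_827
def eT_824_828 (j : ℕ) : ℕ := bif Nat.blt j 826 then (eT_824_826 j) else (eT_826_828 j)
def eT_828_830 (j : ℕ) : ℕ := bif Nat.blt j 829 then E_828 else E_829
def eT_830_832 (j : ℕ) : ℕ := bif Nat.blt j 831 then E_830 else E_831
def eT_828_832 (j : ℕ) : ℕ := bif Nat.blt j 830 then (eT_828_830 j) else (eT_830_832 j)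
def eT_824_832 (j : ℕ) : ℕ := bif Nat.blt j 828 then (eT_824_828 j) else (eT_828_832 j)
def eT_817_832 (j : ℕ) : ℕ := bif Nat.blt j 824 then (eT_817_824 j) else (eT_824_832 j)
def eT_832_834 (j : ℕ) : ℕ := bif Nat.blt j 833 then E_832 else E_833
def eT_834_836 (j : ℕ) : ℕ := bif Nat.blt j 835 then E_834 else E_835
def eT_832_836 (j : ℕ) : ℕ := bif Nat.blt j 834 then (eT_832_834 j) else (eT_834_836 j)
def eT_836_838 (j : ℕ) : ℕ := bif Nat.blt j 837 then E_836 else E_837
def eT_838_840 (j : ℕ) : ℕ := bif Nat.blt j 839 then E_838 else E_839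
def eT_836_840 (j : ℕ) : ℕ := bif Nat.blt j 838 then (eT_836_838 j) else (eT_838_840 j)
def eT_832_840 (j : ℕ) : ℕ := bif Nat.blt j 836 then (eT_832_836 j) else (eT_836_840 j)
def eT_840_842 (j : ℕ) : ℕ := bif Nat.blt j 841 then E_840 else E_841
def eT_842_844 (j : ℕ) : ℕ := bif Nat.blt j 843 then E_842 else E_843
def eT_840_844 (j : ℕ) : ℕ := bif Nat.blt j 842 then (eT_840_842 j) else (eT_842_844 j)
def eT_844_846 (j : ℕ) : ℕ := bif Nat.blt j 845 then E_844 else E_845
def eT_846_848 (j : ℕ) : ℕ := bif Nat.blt j 847 then E_846 else E_847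
def eT_844_848 (j : ℕ) : ℕ := bif Nat.blt j 846 then (eT_844_846 j) else (eT_846_848 j)
def eT_840_848 (j : ℕ) : ℕ := bif Nat.blt j 844 then (eT_840_844 j) else (eT_844_848 j)
def eT_832_848 (j : ℕ) : ℕ := bif Nat.blt j 840 then (eT_832_840 j) else (eT_840_848 j)
def eT_817_848 (j : ℕ) : ℕ := bif Nat.blt j 832 then (eT_817_832 j) else (eT_832_848 j)
def eT_848_850 (j : ℕ) : ℕ := bif Nat.blt j 849 then E_848 else E_849
def eT_850_852 (j : ℕ) : ℕ := bif Nat.blt j 851 then E_850 else E_851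
def eT_848_852 (j : ℕ) : ℕ := bif Nat.blt j 850 then (eT_848_850 j) else (eT_850_852 j)
def eT_852_854 (j : ℕ) : ℕ := bif Nat.blt j 853 then E_852 else E_853
def eT_854_856 (j : ℕ) : ℕ := bif Nat.blt j 855 then E_854 else E_855
def eT_852_856 (j : ℕ) : ℕ := bif Nat.blt j 854 then (eT_852_854 j) else (eT_854_856 j)
def eT_848_856 (j : ℕ) : ℕ := bif Nat.blt j 852 then (eT_848_852 j) else (eT_852_856 j)
def eT_856_858 (j : ℕ) : ℕ := bif Nat.blt j 857 then E_856 else E_857
def eT_858_860 (j : ℕ) : ℕ := bif Nat.blt j 859 then E_858 else E_859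
def eT_856_860 (j : ℕ) : ℕ := bif Nat.blt j 858 then (eT_856_858 j) else (eT_858_860 j)
def eT_860_862 (j : ℕ) : ℕ := bif Nat.blt j 861 then E_860 else E_861
def eT_862_864 (j : ℕ) : ℕ := bif Nat.blt j 863 then E_862 else E_863
def eT_860_864 (j : ℕ) : ℕ := bif Nat.blt j 862 then (eT_860_862 j) else (eT_862_864 j)
def eT_856_864 (j : ℕ) : ℕ := bif Nat.blt j 860 then (eT_856_860 j) else (eT_860_864 j)
def eT_848_864 (j : ℕ) : ℕ := bif Nat.blt j 856 then (eT_848_856 j) else (eT_856_864 j)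
def eT_864_866 (j : ℕ) : ℕ := bif Nat.blt j 865 then E_864 else E_865
def eT_866_868 (j : ℕ) : ℕ := bif Nat.blt j 867 then E_866 else E_867
def eT_864_868 (j : ℕ) : ℕ := bif Nat.blt j 866 then (eT_864_866 j) else (eT_866_868 j)
def eT_868_870 (j : ℕ) : ℕ := bif Nat.blt j 869 then E_868 else E_869
def eT_870_872 (j : ℕ) : ℕ := bif Nat.blt j 871 then E_870 else E_871
def eT_868_872 (j : ℕ) : ℕ := bif Nat.blt j 870 then (eT_868_870 j) else (eT_870_872 j)
def eT_864_872 (j : ℕ) : ℕ := bif Nat.blt j 868 then (eT_864_868 j) else (eT_868_872 j)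
def eT_872_874 (j : ℕ) : ℕ := bif Nat.blt j 873 then E_872 else E_873
def eT_874_876 (j : ℕ) : ℕ := bif Nat.blt j 875 then E_874 else E_875
def eT_872_876 (j : ℕ) : ℕ := bif Nat.blt j 874 then (eT_872_874 j) else (eT_874_876 j)
def eT_876_878 (j : ℕ) : ℕ := bif Nat.blt j 877 then E_876 else E_877
def eT_878_880 (j : ℕ) : ℕ := bif Nat.blt j 879 then E_878 else E_879
def eT_876_880 (j : ℕ) : ℕ := bif Nat.blt j 878 then (eT_876_878 j) else (eT_878_880 j)
def eT_872_880 (j : ℕ) : ℕ := bif Nat.blt j 876 then (eT_872_876 j) else (eT_876_880 j)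
def eT_864_880 (j : ℕ) : ℕ := bif Nat.blt j 872 then (eT_864_872 j) else (eT_872_880 j)
def eT_848_880 (j : ℕ) : ℕ := bif Nat.blt j 864 then (eT_848_864 j) else (eT_864_880 j)
def eT_817_880 (j : ℕ) : ℕ := bif Nat.blt j 848 then (eT_817_848 j) else (eT_848_880 j)
def eT_754_880 (j : ℕ) : ℕ := bif Nat.blt j 817 then (eT_754_817 j) else (eT_817_880 j)
def eT_881_883 (j : ℕ) : ℕ := bif Nat.blt j 882 then E_881 else E_882
def eT_880_883 (j : ℕ) : ℕ := bif Nat.blt j 881 then E_880 else (eT_881_883 j)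
def eT_883_885 (j : ℕ) : ℕ := bif Nat.blt j 884 then E_883 else E_884
def eT_885_887 (j : ℕ) : ℕ := bif Nat.blt j 886 then E_885 else E_886
def eT_883_887 (j : ℕ) : ℕ := bif Nat.blt j 885 then (eT_883_885 j) else (eT_885_887 j)
def eT_880_887 (j : ℕ) : ℕ := bif Nat.blt j 883 then (eT_880_883 j) else (eT_883_887 j)
def eT_887_889 (j : ℕ) : ℕ := bif Nat.blt j 888 then E_887 else E_888
def eT_889_891 (j : ℕ) : ℕ := bif Nat.blt j 890 then E_889 else E_890
def eT_887_891 (j : ℕ) : ℕ := bif Nat.blt j 889 then (eT_887_889 j) else (eT_889_891 j)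
def eT_891_893 (j : ℕ) : ℕ := bif Nat.blt j 892 then E_891 else E_892
def eT_893_895 (j : ℕ) : ℕ := bif Nat.blt j 894 then E_893 else E_894
def eT_891_895 (j : ℕ) : ℕ := bif Nat.blt j 893 then (eT_891_893 j) else (eT_893_895 j)
def eT_887_895 (j : ℕ) : ℕ := bif Nat.blt j 891 then (eT_887_891 j) else (eT_891_895 j)
def eT_880_895 (j : ℕ) : ℕ := bif Nat.blt j 887 then (eT_880_887 j) else (eT_887_895 j)
def eT_895_897 (j : ℕ) : ℕ := bif Nat.blt j 896 then E_895 else E_896
def eT_897_899 (j : ℕ) : ℕ := bif Nat.blt j 898 then E_897 else E_898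
def eT_895_899 (j : ℕ) : ℕ := bif Nat.blt j 897 then (eT_895_897 j) else (eT_897_899 j)
def eT_899_901 (j : ℕ) : ℕ := bif Nat.blt j 900 then E_899 else E_900
def eT_901_903 (j : ℕ) : ℕ := bif Nat.blt j 902 then E_901 else E_902
def eT_899_903 (j : ℕ) : ℕ := bif Nat.blt j 901 then (eT_899_901 j) else (eT_901_903 j)
def eT_895_903 (j : ℕ) : ℕ := bif Nat.blt j 899 then (eT_895_899 j) else (eT_899_903 j)
def eT_903_905 (j : ℕ) : ℕ := bif Nat.blt j 904 then E_903 else E_904
def eT_905_907 (j : ℕ) : ℕ := bif Nat.blt j 906 then E_905 else E_906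
def eT_903_907 (j : ℕ) : ℕ := bif Nat.blt j 905 then (eT_903_905 j) else (eT_905_907 j)
def eT_907_909 (j : ℕ) : ℕ := bif Nat.blt j 908 then E_907 else E_908
def eT_909_911 (j : ℕ) : ℕ := bif Nat.blt j 910 then E_909 else E_910
def eT_907_911 (j : ℕ) : ℕ := bif Nat.blt j 909 then (eT_907_909 j) else (eT_909_911 j)
def eT_903_911 (j : ℕ) : ℕ := bif Nat.blt j 907 then (eT_903_907 j) else (eT_907_911 j)
def eT_895_911 (j : ℕ) : ℕ := bif Nat.blt j 903 then (eT_895_903 j) else (eT_903_911 j)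
def eT_880_911 (j : ℕ) : ℕ := bif Nat.blt j 895 then (eT_880_895 j) else (eT_895_911 j)
def eT_911_913 (j : ℕ) : ℕ := bif Nat.blt j 912 then E_911 else E_912
def eT_913_915 (j : ℕ) : ℕ := bif Nat.blt j 914 then E_913 else E_914
def eT_911_915 (j : ℕ) : ℕ := bif Nat.blt j 913 then (eT_911_913 j) else (eT_913_915 j)
def eT_915_917 (j : ℕ) : ℕ := bif Nat.blt j 916 then E_915 else E_916
def eT_917_919 (j : ℕ) : ℕ := bif Nat.blt j 918 then E_917 else E_918
def eT_915_919 (j : ℕ) : ℕ := bif Nat.blt j 917 then (eT_915_917 j) else (eT_917_919 j)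
def eT_911_919 (j : ℕ) : ℕ := bif Nat.blt j 915 then (eT_911_915 j) else (eT_915_919 j)
def eT_919_921 (j : ℕ) : ℕ := bif Nat.blt j 920 then E_919 else E_920
def eT_921_923 (j : ℕ) : ℕ := bif Nat.blt j 922 then E_921 else E_922
def eT_919_923 (j : ℕ) : ℕ := bif Nat.blt j 921 then (eT_919_921 j) else (eT_921_923 j)
def eT_923_925 (j : ℕ) : ℕ := bif Nat.blt j 924 then E_923 else E_924
def eT_925_927 (j : ℕ) : ℕ := bif Nat.blt j 926 then E_925 else E_926
def eT_923_927 (j : ℕ) : ℕ := bif Nat.blt j 925 then (eT_923_925 j) else (eT_925_927 j)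
def eT_919_927 (j : ℕ) : ℕ := bif Nat.blt j 923 then (eT_919_923 j) else (eT_923_927 j)
def eT_911_927 (j : ℕ) : ℕ := bif Nat.blt j 919 then (eT_911_919 j) else (eT_919_927 j)
def eT_927_929 (j : ℕ) : ℕ := bif Nat.blt j 928 then E_927 else E_928
def eT_929_931 (j : ℕ) : ℕ := bif Nat.blt j 930 then E_929 else E_930
def eT_927_931 (j : ℕ) : ℕ := bif Nat.blt j 929 then (eT_927_929 j) else (eT_929_931 j)
def eT_931_933 (j : ℕ) : ℕ := bif Nat.blt j 932 then E_931 else E_932
def eT_933_935 (j : ℕ) : ℕ := bif Nat.blt j 934 then E_933 else E_934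
def eT_931_935 (j : ℕ) : ℕ := bif Nat.blt j 933 then (eT_931_933 j) else (eT_933_935 j)
def eT_927_935 (j : ℕ) : ℕ := bif Nat.blt j 931 then (eT_927_931 j) else (eT_931_935 j)
def eT_935_937 (j : ℕ) : ℕ := bif Nat.blt j 936 then E_935 else E_936
def eT_937_939 (j : ℕ) : ℕ := bif Nat.blt j 938 then E_937 else E_938
def eT_935_939 (j : ℕ) : ℕ := bif Nat.blt j 937 then (eT_935_937 j) else (eT_937_939 j)
def eT_939_941 (j : ℕ) : ℕ := bif Nat.blt j 940 then E_939 else E_940
def eT_941_943 (j : ℕ) : ℕ := bif Nat.blt j 942 then E_941 else E_942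
def eT_939_943 (j : ℕ) : ℕ := bif Nat.blt j 941 then (eT_939_941 j) else (eT_941_943 j)
def eT_935_943 (j : ℕ) : ℕ := bif Nat.blt j 939 then (eT_935_939 j) else (eT_939_943 j)
def eT_927_943 (j : ℕ) : ℕ := bif Nat.blt j 935 then (eT_927_935 j) else (eT_935_943 j)
def eT_911_943 (j : ℕ) : ℕ := bif Nat.blt j 927 then (eT_911_927 j) else (eT_927_943 j)
def eT_880_943 (j : ℕ) : ℕ := bif Nat.blt j 911 then (eT_880_911 j) else (eT_911_943 j)
def eT_944_946 (j : ℕ) : ℕ := bif Nat.blt j 945 then E_944 else E_945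
def eT_943_946 (j : ℕ) : ℕ := bif Nat.blt j 944 then E_943 else (eT_944_946 j)
def eT_946_948 (j : ℕ) : ℕ := bif Nat.blt j 947 then E_946 else E_947
def eT_948_950 (j : ℕ) : ℕ := bif Nat.blt j 949 then E_948 else E_949
def eT_946_950 (j : ℕ) : ℕ := bif Nat.blt j 948 then (eT_946_948 j) else (eT_948_950 j)
def eT_943_950 (j : ℕ) : ℕ := bif Nat.blt j 946 then (eT_943_946 j) else (eT_946_950 j)
def eT_950_952 (j : ℕ) : ℕ := bif Nat.blt j 951 then E_950 else E_951
def eT_952_954 (j : ℕ) : ℕ := bif Nat.blt j 953 then E_952 else E_953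
def eT_950_954 (j : ℕ) : ℕ := bif Nat.blt j 952 then (eT_950_952 j) else (eT_952_954 j)
def eT_954_956 (j : ℕ) : ℕ := bif Nat.blt j 955 then E_954 else E_955
def eT_956_958 (j : ℕ) : ℕ := bif Nat.blt j 957 then E_956 else E_957
def eT_954_958 (j : ℕ) : ℕ := bif Nat.blt j 956 then (eT_954_956 j) else (eT_956_958 j)
def eT_950_958 (j : ℕ) : ℕ := bif Nat.blt j 954 then (eT_950_954 j) else (eT_954_958 j)
def eT_943_958 (j : ℕ) : ℕ := bif Nat.blt j 950 then (eT_943_950 j) else (eT_950_958 j)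
def eT_958_960 (j : ℕ) : ℕ := bif Nat.blt j 959 then E_958 else E_959
def eT_960_962 (j : ℕ) : ℕ := bif Nat.blt j 961 then E_960 else E_961
def eT_958_962 (j : ℕ) : ℕ := bif Nat.blt j 960 then (eT_958_960 j) else (eT_960_962 j)
def eT_962_964 (j : ℕ) : ℕ := bif Nat.blt j 963 then E_962 else E_963
def eT_964_966 (j : ℕ) : ℕ := bif Nat.blt j 965 then E_964 else E_965
def eT_962_966 (j : ℕ) : ℕ := bif Nat.blt j 964 then (eT_962_964 j) else (eT_964_966 j)
def eT_958_966 (j : ℕ) : ℕ := bif Nat.blt j 962 then (eT_958_962 j) else (eT_962_966 j)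
def eT_966_968 (j : ℕ) : ℕ := bif Nat.blt j 967 then E_966 else E_967
def eT_968_970 (j : ℕ) : ℕ := bif Nat.blt j 969 then E_968 else E_969
def eT_966_970 (j : ℕ) : ℕ := bif Nat.blt j 968 then (eT_966_968 j) else (eT_968_970 j)
def eT_970_972 (j : ℕ) : ℕ := bif Nat.blt j 971 then E_970 else E_971
def eT_972_974 (j : ℕ) : ℕ := bif Nat.blt j 973 then E_972 else E_973
def eT_970_974 (j : ℕ) : ℕ := bif Nat.blt j 972 then (eT_970_972 j) else (eT_972_974 j)
def eT_966_974 (j : ℕ) : ℕ := bif Nat.blt j 970 then (eT_966_970 j) else (eT_970_974 j)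
def eT_958_974 (j : ℕ) : ℕ := bif Nat.blt j 966 then (eT_958_966 j) else (eT_966_974 j)
def eT_943_974 (j : ℕ) : ℕ := bif Nat.blt j 958 then (eT_943_958 j) else (eT_958_974 j)
def eT_974_976 (j : ℕ) : ℕ := bif Nat.blt j 975 then E_974 else E_975
def eT_976_978 (j : ℕ) : ℕ := bif Nat.blt j 977 then E_976 else E_977
def eT_974_978 (j : ℕ) : ℕ := bif Nat.blt j 976 then (eT_974_976 j) else (eT_976_978 j)
def eT_978_980 (j : ℕ) : ℕ := bif Nat.blt j 979 then E_978 else E_979
def eT_980_982 (j : ℕ) : ℕ := bif Nat.blt j 981 then E_980 else E_981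
def eT_978_982 (j : ℕ) : ℕ := bif Nat.blt j 980 then (eT_978_980 j) else (eT_980_982 j)
def eT_974_982 (j : ℕ) : ℕ := bif Nat.blt j 978 then (eT_974_978 j) else (eT_978_982 j)
def eT_982_984 (j : ℕ) : ℕ := bif Nat.blt j 983 then E_982 else E_983
def eT_984_986 (j : ℕ) : ℕ := bif Nat.blt j 985 then E_984 else E_985
def eT_982_986 (j : ℕ) : ℕ := bif Nat.blt j 984 then (eT_982_984 j) else (eT_984_986 j)
def eT_986_988 (j : ℕ) : ℕ := bif Nat.blt j 987 then E_986 else E_987
def eT_988_990 (j : ℕ) : ℕ := bif Nat.blt j 989 then E_988 else E_989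
def eT_986_990 (j : ℕ) : ℕ := bif Nat.blt j 988 then (eT_986_988 j) else (eT_988_990 j)
def eT_982_990 (j : ℕ) : ℕ := bif Nat.blt j 986 then (eT_982_986 j) else (eT_986_990 j)
def eT_974_990 (j : ℕ) : ℕ := bif Nat.blt j 982 then (eT_974_982 j) else (eT_982_990 j)
def eT_990_992 (j : ℕ) : ℕ := bif Nat.blt j 991 then E_990 else E_991
def eT_992_994 (j : ℕ) : ℕ := bif Nat.blt j 993 then E_992 else E_993
def eT_990_994 (j : ℕ) : ℕ := bif Nat.blt j 992 then (eT_990_992 j) else (eT_992_994 j)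
def eT_994_996 (j : ℕ) : ℕ := bif Nat.blt j 995 then E_994 else E_995
def eT_996_998 (j : ℕ) : ℕ := bif Nat.blt j 997 then E_996 else E_997
def eT_994_998 (j : ℕ) : ℕ := bif Nat.blt j 996 then (eT_994_996 j) else (eT_996_998 j)
def eT_990_998 (j : ℕ) : ℕ := bif Nat.blt j 994 then (eT_990_994 j) else (eT_994_998 j)
def eT_998_1000 (j : ℕ) : ℕ := bif Nat.blt j 999 then E_998 else E_999
def eT_1000_1002 (j : ℕ) : ℕ := bif Nat.blt j 1001 then E_1000 else E_1001
def eT_998_1002 (j : ℕ) : ℕ := bif Nat.blt j 1000 then (eT_998_1000 j) else (eT_1000_1002 j)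
def eT_1002_1004 (j : ℕ) : ℕ := bif Nat.blt j 1003 then E_1002 else E_1003
def eT_1004_1006 (j : ℕ) : ℕ := bif Nat.blt j 1005 then E_1004 else E_1005
def eT_1002_1006 (j : ℕ) : ℕ := bif Nat.blt j 1004 then (eT_1002_1004 j) else (eT_1004_1006 j)
def eT_998_1006 (j : ℕ) : ℕ := bif Nat.blt j 1002 then (eT_998_1002 j) else (eT_1002_1006 j)
def eT_990_1006 (j : ℕ) : ℕ := bif Nat.blt j 998 then (eT_990_998 j) else (eT_998_1006 j)
def eT_974_1006 (j : ℕ) : ℕ := bif Nat.blt j 990 then (eT_974_990 j) else (eT_990_1006 j)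
def eT_943_1006 (j : ℕ) : ℕ := bif Nat.blt j 974 then (eT_943_974 j) else (eT_974_1006 j)
def eT_880_1006 (j : ℕ) : ℕ := bif Nat.blt j 943 then (eT_880_943 j) else (eT_943_1006 j)
def eT_754_1006 (j : ℕ) : ℕ := bif Nat.blt j 880 then (eT_754_880 j) else (eT_880_1006 j)
def eT_503_1006 (j : ℕ) : ℕ := bif Nat.blt j 754 then (eT_503_754 j) else (eT_754_1006 j)
def eT_0_1006 (j : ℕ) : ℕ := bif Nat.blt j 503 then (eT_0_503 j) else (eT_503_1006 j)
def eT (j : ℕ) : ℕ := (eT_0_1006 j)
noncomputable def chunkF (h : ℕ) : ℕ := Nat.rec (motive := fun _ => ℕ) (eT 0) (fun n _ => eT (Nat.succ n)) h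
noncomputable def Eo (r : ℕ) : ℕ := Nat.land (Nat.shiftRight (chunkF (Nat.shiftRight r 8)) (Nat.mul (Nat.land r 255) 54)) 18014398509481983
def invT : ℕ := 0xffef7cefae78df6d74cf2c70beeb6caeaa689e69648e28607de75c6da6585d65544d24503ce34c2ca2481c61440c2040
def inv (y : ℕ) : ℕ := invOf invT y
def Wt_1_3 (j : ℕ) : List ℕ := bif Nat.blt j 2 then [nat_lit 3, nat_lit 0, nat_lit 3, nat_lit 0] else [nat_lit 4, nat_lit 0, nat_lit 4, nat_lit 0]
def Wt_0_3 (j : ℕ) : List ℕ := bif Nat.blt j 1 then [nat_lit 2, nat_lit 0, nat_lit 2, nat_lit 0] else (Wt_1_3 j)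
def Wt_3_5 (j : ℕ) : List ℕ := bif Nat.blt j 4 then [nat_lit 5, nat_lit 0, nat_lit 5, nat_lit 0] else [nat_lit 6, nat_lit 0, nat_lit 6, nat_lit 0]
def Wt_5_7 (j : ℕ) : List ℕ := bif Nat.blt j 6 then [nat_lit 7, nat_lit 0, nat_lit 7, nat_lit 0] else [nat_lit 8, nat_lit 0, nat_lit 8, nat_lit 0]
def Wt_3_7 (j : ℕ) : List ℕ := bif Nat.blt j 5 then (Wt_3_5 j) else (Wt_5_7 j)
def Wt_0_7 (j : ℕ) : List ℕ := bif Nat.blt j 3 then (Wt_0_3 j) else (Wt_3_7 j)
def Wt_7_9 (j : ℕ) : List ℕ := bif Nat.blt j 8 then [nat_lit 0, nat_lit 1, nat_lit 0, nat_lit 1, nat_lit 0, nat_lit 1] else [nat_lit 3, nat_lit 1, nat_lit 3, nat_lit 1]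
def Wt_9_11 (j : ℕ) : List ℕ := bif Nat.blt j 10 then [nat_lit 4, nat_lit 1, nat_lit 4, nat_lit 1] else [nat_lit 5, nat_lit 1, nat_lit 5, nat_lit 1]
def Wt_7_11 (j : ℕ) : List ℕ := bif Nat.blt j 9 then (Wt_7_9 j) else (Wt_9_11 j)
def Wt_11_13 (j : ℕ) : List ℕ := bif Nat.blt j 12 then [nat_lit 6, nat_lit 1, nat_lit 6, nat_lit 1] else [nat_lit 7, nat_lit 1, nat_lit 7, nat_lit 1]
def Wt_13_15 (j : ℕ) : List ℕ := bif Nat.blt j 14 then [nat_lit 8, nat_lit 1, nat_lit 8, nat_lit 1] else [nat_lit 3, nat_lit 2, nat_lit 1, nat_lit 0, nat_lit 7, nat_lit 5, nat_lit 4, nat_lit 3, nat_lit 2, nat_lit 1, nat_lit 0, nat_lit 7, nat_lit 5, nat_lit 4, nat_lit 3, nat_lit 2, nat_lit 1, nat_lit 0, nat_lit 7, nat_lit 5, nat_lit 4, nat_lit 3, nat_lit 2, nat_lit 1, nat_lit 0, nat_lit 7, nat_lit 5, nat_lit 4, nat_lit 3, nat_lit 2, nat_lit 1, nat_lit 0, nat_lit 7, nat_lit 5, nat_lit 4, nat_lit 3, nat_lit 2, nat_lit 1, nat_lit 0, nat_lit 7, nat_lit 5, nat_lit 4, nat_lit 3, nat_lit 2, nat_lit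 1, nat_lit 0, nat_lit 7, nat_lit 5, nat_lit 4, nat_lit 3, nat_lit 2, nat_lit 1, nat_lit 0, nat_lit 7, nat_lit 5, nat_lit 4, nat_lit 3, nat_lit 2, nat_lit 1, nat_lit 0, nat_lit 7, nat_lit 5, nat_lit 4]
def Wt_11_15 (j : ℕ) : List ℕ := bif Nat.blt j 13 then (Wt_11_13 j) else (Wt_13_15 j)
def Wt_7_15 (j : ℕ) : List ℕ := bif Nat.blt j 11 then (Wt_7_11 j) else (Wt_11_15 j)
def Wt_0_15 (j : ℕ) : List ℕ := bif Nat.blt j 7 then (Wt_0_7 j) else (Wt_7_15 j)
def Wt_16_18 (j : ℕ) : List ℕ := bif Nat.blt j 17 then [nat_lit 2, nat_lit 4, nat_lit 2, nat_lit 4] else [nat_lit 2, nat_lit 5, nat_lit 2, nat_lit 5]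
def Wt_15_18 (j : ℕ) : List ℕ := bif Nat.blt j 16 then [nat_lit 2, nat_lit 3, nat_lit 2, nat_lit 3, nat_lit 2, nat_lit 3] else (Wt_16_18 j)
def Wt_18_20 (j : ℕ) : List ℕ := bif Nat.blt j 19 then [nat_lit 2, nat_lit 7, nat_lit 2, nat_lit 7] else [nat_lit 1, nat_lit 2, nat_lit 1, nat_lit 2, nat_lit 1, nat_lit 2]
def Wt_20_22 (j : ℕ) : List ℕ := bif Nat.blt j 21 then [nat_lit 1, nat_lit 3, nat_lit 1, nat_lit 3] else [nat_lit 1, nat_lit 4, nat_lit 1, nat_lit 4]
def Wt_18_22 (j : ℕ) : List ℕ := bif Nat.blt j 20 then (Wt_18_20 j) else (Wt_20_22 j)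
def Wt_15_22 (j : ℕ) : List ℕ := bif Nat.blt j 18 then (Wt_15_18 j) else (Wt_18_22 j)
def Wt_22_24 (j : ℕ) : List ℕ := bif Nat.blt j 23 then [nat_lit 1, nat_lit 5, nat_lit 1, nat_lit 5] else [nat_lit 1, nat_lit 7, nat_lit 1, nat_lit 7]
def Wt_24_26 (j : ℕ) : List ℕ := bif Nat.blt j 25 then [nat_lit 0, nat_lit 2, nat_lit 0, nat_lit 2] else [nat_lit 0, nat_lit 3, nat_lit 0, nat_lit 3]
def Wt_22_26 (j : ℕ) : List ℕ := bif Nat.blt j 24 then (Wt_22_24 j) else (Wt_24_26 j)
def Wt_26_28 (j : ℕ) : List ℕ := bif Nat.blt j 27 then [nat_lit 0, nat_lit 4, nat_lit 0, nat_lit 4] else [nat_lit 0, nat_lit 5, nat_lit 0, nat_lit 5]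
def Wt_28_30 (j : ℕ) : List ℕ := bif Nat.blt j 29 then [nat_lit 63, nat_lit 7, nat_lit 0, nat_lit 7, nat_lit 0] else [nat_lit 0, nat_lit 0, nat_lit 63]
def Wt_26_30 (j : ℕ) : List ℕ := bif Nat.blt j 28 then (Wt_26_28 j) else (Wt_28_30 j)
def Wt_22_30 (j : ℕ) : List ℕ := bif Nat.blt j 26 then (Wt_22_26 j) else (Wt_26_30 j)
def Wt_15_30 (j : ℕ) : List ℕ := bif Nat.blt j 22 then (Wt_15_22 j) else (Wt_22_30 j)
def Wt_0_30 (j : ℕ) : List ℕ := bif Nat.blt j 15 then (Wt_0_15 j) else (Wt_15_30 j)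
def Wt_31_33 (j : ℕ) : List ℕ := bif Nat.blt j 32 then [nat_lit 63, nat_lit 2, nat_lit 1, nat_lit 2, nat_lit 1, nat_lit 2, nat_lit 1] else [nat_lit 1, nat_lit 1, nat_lit 63]
def Wt_30_33 (j : ℕ) : List ℕ := bif Nat.blt j 31 then [nat_lit 7, nat_lit 7, nat_lit 63] else (Wt_31_33 j)
def Wt_33_35 (j : ℕ) : List ℕ := bif Nat.blt j 34 then [nat_lit 63, nat_lit 1, nat_lit 63, nat_lit 1, nat_lit 63] else [nat_lit 63, nat_lit 63, nat_lit 63]
def Wt_35_37 (j : ℕ) : List ℕ := bif Nat.blt j 36 then [nat_lit 63, nat_lit 2, nat_lit 0, nat_lit 2, nat_lit 0] else [nat_lit 0, nat_lit 7, nat_lit 0, nat_lit 7]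
def Wt_33_37 (j : ℕ) : List ℕ := bif Nat.blt j 35 then (Wt_33_35 j) else (Wt_35_37 j)
def Wt_30_37 (j : ℕ) : List ℕ := bif Nat.blt j 33 then (Wt_30_33 j) else (Wt_33_37 j)
def Wt_37_39 (j : ℕ) : List ℕ := bif Nat.blt j 38 then [nat_lit 1, nat_lit 0, nat_lit 1, nat_lit 0, nat_lit 1, nat_lit 0] else [nat_lit 2, nat_lit 1, nat_lit 2, nat_lit 1, nat_lit 2, nat_lit 1]
def Wt_39_41 (j : ℕ) : List ℕ := bif Nat.blt j 40 then [nat_lit 3, nat_lit 2, nat_lit 3, nat_lit 2, nat_lit 3, nat_lit 2] else [nat_lit 63, nat_lit 2, nat_lit 63, nat_lit 2, nat_lit 63]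
def Wt_37_41 (j : ℕ) : List ℕ := bif Nat.blt j 39 then (Wt_37_39 j) else (Wt_39_41 j)
def Wt_41_43 (j : ℕ) : List ℕ := bif Nat.blt j 42 then [nat_lit 2, nat_lit 2, nat_lit 63] else [nat_lit 63, nat_lit 2, nat_lit 7, nat_lit 2, nat_lit 7]
def Wt_43_45 (j : ℕ) : List ℕ := bif Nat.blt j 44 then [nat_lit 5, nat_lit 5, nat_lit 63] else [nat_lit 63, nat_lit 2, nat_lit 5, nat_lit 2, nat_lit 5]
def Wt_41_45 (j : ℕ) : List ℕ := bif Nat.blt j 43 then (Wt_41_43 j) else (Wt_43_45 j)
def Wt_37_45 (j : ℕ) : List ℕ := bif Nat.blt j 41 then (Wt_37_41 j) else (Wt_41_45 j)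
def Wt_30_45 (j : ℕ) : List ℕ := bif Nat.blt j 37 then (Wt_30_37 j) else (Wt_37_45 j)
def Wt_46_48 (j : ℕ) : List ℕ := bif Nat.blt j 47 then [nat_lit 5, nat_lit 3, nat_lit 5, nat_lit 3] else [nat_lit 4, nat_lit 5, nat_lit 4, nat_lit 5, nat_lit 4, nat_lit 5]
def Wt_45_48 (j : ℕ) : List ℕ := bif Nat.blt j 46 then [nat_lit 4, nat_lit 4, nat_lit 63] else (Wt_46_48 j)
def Wt_48_50 (j : ℕ) : List ℕ := bif Nat.blt j 49 then [nat_lit 4, nat_lit 7, nat_lit 4, nat_lit 7] else [nat_lit 3, nat_lit 4, nat_lit 3, nat_lit 4, nat_lit 3, nat_lit 4]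
def Wt_50_52 (j : ℕ) : List ℕ := bif Nat.blt j 51 then [nat_lit 3, nat_lit 5, nat_lit 3, nat_lit 5] else [nat_lit 63, nat_lit 2, nat_lit 4, nat_lit 2, nat_lit 4]
def Wt_48_52 (j : ℕ) : List ℕ := bif Nat.blt j 50 then (Wt_48_50 j) else (Wt_50_52 j)
def Wt_45_52 (j : ℕ) : List ℕ := bif Nat.blt j 48 then (Wt_45_48 j) else (Wt_48_52 j)
def Wt_52_54 (j : ℕ) : List ℕ := bif Nat.blt j 53 then [nat_lit 63, nat_lit 3, nat_lit 63, nat_lit 3] else [nat_lit 1, nat_lit 63, nat_lit 1, nat_lit 63]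
def Wt_54_56 (j : ℕ) : List ℕ := bif Nat.blt j 55 then [nat_lit 3, nat_lit 3, nat_lit 63] else [nat_lit 5, nat_lit 63, nat_lit 5, nat_lit 63]
def Wt_52_56 (j : ℕ) : List ℕ := bif Nat.blt j 54 then (Wt_52_54 j) else (Wt_54_56 j)
def Wt_56_58 (j : ℕ) : List ℕ := bif Nat.blt j 57 then [nat_lit 63, nat_lit 1, nat_lit 63, nat_lit 1] else [nat_lit 63, nat_lit 0, nat_lit 63, nat_lit 0]
def Wt_58_60 (j : ℕ) : List ℕ := bif Nat.blt j 59 then [nat_lit 7, nat_lit 3, nat_lit 7, nat_lit 3, nat_lit 7, nat_lit 3] else [nat_lit 7, nat_lit 4, nat_lit 7, nat_lit 4]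
def Wt_56_60 (j : ℕ) : List ℕ := bif Nat.blt j 58 then (Wt_56_58 j) else (Wt_58_60 j)
def Wt_52_60 (j : ℕ) : List ℕ := bif Nat.blt j 56 then (Wt_52_56 j) else (Wt_56_60 j)
def Wt_45_60 (j : ℕ) : List ℕ := bif Nat.blt j 52 then (Wt_45_52 j) else (Wt_52_60 j)
def Wt_30_60 (j : ℕ) : List ℕ := bif Nat.blt j 45 then (Wt_30_45 j) else (Wt_45_60 j)
def Wt_0_60 (j : ℕ) : List ℕ := bif Nat.blt j 30 then (Wt_0_30 j) else (Wt_30_60 j)
def Wt_61_63 (j : ℕ) : List ℕ := bif Nat.blt j 62 then [nat_lit 3, nat_lit 63, nat_lit 3, nat_lit 63] else [nat_lit 7, nat_lit 2, nat_lit 7, nat_lit 2]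
def Wt_60_63 (j : ℕ) : List ℕ := bif Nat.blt j 61 then [nat_lit 63, nat_lit 5, nat_lit 7, nat_lit 5, nat_lit 7] else (Wt_61_63 j)
def Wt_63_65 (j : ℕ) : List ℕ := bif Nat.blt j 64 then [nat_lit 3, nat_lit 7, nat_lit 3, nat_lit 7, nat_lit 3, nat_lit 7] else [nat_lit 63, nat_lit 7, nat_lit 5, nat_lit 7, nat_lit 5]
def Wt_65_67 (j : ℕ) : List ℕ := bif Nat.blt j 66 then [nat_lit 5, nat_lit 7, nat_lit 5, nat_lit 7] else [nat_lit 63, nat_lit 0, nat_lit 7, nat_lit 0, nat_lit 7]
def Wt_63_67 (j : ℕ) : List ℕ := bif Nat.blt j 65 then (Wt_63_65 j) else (Wt_65_67 j)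
def Wt_60_67 (j : ℕ) : List ℕ := bif Nat.blt j 63 then (Wt_60_63 j) else (Wt_63_67 j)
def Wt_67_69 (j : ℕ) : List ℕ := bif Nat.blt j 68 then [nat_lit 7, nat_lit 5, nat_lit 7, nat_lit 5] else [nat_lit 4, nat_lit 3, nat_lit 4, nat_lit 3, nat_lit 4, nat_lit 3]
def Wt_69_71 (j : ℕ) : List ℕ := bif Nat.blt j 70 then [nat_lit 4, nat_lit 2, nat_lit 4, nat_lit 2] else [nat_lit 5, nat_lit 4, nat_lit 5, nat_lit 4, nat_lit 5, nat_lit 4]
def Wt_67_71 (j : ℕ) : List ℕ := bif Nat.blt j 69 then (Wt_67_69 j) else (Wt_69_71 j)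
def Wt_71_73 (j : ℕ) : List ℕ := bif Nat.blt j 72 then [nat_lit 5, nat_lit 2, nat_lit 5, nat_lit 2] else [nat_lit 63, nat_lit 4, nat_lit 63, nat_lit 4]
def Wt_73_75 (j : ℕ) : List ℕ := bif Nat.blt j 74 then [nat_lit 6, nat_lit 2, nat_lit 6, nat_lit 2] else [nat_lit 8, nat_lit 2, nat_lit 8, nat_lit 2]
def Wt_71_75 (j : ℕ) : List ℕ := bif Nat.blt j 73 then (Wt_71_73 j) else (Wt_73_75 j)
def Wt_67_75 (j : ℕ) : List ℕ := bif Nat.blt j 71 then (Wt_67_71 j) else (Wt_71_75 j)
def Wt_60_75 (j : ℕ) : List ℕ := bif Nat.blt j 67 then (Wt_60_67 j) else (Wt_67_75 j)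
def Wt_76_78 (j : ℕ) : List ℕ := bif Nat.blt j 77 then [nat_lit 8, nat_lit 4, nat_lit 8, nat_lit 4] else [nat_lit 8, nat_lit 5, nat_lit 8, nat_lit 5]
def Wt_75_78 (j : ℕ) : List ℕ := bif Nat.blt j 76 then [nat_lit 8, nat_lit 3, nat_lit 8, nat_lit 3] else (Wt_76_78 j)
def Wt_78_80 (j : ℕ) : List ℕ := bif Nat.blt j 79 then [nat_lit 6, nat_lit 3, nat_lit 6, nat_lit 3] else [nat_lit 6, nat_lit 4, nat_lit 6, nat_lit 4]
def Wt_80_82 (j : ℕ) : List ℕ := bif Nat.blt j 81 then [nat_lit 6, nat_lit 7, nat_lit 6, nat_lit 7] else [nat_lit 6, nat_lit 5, nat_lit 4, nat_lit 3, nat_lit 2, nat_lit 1, nat_lit 7, nat_lit 6, nat_lit 5, nat_lit 4, nat_lit 3, nat_lit 2, nat_lit 1, nat_lit 7, nat_lit 6, nat_lit 5, nat_lit 4, nat_lit 3, nat_lit 2, nat_lit 1, nat_lit 7, nat_lit 6, nat_lit 5, nat_lit 4, nat_lit 3, nat_lit 2, nat_lit 1, nat_lit 7, nat_lit 6, nat_lit 5, nat_lit 4, nat_lit 3, nat_lit 2, nat_lit 1, nat_lit 7, nat_lit 6, nat_lit 5, nat_lit 4, nat_lit 3, nat_lit 2, nat_lit 1,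 nat_lit 7, nat_lit 6, nat_lit 5, nat_lit 4, nat_lit 3, nat_lit 2, nat_lit 1, nat_lit 7, nat_lit 6, nat_lit 5, nat_lit 4, nat_lit 3, nat_lit 2, nat_lit 1, nat_lit 7, nat_lit 6, nat_lit 5, nat_lit 4, nat_lit 3, nat_lit 2, nat_lit 1, nat_lit 7]
def Wt_78_82 (j : ℕ) : List ℕ := bif Nat.blt j 80 then (Wt_78_80 j) else (Wt_80_82 j)
def Wt_75_82 (j : ℕ) : List ℕ := bif Nat.blt j 78 then (Wt_75_78 j) else (Wt_78_82 j)
def Wt_82_84 (j : ℕ) : List ℕ := bif Nat.blt j 83 then [nat_lit 0, nat_lit 6, nat_lit 0, nat_lit 6] else [nat_lit 1, nat_lit 6, nat_lit 1, nat_lit 6]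
def Wt_84_86 (j : ℕ) : List ℕ := bif Nat.blt j 85 then [nat_lit 2, nat_lit 6, nat_lit 2, nat_lit 6] else [nat_lit 3, nat_lit 6, nat_lit 3, nat_lit 6]
def Wt_82_86 (j : ℕ) : List ℕ := bif Nat.blt j 84 then (Wt_82_84 j) else (Wt_84_86 j)
def Wt_86_88 (j : ℕ) : List ℕ := bif Nat.blt j 87 then [nat_lit 4, nat_lit 6, nat_lit 4, nat_lit 6] else [nat_lit 5, nat_lit 6, nat_lit 5, nat_lit 6, nat_lit 5, nat_lit 6]
def Wt_88_90 (j : ℕ) : List ℕ := bif Nat.blt j 89 then [nat_lit 8, nat_lit 6, nat_lit 8, nat_lit 6] else [nat_lit 63, nat_lit 6, nat_lit 1, nat_lit 6, nat_lit 1]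
def Wt_86_90 (j : ℕ) : List ℕ := bif Nat.blt j 88 then (Wt_86_88 j) else (Wt_88_90 j)
def Wt_82_90 (j : ℕ) : List ℕ := bif Nat.blt j 86 then (Wt_82_86 j) else (Wt_86_90 j)
def Wt_75_90 (j : ℕ) : List ℕ := bif Nat.blt j 82 then (Wt_75_82 j) else (Wt_82_90 j)
def Wt_60_90 (j : ℕ) : List ℕ := bif Nat.blt j 75 then (Wt_60_75 j) else (Wt_75_90 j)
def Wt_91_93 (j : ℕ) : List ℕ := bif Nat.blt j 92 then [nat_lit 6, nat_lit 6, nat_lit 63] else [nat_lit 63, nat_lit 6, nat_lit 2, nat_lit 6, nat_lit 2]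
def Wt_90_93 (j : ℕ) : List ℕ := bif Nat.blt j 91 then [nat_lit 0, nat_lit 63, nat_lit 0, nat_lit 63] else (Wt_91_93 j)
def Wt_93_95 (j : ℕ) : List ℕ := bif Nat.blt j 94 then [nat_lit 7, nat_lit 6, nat_lit 7, nat_lit 6] else [nat_lit 63, nat_lit 6, nat_lit 7, nat_lit 6, nat_lit 7]
def Wt_95_97 (j : ℕ) : List ℕ := bif Nat.blt j 96 then [nat_lit 63, nat_lit 6, nat_lit 5, nat_lit 6, nat_lit 5, nat_lit 6, nat_lit 5] else [nat_lit 63, nat_lit 7, nat_lit 1, nat_lit 7, nat_lit 1]
def Wt_93_97 (j : ℕ) : List ℕ := bif Nat.blt j 95 then (Wt_93_95 j) else (Wt_95_97 j)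
def Wt_90_97 (j : ℕ) : List ℕ := bif Nat.blt j 93 then (Wt_90_93 j) else (Wt_93_97 j)
def Wt_97_99 (j : ℕ) : List ℕ := bif Nat.blt j 98 then [nat_lit 63, nat_lit 5, nat_lit 1, nat_lit 5, nat_lit 1] else [nat_lit 6, nat_lit 5, nat_lit 6, nat_lit 5, nat_lit 6, nat_lit 5]
def Wt_99_101 (j : ℕ) : List ℕ := bif Nat.blt j 100 then [nat_lit 63, nat_lit 7, nat_lit 6, nat_lit 7, nat_lit 6] else [nat_lit 63, nat_lit 5, nat_lit 63, nat_lit 5]
def Wt_97_101 (j : ℕ) : List ℕ := bif Nat.blt j 99 then (Wt_97_99 j) else (Wt_99_101 j)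
def Wt_101_103 (j : ℕ) : List ℕ := bif Nat.blt j 102 then [nat_lit 8, nat_lit 7, nat_lit 3, nat_lit 5, nat_lit 4, nat_lit 3, nat_lit 1, nat_lit 2, nat_lit 3, nat_lit 8, nat_lit 7, nat_lit 3, nat_lit 5, nat_lit 4, nat_lit 3, nat_lit 1, nat_lit 2, nat_lit 3, nat_lit 8, nat_lit 7, nat_lit 3, nat_lit 5, nat_lit 4, nat_lit 3, nat_lit 1, nat_lit 2, nat_lit 3, nat_lit 8, nat_lit 7, nat_lit 3, nat_lit 5, nat_lit 4, nat_lit 3, nat_lit 1, nat_lit 2, nat_lit 3, nat_lit 8, nat_lit 7, nat_lit 3, nat_lit 5, nat_lit 4, nat_lit 3, nat_lit 1, nat_lit 2, nat_lit 3, nat_lit 8, nat_lit 7, nat_lit 3, nat_lit 5, nat_lit 4, nat_lit 3, nat_lit 1, nat_lit 2, nat_lit 3, nat_lit 8, nat_lit 7, nat_lit 3, nat_lit 5, nat_lit 4, nat_lit 3, nat_lit 1, nat_lit 2, nat_lit 3, nat_lit 8, nat_lit 7, nat_lit 3, nat_lit 5, nat_lit 4, nat_lit 3, nat_lit 1, nat_lit 2, nat_lit 3, nat_lit 8, nat_lit 7, nat_lit 3, nat_lit 5, nat_lit 4, nat_lit 3, nat_lit 1, nat_lit 2, nat_lit 3, nat_lit 8, nat_lit 7, nat_lit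 3, nat_lit 5, nat_lit 4, nat_lit 3, nat_lit 1, nat_lit 2, nat_lit 3] else [nat_lit 0, nat_lit 8, nat_lit 0, nat_lit 8]
def Wt_103_105 (j : ℕ) : List ℕ := bif Nat.blt j 104 then [nat_lit 1, nat_lit 8, nat_lit 1, nat_lit 8] else [nat_lit 2, nat_lit 8, nat_lit 2, nat_lit 8]
def Wt_101_105 (j : ℕ) : List ℕ := bif Nat.blt j 103 then (Wt_101_103 j) else (Wt_103_105 j)
def Wt_97_105 (j : ℕ) : List ℕ := bif Nat.blt j 101 then (Wt_97_101 j) else (Wt_101_105 j)
def Wt_90_105 (j : ℕ) : List ℕ := bif Nat.blt j 97 then (Wt_90_97 j) else (Wt_97_105 j)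
def Wt_105_107 (j : ℕ) : List ℕ := bif Nat.blt j 106 then [nat_lit 4, nat_lit 8, nat_lit 4, nat_lit 8] else [nat_lit 7, nat_lit 8, nat_lit 7, nat_lit 8, nat_lit 7, nat_lit 8]
def Wt_107_109 (j : ℕ) : List ℕ := bif Nat.blt j 108 then [nat_lit 63, nat_lit 1, nat_lit 3, nat_lit 1, nat_lit 3] else [nat_lit 2, nat_lit 63, nat_lit 2, nat_lit 63]
def Wt_105_109 (j : ℕ) : List ℕ := bif Nat.blt j 107 then (Wt_105_107 j) else (Wt_107_109 j)
def Wt_109_111 (j : ℕ) : List ℕ := bif Nat.blt j 110 then [nat_lit 8, nat_lit 7, nat_lit 8, nat_lit 7, nat_lit 8, nat_lit 7] else [nat_lit 63, nat_lit 3, nat_lit 8, nat_lit 3, nat_lit 8]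
def Wt_111_113 (j : ℕ) : List ℕ := bif Nat.blt j 112 then [nat_lit 8, nat_lit 8, nat_lit 63] else [nat_lit 3, nat_lit 8, nat_lit 3, nat_lit 8]
def Wt_109_113 (j : ℕ) : List ℕ := bif Nat.blt j 111 then (Wt_109_111 j) else (Wt_111_113 j)
def Wt_105_113 (j : ℕ) : List ℕ := bif Nat.blt j 109 then (Wt_105_109 j) else (Wt_109_113 j)
def Wt_113_115 (j : ℕ) : List ℕ := bif Nat.blt j 114 then [nat_lit 6, nat_lit 8, nat_lit 6, nat_lit 8] else [nat_lit 63, nat_lit 8, nat_lit 3, nat_lit 8, nat_lit 3]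
def Wt_115_117 (j : ℕ) : List ℕ := bif Nat.blt j 116 then [nat_lit 63, nat_lit 3, nat_lit 63, nat_lit 3, nat_lit 63] else [nat_lit 5, nat_lit 8, nat_lit 5, nat_lit 8]
def Wt_113_117 (j : ℕ) : List ℕ := bif Nat.blt j 115 then (Wt_113_115 j) else (Wt_115_117 j)
def Wt_117_119 (j : ℕ) : List ℕ := bif Nat.blt j 118 then [nat_lit 63, nat_lit 8, nat_lit 5, nat_lit 8, nat_lit 5] else [nat_lit 63, nat_lit 7, nat_lit 8, nat_lit 7, nat_lit 8, nat_lit 7, nat_lit 8]
def Wt_119_121 (j : ℕ) : List ℕ := bif Nat.blt j 120 then [nat_lit 63, nat_lit 3, nat_lit 5, nat_lit 3, nat_lit 5] else [nat_lit 63, nat_lit 4, nat_lit 3, nat_lit 4, nat_lit 3, nat_lit 4, nat_lit 3]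
def Wt_117_121 (j : ℕ) : List ℕ := bif Nat.blt j 119 then (Wt_117_119 j) else (Wt_119_121 j)
def Wt_113_121 (j : ℕ) : List ℕ := bif Nat.blt j 117 then (Wt_113_117 j) else (Wt_117_121 j)
def Wt_105_121 (j : ℕ) : List ℕ := bif Nat.blt j 113 then (Wt_105_113 j) else (Wt_113_121 j)
def Wt_90_121 (j : ℕ) : List ℕ := bif Nat.blt j 105 then (Wt_90_105 j) else (Wt_105_121 j)
def Wt_60_121 (j : ℕ) : List ℕ := bif Nat.blt j 90 then (Wt_60_90 j) else (Wt_90_121 j)
def Wt_0_121 (j : ℕ) : List ℕ := bif Nat.blt j 60 then (Wt_0_60 j) else (Wt_60_121 j)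
def Wt_122_124 (j : ℕ) : List ℕ := bif Nat.blt j 123 then [nat_lit 63, nat_lit 7, nat_lit 63, nat_lit 7] else [nat_lit 63, nat_lit 1, nat_lit 2, nat_lit 1, nat_lit 2, nat_lit 1, nat_lit 2]
def Wt_121_124 (j : ℕ) : List ℕ := bif Nat.blt j 122 then [nat_lit 63, nat_lit 3, nat_lit 2, nat_lit 3, nat_lit 2, nat_lit 3, nat_lit 2] else (Wt_122_124 j)
def Wt_124_126 (j : ℕ) : List ℕ := bif Nat.blt j 125 then [nat_lit 63, nat_lit 1, nat_lit 4, nat_lit 1, nat_lit 4] else [nat_lit 63, nat_lit 5, nat_lit 63, nat_lit 5, nat_lit 63]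
def Wt_126_128 (j : ℕ) : List ℕ := bif Nat.blt j 127 then [nat_lit 63, nat_lit 2, nat_lit 63, nat_lit 2] else [nat_lit 2, nat_lit 1, nat_lit 7, nat_lit 6, nat_lit 5, nat_lit 4, nat_lit 3, nat_lit 2, nat_lit 1, nat_lit 7, nat_lit 6, nat_lit 5, nat_lit 4, nat_lit 3, nat_lit 2, nat_lit 1, nat_lit 7, nat_lit 6, nat_lit 5, nat_lit 4, nat_lit 3, nat_lit 2, nat_lit 1, nat_lit 7, nat_lit 6, nat_lit 5, nat_lit 4, nat_lit 3, nat_lit 2, nat_lit 1, nat_lit 7, nat_lit 6, nat_lit 5, nat_lit 4, nat_lit 3, nat_lit 2, nat_lit 1, nat_lit 7, nat_lit 6, nat_lit 5, nat_lit 4, nat_lit 3, nat_lit 2, nat_lit 1, nat_lit 7, nat_lit 6, nat_lit 5, nat_lit 4, nat_lit 3, nat_lit 2, nat_lit 1, nat_lit 7, nat_lit 6, nat_lit 5, nat_lit 4, nat_lit 3, nat_lit 2, nat_lit 1, nat_lit 7, nat_lit 6, nat_lit 5, nat_lit 4, nat_lit 3]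
def Wt_124_128 (j : ℕ) : List ℕ := bif Nat.blt j 126 then (Wt_124_126 j) else (Wt_126_128 j)
def Wt_121_128 (j : ℕ) : List ℕ := bif Nat.blt j 124 then (Wt_121_124 j) else (Wt_124_128 j)
def Wt_128_130 (j : ℕ) : List ℕ := bif Nat.blt j 129 then [nat_lit 63, nat_lit 6, nat_lit 4, nat_lit 6, nat_lit 4] else [nat_lit 63, nat_lit 5, nat_lit 6, nat_lit 5, nat_lit 6, nat_lit 5, nat_lit 6]
def Wt_130_132 (j : ℕ) : List ℕ := bif Nat.blt j 131 then [nat_lit 63, nat_lit 5, nat_lit 3, nat_lit 5, nat_lit 3] else [nat_lit 63, nat_lit 6, nat_lit 3, nat_lit 6, nat_lit 3]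
def Wt_128_132 (j : ℕ) : List ℕ := bif Nat.blt j 130 then (Wt_128_130 j) else (Wt_130_132 j)
def Wt_132_134 (j : ℕ) : List ℕ := bif Nat.blt j 133 then [nat_lit 63, nat_lit 6, nat_lit 63, nat_lit 6] else [nat_lit 63, nat_lit 4, nat_lit 6, nat_lit 4, nat_lit 6]
def Wt_134_136 (j : ℕ) : List ℕ := bif Nat.blt j 135 then [nat_lit 4, nat_lit 3, nat_lit 1, nat_lit 2, nat_lit 3, nat_lit 8, nat_lit 7, nat_lit 3, nat_lit 5, nat_lit 4, nat_lit 3, nat_lit 1, nat_lit 2, nat_lit 3, nat_lit 8, nat_lit 7, nat_lit 3, nat_lit 5, nat_lit 4, nat_lit 3, nat_lit 1, nat_lit 2, nat_lit 3, nat_lit 8, nat_lit 7, nat_lit 3, nat_lit 5, nat_lit 4, nat_lit 3, nat_lit 1, nat_lit 2, nat_lit 3, nat_lit 8, nat_lit 7, nat_lit 3, nat_lit 5, nat_lit 4, nat_lit 3, nat_lit 1, nat_lit 2, nat_lit 3, nat_lit 8, nat_lit 7, nat_lit 3, nat_lit 5, nat_lit 4, nat_lit 3, nat_lit 1, nat_lit 2, nat_lit 3, nat_lit 8, nat_lit 7, nat_lit 3, nat_lit 5, nat_lit 4, nat_lit 3, nat_lit 1, nat_lit 2, nat_lit 3, nat_lit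 8, nat_lit 7, nat_lit 3, nat_lit 5, nat_lit 4, nat_lit 3, nat_lit 1, nat_lit 2, nat_lit 3, nat_lit 8, nat_lit 7, nat_lit 3, nat_lit 5, nat_lit 4, nat_lit 3, nat_lit 1, nat_lit 2, nat_lit 3, nat_lit 8, nat_lit 7, nat_lit 3, nat_lit 5, nat_lit 4, nat_lit 3, nat_lit 1, nat_lit 2, nat_lit 3, nat_lit 8, nat_lit 7, nat_lit 3, nat_lit 5] else [nat_lit 4, nat_lit 63, nat_lit 4, nat_lit 63]
def Wt_132_136 (j : ℕ) : List ℕ := bif Nat.blt j 134 then (Wt_132_134 j) else (Wt_134_136 j)
def Wt_128_136 (j : ℕ) : List ℕ := bif Nat.blt j 132 then (Wt_128_132 j) else (Wt_132_136 j)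
def Wt_121_136 (j : ℕ) : List ℕ := bif Nat.blt j 128 then (Wt_121_128 j) else (Wt_128_136 j)
def Wt_137_139 (j : ℕ) : List ℕ := bif Nat.blt j 138 then [nat_lit 63, nat_lit 2, nat_lit 3, nat_lit 2, nat_lit 3, nat_lit 2, nat_lit 3] else [nat_lit 63, nat_lit 2, nat_lit 8, nat_lit 2, nat_lit 8]
def Wt_136_139 (j : ℕ) : List ℕ := bif Nat.blt j 137 then [nat_lit 63, nat_lit 3, nat_lit 1, nat_lit 3, nat_lit 1] else (Wt_137_139 j)
def Wt_139_141 (j : ℕ) : List ℕ := bif Nat.blt j 140 then [nat_lit 63, nat_lit 8, nat_lit 63, nat_lit 8] else [nat_lit 63, nat_lit 4, nat_lit 1, nat_lit 4, nat_lit 1]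
def Wt_141_143 (j : ℕ) : List ℕ := bif Nat.blt j 142 then [nat_lit 3, nat_lit 2, nat_lit 1, nat_lit 7, nat_lit 6, nat_lit 5, nat_lit 4, nat_lit 3, nat_lit 2, nat_lit 1, nat_lit 7, nat_lit 6, nat_lit 5, nat_lit 4, nat_lit 3, nat_lit 2, nat_lit 1, nat_lit 7, nat_lit 6, nat_lit 5, nat_lit 4, nat_lit 3, nat_lit 2, nat_lit 1, nat_lit 7, nat_lit 6, nat_lit 5, nat_lit 4, nat_lit 3, nat_lit 2, nat_lit 1, nat_lit 7, nat_lit 6, nat_lit 5, nat_lit 4, nat_lit 3, nat_lit 2, nat_lit 1, nat_lit 7, nat_lit 6, nat_lit 5, nat_lit 4, nat_lit 3, nat_lit 2, nat_lit 1, nat_lit 7, nat_lit 6, nat_lit 5, nat_lit 4, nat_lit 3, nat_lit 2, nat_lit 1, nat_lit 7, nat_lit 6, nat_lit 5, nat_lit 4, nat_lit 3, nat_lit 2, nat_lit 1, nat_lit 7, nat_lit 6, nat_lit 5, nat_lit 4] else [nat_lit 63, nat_lit 7, nat_lit 4, nat_lit 7, nat_lit 4]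
def Wt_139_143 (j : ℕ) : List ℕ := bif Nat.blt j 141 then (Wt_139_141 j) else (Wt_141_143 j)
def Wt_136_143 (j : ℕ) : List ℕ := bif Nat.blt j 139 then (Wt_136_139 j) else (Wt_139_143 j)
def Wt_143_145 (j : ℕ) : List ℕ := bif Nat.blt j 144 then [nat_lit 63, nat_lit 3, nat_lit 7, nat_lit 3, nat_lit 7, nat_lit 3, nat_lit 7] else [nat_lit 63, nat_lit 4, nat_lit 2, nat_lit 4, nat_lit 2]
def Wt_145_147 (j : ℕ) : List ℕ := bif Nat.blt j 146 then [nat_lit 63, nat_lit 1, nat_lit 5, nat_lit 1, nat_lit 5] else [nat_lit 7, nat_lit 6, nat_lit 5, nat_lit 4, nat_lit 3, nat_lit 2, nat_lit 1, nat_lit 7, nat_lit 6, nat_lit 5, nat_lit 4, nat_lit 3, nat_lit 2, nat_lit 1, nat_lit 7, nat_lit 6, nat_lit 5, nat_lit 4, nat_lit 3, nat_lit 2, nat_lit 1, nat_lit 7, nat_lit 6, nat_lit 5, nat_lit 4, nat_lit 3, nat_lit 2, nat_lit 1, nat_lit 7, nat_lit 6, nat_lit 5, nat_lit 4, nat_lit 3, nat_lit 2, nat_lit 1, nat_lit 7, nat_lit 6, nat_lit 5, nat_lit 4, nat_lit 3, nat_lit 2, nat_lit 1, nat_lit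 7, nat_lit 6, nat_lit 5, nat_lit 4, nat_lit 3, nat_lit 2, nat_lit 1, nat_lit 7, nat_lit 6, nat_lit 5, nat_lit 4, nat_lit 3, nat_lit 2, nat_lit 1, nat_lit 7, nat_lit 6, nat_lit 5, nat_lit 4, nat_lit 3, nat_lit 2, nat_lit 1]
def Wt_143_147 (j : ℕ) : List ℕ := bif Nat.blt j 145 then (Wt_143_145 j) else (Wt_145_147 j)
def Wt_147_149 (j : ℕ) : List ℕ := bif Nat.blt j 148 then [nat_lit 63, nat_lit 1, nat_lit 7, nat_lit 1, nat_lit 7] else [nat_lit 63, nat_lit 4, nat_lit 5, nat_lit 4, nat_lit 5, nat_lit 4, nat_lit 5]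
def Wt_149_151 (j : ℕ) : List ℕ := bif Nat.blt j 150 then [nat_lit 1, nat_lit 2, nat_lit 3, nat_lit 8, nat_lit 7, nat_lit 3, nat_lit 5, nat_lit 4, nat_lit 3, nat_lit 1, nat_lit 2, nat_lit 3, nat_lit 8, nat_lit 7, nat_lit 3, nat_lit 5, nat_lit 4, nat_lit 3, nat_lit 1, nat_lit 2, nat_lit 3, nat_lit 8, nat_lit 7, nat_lit 3, nat_lit 5, nat_lit 4, nat_lit 3, nat_lit 1, nat_lit 2, nat_lit 3, nat_lit 8, nat_lit 7, nat_lit 3, nat_lit 5, nat_lit 4, nat_lit 3, nat_lit 1, nat_lit 2, nat_lit 3, nat_lit 8, nat_lit 7, nat_lit 3, nat_lit 5, nat_lit 4, nat_lit 3, nat_lit 1, nat_lit 2, nat_lit 3, nat_lit 8, nat_lit 7, nat_lit 3, nat_lit 5, nat_lit 4, nat_lit 3, nat_lit 1, nat_lit 2, nat_lit 3, nat_lit 8, nat_lit 7, nat_lit 3, nat_lit 5, nat_lit 4, nat_lit 3, nat_lit 1, nat_lit 2, nat_lit 3, nat_lit 8, nat_lit 7, nat_lit 3, nat_lit 5, nat_lit 4, nat_lit 3, nat_lit 1, nat_lit 2, nat_lit 3, nat_lit 8, nat_lit 7, nat_lit 3, nat_lit 5, nat_lit 4, nat_lit 3, nat_lit 1, nat_lit 2, nat_lit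 3, nat_lit 8, nat_lit 7, nat_lit 3, nat_lit 5, nat_lit 4, nat_lit 3] else [nat_lit 7, nat_lit 63, nat_lit 7, nat_lit 63]
def Wt_147_151 (j : ℕ) : List ℕ := bif Nat.blt j 149 then (Wt_147_149 j) else (Wt_149_151 j)
def Wt_143_151 (j : ℕ) : List ℕ := bif Nat.blt j 147 then (Wt_143_147 j) else (Wt_147_151 j)
def Wt_136_151 (j : ℕ) : List ℕ := bif Nat.blt j 143 then (Wt_136_143 j) else (Wt_143_151 j)
def Wt_121_151 (j : ℕ) : List ℕ := bif Nat.blt j 136 then (Wt_121_136 j) else (Wt_136_151 j)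
def Wt_152_154 (j : ℕ) : List ℕ := bif Nat.blt j 153 then [nat_lit 63, nat_lit 8, nat_lit 63, nat_lit 8, nat_lit 63] else [nat_lit 8, nat_lit 63, nat_lit 8, nat_lit 63]
def Wt_151_154 (j : ℕ) : List ℕ := bif Nat.blt j 152 then [nat_lit 63, nat_lit 7, nat_lit 3, nat_lit 7, nat_lit 3, nat_lit 7, nat_lit 3] else (Wt_152_154 j)
def Wt_154_156 (j : ℕ) : List ℕ := bif Nat.blt j 155 then [nat_lit 3, nat_lit 5, nat_lit 4, nat_lit 3, nat_lit 1, nat_lit 2, nat_lit 3, nat_lit 8, nat_lit 7, nat_lit 3, nat_lit 5, nat_lit 4, nat_lit 3, nat_lit 1, nat_lit 2, nat_lit 3, nat_lit 8, nat_lit 7, nat_lit 3, nat_lit 5, nat_lit 4, nat_lit 3, nat_lit 1, nat_lit 2, nat_lit 3, nat_lit 8, nat_lit 7, nat_lit 3, nat_lit 5, nat_lit 4, nat_lit 3, nat_lit 1, nat_lit 2, nat_lit 3, nat_lit 8, nat_lit 7, nat_lit 3, nat_lit 5, nat_lit 4, nat_lit 3, nat_lit 1, nat_lit 2, nat_lit 3, nat_lit 8, nat_lit 7, nat_lit 3, nat_lit 5, nat_lit 4, nat_lit 3, nat_lit 1, nat_lit 2, nat_lit 3, nat_lit 8, nat_lit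 7, nat_lit 3, nat_lit 5, nat_lit 4, nat_lit 3, nat_lit 1, nat_lit 2, nat_lit 3, nat_lit 8, nat_lit 7, nat_lit 3, nat_lit 5, nat_lit 4, nat_lit 3, nat_lit 1, nat_lit 2, nat_lit 3, nat_lit 8, nat_lit 7, nat_lit 3, nat_lit 5, nat_lit 4, nat_lit 3, nat_lit 1, nat_lit 2, nat_lit 3, nat_lit 8, nat_lit 7, nat_lit 3, nat_lit 5, nat_lit 4, nat_lit 3, nat_lit 1, nat_lit 2, nat_lit 3, nat_lit 8, nat_lit 7] else [nat_lit 5, nat_lit 4, nat_lit 3, nat_lit 1, nat_lit 2, nat_lit 3, nat_lit 8, nat_lit 7, nat_lit 3, nat_lit 5, nat_lit 4, nat_lit 3, nat_lit 1, nat_lit 2, nat_lit 3, nat_lit 8, nat_lit 7, nat_lit 3, nat_lit 5, nat_lit 4, nat_lit 3, nat_lit 1, nat_lit 2, nat_lit 3, nat_lit 8, nat_lit 7, nat_lit 3, nat_lit 5, nat_lit 4, nat_lit 3, nat_lit 1, nat_lit 2, nat_lit 3, nat_lit 8, nat_lit 7, nat_lit 3, nat_lit 5, nat_lit 4, nat_lit 3, nat_lit 1, nat_lit 2, nat_lit 3, nat_lit 8, nat_lit 7, nat_lit 3, nat_lit 5, nat_lit 4, nat_lit 3, nat_lit 1, nat_lit 2, nat_lit 3, nat_lit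 8, nat_lit 7, nat_lit 3, nat_lit 5, nat_lit 4, nat_lit 3, nat_lit 1, nat_lit 2, nat_lit 3, nat_lit 8, nat_lit 7, nat_lit 3, nat_lit 5, nat_lit 4, nat_lit 3, nat_lit 1, nat_lit 2, nat_lit 3, nat_lit 8, nat_lit 7, nat_lit 3, nat_lit 5, nat_lit 4, nat_lit 3, nat_lit 1, nat_lit 2, nat_lit 3, nat_lit 8, nat_lit 7, nat_lit 3, nat_lit 5, nat_lit 4, nat_lit 3, nat_lit 1, nat_lit 2, nat_lit 3, nat_lit 8, nat_lit 7, nat_lit 3]
def Wt_156_158 (j : ℕ) : List ℕ := bif Nat.blt j 157 then [nat_lit 4, nat_lit 3, nat_lit 2, nat_lit 1, nat_lit 7, nat_lit 6, nat_lit 5, nat_lit 4, nat_lit 3, nat_lit 2, nat_lit 1, nat_lit 7, nat_lit 6, nat_lit 5, nat_lit 4, nat_lit 3, nat_lit 2, nat_lit 1, nat_lit 7, nat_lit 6, nat_lit 5, nat_lit 4, nat_lit 3, nat_lit 2, nat_lit 1, nat_lit 7, nat_lit 6, nat_lit 5, nat_lit 4, nat_lit 3, nat_lit 2, nat_lit 1, nat_lit 7, nat_lit 6, nat_lit 5, nat_lit 4, nat_lit 3, nat_lit 2, nat_lit 1, nat_lit 7, nat_lit 6, nat_lit 5, nat_lit 4, nat_lit 3, nat_lit 2,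 nat_lit 1, nat_lit 7, nat_lit 6, nat_lit 5, nat_lit 4, nat_lit 3, nat_lit 2, nat_lit 1, nat_lit 7, nat_lit 6, nat_lit 5, nat_lit 4, nat_lit 3, nat_lit 2, nat_lit 1, nat_lit 7, nat_lit 6, nat_lit 5] else [nat_lit 0, nat_lit 7, nat_lit 5, nat_lit 4, nat_lit 3, nat_lit 2, nat_lit 1, nat_lit 0, nat_lit 7, nat_lit 5, nat_lit 4, nat_lit 3, nat_lit 2, nat_lit 1, nat_lit 0, nat_lit 7, nat_lit 5, nat_lit 4, nat_lit 3, nat_lit 2, nat_lit 1, nat_lit 0, nat_lit 7, nat_lit 5, nat_lit 4, nat_lit 3, nat_lit 2, nat_lit 1, nat_lit 0, nat_lit 7, nat_lit 5, nat_lit 4, nat_lit 3, nat_lit 2, nat_lit 1, nat_lit 0, nat_lit 7, nat_lit 5, nat_lit 4, nat_lit 3, nat_lit 2, nat_lit 1, nat_lit 0, nat_lit 7, nat_lit 5, nat_lit 4, nat_lit 3, nat_lit 2, nat_lit 1, nat_lit 0, nat_lit 7, nat_lit 5, nat_lit 4, nat_lit 3, nat_lit 2, nat_lit 1, nat_lit 0, nat_lit 7, nat_lit 5, nat_lit 4, nat_lit 3, nat_lit 2, nat_lit 1]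
def Wt_154_158 (j : ℕ) : List ℕ := bif Nat.blt j 156 then (Wt_154_156 j) else (Wt_156_158 j)
def Wt_151_158 (j : ℕ) : List ℕ := bif Nat.blt j 154 then (Wt_151_154 j) else (Wt_154_158 j)
def Wt_158_160 (j : ℕ) : List ℕ := bif Nat.blt j 159 then [nat_lit 63, nat_lit 8, nat_lit 1, nat_lit 8, nat_lit 1] else [nat_lit 2, nat_lit 3, nat_lit 8, nat_lit 7, nat_lit 3, nat_lit 5, nat_lit 4, nat_lit 3, nat_lit 1, nat_lit 2, nat_lit 3, nat_lit 8, nat_lit 7, nat_lit 3, nat_lit 5, nat_lit 4, nat_lit 3, nat_lit 1, nat_lit 2, nat_lit 3, nat_lit 8, nat_lit 7, nat_lit 3, nat_lit 5, nat_lit 4, nat_lit 3, nat_lit 1, nat_lit 2, nat_lit 3, nat_lit 8, nat_lit 7, nat_lit 3, nat_lit 5, nat_lit 4, nat_lit 3, nat_lit 1, nat_lit 2, nat_lit 3, nat_lit 8, nat_lit 7, nat_lit 3, nat_lit 5, nat_lit 4, nat_lit 3, nat_lit 1, nat_lit 2, nat_lit 3, nat_lit 8, nat_lit 7, nat_lit 3, nat_lit 5, nat_lit 4, nat_lit 3, nat_lit 1, nat_lit 2, nat_lit 3, nat_lit 8, nat_lit 7, nat_lit 3, nat_lit 5, nat_lit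 4, nat_lit 3, nat_lit 1, nat_lit 2, nat_lit 3, nat_lit 8, nat_lit 7, nat_lit 3, nat_lit 5, nat_lit 4, nat_lit 3, nat_lit 1, nat_lit 2, nat_lit 3, nat_lit 8, nat_lit 7, nat_lit 3, nat_lit 5, nat_lit 4, nat_lit 3, nat_lit 1, nat_lit 2, nat_lit 3, nat_lit 8, nat_lit 7, nat_lit 3, nat_lit 5, nat_lit 4, nat_lit 3, nat_lit 1]
def Wt_160_162 (j : ℕ) : List ℕ := bif Nat.blt j 161 then [nat_lit 63, nat_lit 0, nat_lit 3, nat_lit 0, nat_lit 3] else [nat_lit 63, nat_lit 8, nat_lit 4, nat_lit 8, nat_lit 4]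
def Wt_158_162 (j : ℕ) : List ℕ := bif Nat.blt j 160 then (Wt_158_160 j) else (Wt_160_162 j)
def Wt_162_164 (j : ℕ) : List ℕ := bif Nat.blt j 163 then [nat_lit 63, nat_lit 4, nat_lit 7, nat_lit 4, nat_lit 7] else [nat_lit 7, nat_lit 3, nat_lit 5, nat_lit 4, nat_lit 3, nat_lit 1, nat_lit 2, nat_lit 3, nat_lit 8, nat_lit 7, nat_lit 3, nat_lit 5, nat_lit 4, nat_lit 3, nat_lit 1, nat_lit 2, nat_lit 3, nat_lit 8, nat_lit 7, nat_lit 3, nat_lit 5, nat_lit 4, nat_lit 3, nat_lit 1, nat_lit 2, nat_lit 3, nat_lit 8, nat_lit 7, nat_lit 3, nat_lit 5, nat_lit 4, nat_lit 3, nat_lit 1, nat_lit 2, nat_lit 3, nat_lit 8, nat_lit 7, nat_lit 3, nat_lit 5, nat_lit 4, nat_lit 3, nat_lit 1, nat_lit 2, nat_lit 3, nat_lit 8, nat_lit 7, nat_lit 3, nat_lit 5, nat_lit 4, nat_lit 3, nat_lit 1, nat_lit 2, nat_lit 3, nat_lit 8, nat_lit 7, nat_lit 3, nat_lit 5, nat_lit 4, nat_lit 3, nat_lit 1, nat_lit 2, nat_lit 3, nat_lit 8, nat_lit 7, nat_lit 3, nat_lit 5, nat_lit 4, nat_lit 3, nat_lit 1,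 nat_lit 2, nat_lit 3, nat_lit 8, nat_lit 7, nat_lit 3, nat_lit 5, nat_lit 4, nat_lit 3, nat_lit 1, nat_lit 2, nat_lit 3, nat_lit 8, nat_lit 7, nat_lit 3, nat_lit 5, nat_lit 4, nat_lit 3, nat_lit 1, nat_lit 2, nat_lit 3, nat_lit 8]
def Wt_164_166 (j : ℕ) : List ℕ := bif Nat.blt j 165 then [nat_lit 63, nat_lit 2, nat_lit 6, nat_lit 2, nat_lit 6] else [nat_lit 63, nat_lit 5, nat_lit 8, nat_lit 5, nat_lit 8]
def Wt_162_166 (j : ℕ) : List ℕ := bif Nat.blt j 164 then (Wt_162_164 j) else (Wt_164_166 j)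
def Wt_158_166 (j : ℕ) : List ℕ := bif Nat.blt j 162 then (Wt_158_162 j) else (Wt_162_166 j)
def Wt_151_166 (j : ℕ) : List ℕ := bif Nat.blt j 158 then (Wt_151_158 j) else (Wt_158_166 j)
def Wt_167_169 (j : ℕ) : List ℕ := bif Nat.blt j 168 then [nat_lit 63, nat_lit 5, nat_lit 4, nat_lit 5, nat_lit 4, nat_lit 5, nat_lit 4] else [nat_lit 6, nat_lit 63, nat_lit 6, nat_lit 63]
def Wt_166_169 (j : ℕ) : List ℕ := bif Nat.blt j 167 then [nat_lit 63, nat_lit 1, nat_lit 8, nat_lit 1, nat_lit 8] else (Wt_167_169 j)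
def Wt_169_171 (j : ℕ) : List ℕ := bif Nat.blt j 170 then [nat_lit 63, nat_lit 8, nat_lit 2, nat_lit 8, nat_lit 2] else [nat_lit 3, nat_lit 8, nat_lit 7, nat_lit 3, nat_lit 5, nat_lit 4, nat_lit 3, nat_lit 1, nat_lit 2, nat_lit 3, nat_lit 8, nat_lit 7, nat_lit 3, nat_lit 5, nat_lit 4, nat_lit 3, nat_lit 1, nat_lit 2, nat_lit 3, nat_lit 8, nat_lit 7, nat_lit 3, nat_lit 5, nat_lit 4, nat_lit 3, nat_lit 1, nat_lit 2, nat_lit 3, nat_lit 8, nat_lit 7, nat_lit 3, nat_lit 5, nat_lit 4, nat_lit 3, nat_lit 1, nat_lit 2, nat_lit 3, nat_lit 8, nat_lit 7, nat_lit 3, nat_lit 5, nat_lit 4, nat_lit 3, nat_lit 1, nat_lit 2, nat_lit 3, nat_lit 8, nat_lit 7, nat_lit 3, nat_lit 5, nat_lit 4, nat_lit 3, nat_lit 1, nat_lit 2, nat_lit 3, nat_lit 8, nat_lit 7, nat_lit 3, nat_lit 5, nat_lit 4, nat_lit 3, nat_lit 1, nat_lit 2, nat_lit 3, nat_lit 8, nat_lit 7, nat_lit 3, nat_lit 5, nat_lit 4, nat_lit 3, nat_lit 1, nat_lit 2, nat_lit 3, nat_lit 8, nat_lit 7, nat_lit 3, nat_lit 5, nat_lit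 4, nat_lit 3, nat_lit 1, nat_lit 2, nat_lit 3, nat_lit 8, nat_lit 7, nat_lit 3, nat_lit 5, nat_lit 4, nat_lit 3, nat_lit 1, nat_lit 2]
def Wt_171_173 (j : ℕ) : List ℕ := bif Nat.blt j 172 then [nat_lit 63, nat_lit 3, nat_lit 6, nat_lit 3, nat_lit 6] else [nat_lit 5, nat_lit 4, nat_lit 3, nat_lit 2, nat_lit 1, nat_lit 0, nat_lit 7, nat_lit 5, nat_lit 4, nat_lit 3, nat_lit 2, nat_lit 1, nat_lit 0, nat_lit 7, nat_lit 5, nat_lit 4, nat_lit 3, nat_lit 2, nat_lit 1, nat_lit 0, nat_lit 7, nat_lit 5, nat_lit 4, nat_lit 3, nat_lit 2, nat_lit 1, nat_lit 0, nat_lit 7, nat_lit 5, nat_lit 4, nat_lit 3, nat_lit 2, nat_lit 1, nat_lit 0, nat_lit 7, nat_lit 5, nat_lit 4, nat_lit 3, nat_lit 2, nat_lit 1, nat_lit 0, nat_lit 7, nat_lit 5, nat_lit 4, nat_lit 3, nat_lit 2, nat_lit 1, nat_lit 0, nat_lit 7, nat_lit 5, nat_lit 4, nat_lit 3, nat_lit 2, nat_lit 1, nat_lit 0, nat_lit 7, nat_lit 5, nat_lit 4, nat_lit 3, nat_lit 2, nat_lit 1, nat_lit 0, nat_lit 7]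
def Wt_169_173 (j : ℕ) : List ℕ := bif Nat.blt j 171 then (Wt_169_171 j) else (Wt_171_173 j)
def Wt_166_173 (j : ℕ) : List ℕ := bif Nat.blt j 169 then (Wt_166_169 j) else (Wt_169_173 j)
def Wt_173_175 (j : ℕ) : List ℕ := bif Nat.blt j 174 then [nat_lit 63, nat_lit 0, nat_lit 5, nat_lit 0, nat_lit 5] else [nat_lit 63, nat_lit 0, nat_lit 1, nat_lit 0, nat_lit 1, nat_lit 0, nat_lit 1]
def Wt_175_177 (j : ℕ) : List ℕ := bif Nat.blt j 176 then [nat_lit 63, nat_lit 1, nat_lit 6, nat_lit 1, nat_lit 6] else [nat_lit 4, nat_lit 3, nat_lit 2, nat_lit 1, nat_lit 0, nat_lit 7, nat_lit 5, nat_lit 4, nat_lit 3, nat_lit 2, nat_lit 1, nat_lit 0, nat_lit 7, nat_lit 5, nat_lit 4, nat_lit 3, nat_lit 2, nat_lit 1, nat_lit 0, nat_lit 7, nat_lit 5, nat_lit 4, nat_lit 3, nat_lit 2, nat_lit 1, nat_lit 0, nat_lit 7, nat_lit 5, nat_lit 4, nat_lit 3, nat_lit 2, nat_lit 1, nat_lit 0, nat_lit 7, nat_lit 5, nat_lit 4, nat_lit 3, nat_lit 2, nat_lit 1, nat_lit 0, nat_lit 7, nat_lit 5, nat_lit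 4, nat_lit 3, nat_lit 2, nat_lit 1, nat_lit 0, nat_lit 7, nat_lit 5, nat_lit 4, nat_lit 3, nat_lit 2, nat_lit 1, nat_lit 0, nat_lit 7, nat_lit 5, nat_lit 4, nat_lit 3, nat_lit 2, nat_lit 1, nat_lit 0, nat_lit 7, nat_lit 5]
def Wt_173_177 (j : ℕ) : List ℕ := bif Nat.blt j 175 then (Wt_173_175 j) else (Wt_175_177 j)
def Wt_177_179 (j : ℕ) : List ℕ := bif Nat.blt j 178 then [nat_lit 7, nat_lit 5, nat_lit 4, nat_lit 3, nat_lit 2, nat_lit 1, nat_lit 0, nat_lit 7, nat_lit 5, nat_lit 4, nat_lit 3, nat_lit 2, nat_lit 1, nat_lit 0, nat_lit 7, nat_lit 5, nat_lit 4, nat_lit 3, nat_lit 2, nat_lit 1, nat_lit 0, nat_lit 7, nat_lit 5, nat_lit 4, nat_lit 3, nat_lit 2, nat_lit 1, nat_lit 0, nat_lit 7, nat_lit 5, nat_lit 4, nat_lit 3, nat_lit 2, nat_lit 1, nat_lit 0, nat_lit 7, nat_lit 5, nat_lit 4, nat_lit 3, nat_lit 2, nat_lit 1, nat_lit 0, nat_lit 7, nat_lit 5, nat_lit 4, nat_lit 3, nat_lit 2, nat_lit 1, nat_lit 0, nat_lit 7, nat_lit 5, nat_lit 4, nat_lit 3, nat_lit 2, nat_lit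 1, nat_lit 0, nat_lit 7, nat_lit 5, nat_lit 4, nat_lit 3, nat_lit 2, nat_lit 1, nat_lit 0] else [nat_lit 63, nat_lit 0, nat_lit 4, nat_lit 0, nat_lit 4]
def Wt_179_181 (j : ℕ) : List ℕ := bif Nat.blt j 180 then [nat_lit 63, nat_lit 1, nat_lit 0, nat_lit 1, nat_lit 0, nat_lit 1, nat_lit 0] else [nat_lit 63, nat_lit 3, nat_lit 4, nat_lit 3, nat_lit 4, nat_lit 3, nat_lit 4]
def Wt_177_181 (j : ℕ) : List ℕ := bif Nat.blt j 179 then (Wt_177_179 j) else (Wt_179_181 j)
def Wt_173_181 (j : ℕ) : List ℕ := bif Nat.blt j 177 then (Wt_173_177 j) else (Wt_177_181 j)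
def Wt_166_181 (j : ℕ) : List ℕ := bif Nat.blt j 173 then (Wt_166_173 j) else (Wt_173_181 j)
def Wt_151_181 (j : ℕ) : List ℕ := bif Nat.blt j 166 then (Wt_151_166 j) else (Wt_166_181 j)
def Wt_121_181 (j : ℕ) : List ℕ := bif Nat.blt j 151 then (Wt_121_151 j) else (Wt_151_181 j)
def Wt_182_184 (j : ℕ) : List ℕ := bif Nat.blt j 183 then [nat_lit 63, nat_lit 0, nat_lit 2, nat_lit 0, nat_lit 2] else [nat_lit 63, nat_lit 3, nat_lit 0, nat_lit 3, nat_lit 0]
def Wt_181_184 (j : ℕ) : List ℕ := bif Nat.blt j 182 then [nat_lit 2, nat_lit 1, nat_lit 0, nat_lit 7, nat_lit 5, nat_lit 4, nat_lit 3, nat_lit 2, nat_lit 1, nat_lit 0, nat_lit 7, nat_lit 5, nat_lit 4, nat_lit 3, nat_lit 2, nat_lit 1, nat_lit 0, nat_lit 7, nat_lit 5, nat_lit 4, nat_lit 3, nat_lit 2, nat_lit 1, nat_lit 0, nat_lit 7, nat_lit 5, nat_lit 4, nat_lit 3, nat_lit 2, nat_lit 1, nat_lit 0, nat_lit 7, nat_lit 5, nat_lit 4, nat_lit 3, nat_lit 2, nat_lit 1, nat_lit 0, nat_lit 7, nat_lit 5, nat_lit 4, nat_lit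 3, nat_lit 2, nat_lit 1, nat_lit 0, nat_lit 7, nat_lit 5, nat_lit 4, nat_lit 3, nat_lit 2, nat_lit 1, nat_lit 0, nat_lit 7, nat_lit 5, nat_lit 4, nat_lit 3, nat_lit 2, nat_lit 1, nat_lit 0, nat_lit 7, nat_lit 5, nat_lit 4, nat_lit 3] else (Wt_182_184 j)
def Wt_184_186 (j : ℕ) : List ℕ := bif Nat.blt j 185 then [nat_lit 63, nat_lit 4, nat_lit 8, nat_lit 4, nat_lit 8] else [nat_lit 63, nat_lit 7, nat_lit 2, nat_lit 7, nat_lit 2]
def Wt_186_188 (j : ℕ) : List ℕ := bif Nat.blt j 187 then [nat_lit 63, nat_lit 7, nat_lit 63, nat_lit 7, nat_lit 63] else [nat_lit 63, nat_lit 63, nat_lit 63, nat_lit 63]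
def Wt_184_188 (j : ℕ) : List ℕ := bif Nat.blt j 186 then (Wt_184_186 j) else (Wt_186_188 j)
def Wt_181_188 (j : ℕ) : List ℕ := bif Nat.blt j 184 then (Wt_181_184 j) else (Wt_184_188 j)
def Wt_188_190 (j : ℕ) : List ℕ := bif Nat.blt j 189 then [nat_lit 63, nat_lit 8, nat_lit 7, nat_lit 8, nat_lit 7, nat_lit 8, nat_lit 7] else [nat_lit 63, nat_lit 4, nat_lit 63, nat_lit 4, nat_lit 63]
def Wt_190_192 (j : ℕ) : List ℕ := bif Nat.blt j 191 then [nat_lit 63, nat_lit 63, nat_lit 4, nat_lit 63, nat_lit 4] else [nat_lit 63, nat_lit 63, nat_lit 5, nat_lit 63, nat_lit 5]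
def Wt_188_192 (j : ℕ) : List ℕ := bif Nat.blt j 190 then (Wt_188_190 j) else (Wt_190_192 j)
def Wt_192_194 (j : ℕ) : List ℕ := bif Nat.blt j 193 then [nat_lit 63, nat_lit 63, nat_lit 7, nat_lit 63, nat_lit 7] else [nat_lit 63, nat_lit 63, nat_lit 3, nat_lit 63, nat_lit 3]
def Wt_194_196 (j : ℕ) : List ℕ := bif Nat.blt j 195 then [nat_lit 63, nat_lit 63, nat_lit 2, nat_lit 63, nat_lit 2] else [nat_lit 63, nat_lit 5, nat_lit 0, nat_lit 5, nat_lit 0]
def Wt_192_196 (j : ℕ) : List ℕ := bif Nat.blt j 194 then (Wt_192_194 j) else (Wt_194_196 j)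
def Wt_188_196 (j : ℕ) : List ℕ := bif Nat.blt j 192 then (Wt_188_192 j) else (Wt_192_196 j)
def Wt_181_196 (j : ℕ) : List ℕ := bif Nat.blt j 188 then (Wt_181_188 j) else (Wt_188_196 j)
def Wt_197_199 (j : ℕ) : List ℕ := bif Nat.blt j 198 then [nat_lit 2, nat_lit 3, nat_lit 4, nat_lit 5, nat_lit 7, nat_lit 0, nat_lit 1, nat_lit 2, nat_lit 3, nat_lit 4, nat_lit 5, nat_lit 7, nat_lit 0, nat_lit 1, nat_lit 2, nat_lit 3, nat_lit 4, nat_lit 5, nat_lit 7, nat_lit 0, nat_lit 1, nat_lit 2, nat_lit 3, nat_lit 4, nat_lit 5, nat_lit 7, nat_lit 0, nat_lit 1, nat_lit 2, nat_lit 3, nat_lit 4, nat_lit 5, nat_lit 7, nat_lit 0, nat_lit 1, nat_lit 2, nat_lit 3, nat_lit 4, nat_lit 5, nat_lit 7, nat_lit 0, nat_lit 1, nat_lit 2, nat_lit 3, nat_lit 4, nat_lit 5, nat_lit 7, nat_lit 0, nat_lit 1, nat_lit 2, nat_lit 3, nat_lit 4, nat_lit 5, nat_lit 7, nat_lit 0, nat_lit 1, nat_lit 2, nat_lit 3, nat_lit 4, nat_lit 5, nat_lit 7, nat_lit 0, nat_lit 1] else [nat_lit 5, nat_lit 4, nat_lit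 3, nat_lit 2, nat_lit 1, nat_lit 7, nat_lit 6, nat_lit 5, nat_lit 4, nat_lit 3, nat_lit 2, nat_lit 1, nat_lit 7, nat_lit 6, nat_lit 5, nat_lit 4, nat_lit 3, nat_lit 2, nat_lit 1, nat_lit 7, nat_lit 6, nat_lit 5, nat_lit 4, nat_lit 3, nat_lit 2, nat_lit 1, nat_lit 7, nat_lit 6, nat_lit 5, nat_lit 4, nat_lit 3, nat_lit 2, nat_lit 1, nat_lit 7, nat_lit 6, nat_lit 5, nat_lit 4, nat_lit 3, nat_lit 2, nat_lit 1, nat_lit 7, nat_lit 6, nat_lit 5, nat_lit 4, nat_lit 3, nat_lit 2, nat_lit 1, nat_lit 7, nat_lit 6, nat_lit 5, nat_lit 4, nat_lit 3, nat_lit 2, nat_lit 1, nat_lit 7, nat_lit 6, nat_lit 5, nat_lit 4, nat_lit 3, nat_lit 2, nat_lit 1, nat_lit 7, nat_lit 6]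
def Wt_196_199 (j : ℕ) : List ℕ := bif Nat.blt j 197 then [nat_lit 63, nat_lit 6, nat_lit 8, nat_lit 6, nat_lit 8] else (Wt_197_199 j)
def Wt_199_201 (j : ℕ) : List ℕ := bif Nat.blt j 200 then [nat_lit 63, nat_lit 5, nat_lit 2, nat_lit 5, nat_lit 2] else [nat_lit 1, nat_lit 0, nat_lit 7, nat_lit 5, nat_lit 4, nat_lit 3, nat_lit 2, nat_lit 1, nat_lit 0, nat_lit 7, nat_lit 5, nat_lit 4, nat_lit 3, nat_lit 2, nat_lit 1, nat_lit 0, nat_lit 7, nat_lit 5, nat_lit 4, nat_lit 3, nat_lit 2, nat_lit 1, nat_lit 0, nat_lit 7, nat_lit 5, nat_lit 4, nat_lit 3, nat_lit 2, nat_lit 1, nat_lit 0, nat_lit 7, nat_lit 5, nat_lit 4, nat_lit 3, nat_lit 2, nat_lit 1, nat_lit 0, nat_lit 7, nat_lit 5, nat_lit 4, nat_lit 3, nat_lit 2, nat_lit 1, nat_lit 0, nat_lit 7, nat_lit 5, nat_lit 4, nat_lit 3, nat_lit 2, nat_lit 1, nat_lit 0, nat_lit 7, nat_lit 5, nat_lit 4, nat_lit 3, nat_lit 2, nat_lit 1, nat_lit 0, nat_lit 7, nat_lit 5, nat_lit 4, nat_lit 3, nat_lit 2]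
def Wt_201_203 (j : ℕ) : List ℕ := bif Nat.blt j 202 then [nat_lit 63, nat_lit 6, nat_lit 63, nat_lit 6, nat_lit 63] else [nat_lit 1, nat_lit 7, nat_lit 6, nat_lit 5, nat_lit 4, nat_lit 3, nat_lit 2, nat_lit 1, nat_lit 7, nat_lit 6, nat_lit 5, nat_lit 4, nat_lit 3, nat_lit 2, nat_lit 1, nat_lit 7, nat_lit 6, nat_lit 5, nat_lit 4, nat_lit 3, nat_lit 2, nat_lit 1, nat_lit 7, nat_lit 6, nat_lit 5, nat_lit 4, nat_lit 3, nat_lit 2, nat_lit 1, nat_lit 7, nat_lit 6, nat_lit 5, nat_lit 4, nat_lit 3, nat_lit 2, nat_lit 1, nat_lit 7, nat_lit 6, nat_lit 5, nat_lit 4, nat_lit 3, nat_lit 2, nat_lit 1, nat_lit 7, nat_lit 6, nat_lit 5, nat_lit 4, nat_lit 3, nat_lit 2, nat_lit 1, nat_lit 7, nat_lit 6, nat_lit 5, nat_lit 4, nat_lit 3, nat_lit 2, nat_lit 1, nat_lit 7, nat_lit 6, nat_lit 5, nat_lit 4, nat_lit 3, nat_lit 2]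
def Wt_199_203 (j : ℕ) : List ℕ := bif Nat.blt j 201 then (Wt_199_201 j) else (Wt_201_203 j)
def Wt_196_203 (j : ℕ) : List ℕ := bif Nat.blt j 199 then (Wt_196_199 j) else (Wt_199_203 j)
def Wt_203_205 (j : ℕ) : List ℕ := bif Nat.blt j 204 then [nat_lit 63, nat_lit 8, nat_lit 6, nat_lit 8, nat_lit 6] else [nat_lit 63, nat_lit 0, nat_lit 8, nat_lit 0, nat_lit 8]
def Wt_205_207 (j : ℕ) : List ℕ := bif Nat.blt j 206 then [nat_lit 63, nat_lit 4, nat_lit 0, nat_lit 4, nat_lit 0] else [nat_lit 3, nat_lit 1, nat_lit 2, nat_lit 3, nat_lit 8, nat_lit 7, nat_lit 3, nat_lit 5, nat_lit 4, nat_lit 3, nat_lit 1, nat_lit 2, nat_lit 3, nat_lit 8, nat_lit 7, nat_lit 3, nat_lit 5, nat_lit 4, nat_lit 3, nat_lit 1, nat_lit 2, nat_lit 3, nat_lit 8, nat_lit 7, nat_lit 3, nat_lit 5, nat_lit 4, nat_lit 3, nat_lit 1, nat_lit 2, nat_lit 3, nat_lit 8, nat_lit 7, nat_lit 3, nat_lit 5, nat_lit 4, nat_lit 3, nat_lit 1, nat_lit 2, nat_lit 3, nat_lit 8, nat_lit 7, nat_lit 3, nat_lit 5, nat_lit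 4, nat_lit 3, nat_lit 1, nat_lit 2, nat_lit 3, nat_lit 8, nat_lit 7, nat_lit 3, nat_lit 5, nat_lit 4, nat_lit 3, nat_lit 1, nat_lit 2, nat_lit 3, nat_lit 8, nat_lit 7, nat_lit 3, nat_lit 5, nat_lit 4, nat_lit 3, nat_lit 1, nat_lit 2, nat_lit 3, nat_lit 8, nat_lit 7, nat_lit 3, nat_lit 5, nat_lit 4, nat_lit 3, nat_lit 1, nat_lit 2, nat_lit 3, nat_lit 8, nat_lit 7, nat_lit 3, nat_lit 5, nat_lit 4, nat_lit 3, nat_lit 1, nat_lit 2, nat_lit 3, nat_lit 8, nat_lit 7, nat_lit 3, nat_lit 5, nat_lit 4]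
def Wt_203_207 (j : ℕ) : List ℕ := bif Nat.blt j 205 then (Wt_203_205 j) else (Wt_205_207 j)
def Wt_207_209 (j : ℕ) : List ℕ := bif Nat.blt j 208 then [nat_lit 63, nat_lit 0, nat_lit 6, nat_lit 0, nat_lit 6] else [nat_lit 63, nat_lit 3, nat_lit 4, nat_lit 5, nat_lit 3, nat_lit 7, nat_lit 8, nat_lit 3, nat_lit 2, nat_lit 1, nat_lit 3, nat_lit 4, nat_lit 5, nat_lit 3, nat_lit 7, nat_lit 8, nat_lit 3, nat_lit 2, nat_lit 1, nat_lit 3, nat_lit 4, nat_lit 5, nat_lit 3, nat_lit 7, nat_lit 8, nat_lit 3, nat_lit 2, nat_lit 1, nat_lit 3, nat_lit 4, nat_lit 5, nat_lit 3, nat_lit 7, nat_lit 8, nat_lit 3, nat_lit 2, nat_lit 1, nat_lit 3, nat_lit 4, nat_lit 5, nat_lit 3, nat_lit 7, nat_lit 8, nat_lit 3, nat_lit 2, nat_lit 1, nat_lit 3, nat_lit 4, nat_lit 5, nat_lit 3, nat_lit 7, nat_lit 8, nat_lit 3, nat_lit 2, nat_lit 1, nat_lit 3, nat_lit 4, nat_lit 5, nat_lit 3, nat_lit 7, nat_lit 8, nat_lit 3, nat_lit 2, nat_lit 1, nat_lit 3, nat_lit 4, nat_lit 5, nat_lit 3, nat_lit 7,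 nat_lit 8, nat_lit 3, nat_lit 2, nat_lit 1, nat_lit 3, nat_lit 4, nat_lit 5, nat_lit 3, nat_lit 7, nat_lit 8, nat_lit 3, nat_lit 2, nat_lit 1, nat_lit 3, nat_lit 4, nat_lit 5, nat_lit 3, nat_lit 7, nat_lit 8, nat_lit 3, nat_lit 2, nat_lit 1]
def Wt_209_211 (j : ℕ) : List ℕ := bif Nat.blt j 210 then [nat_lit 63, nat_lit 8, nat_lit 0, nat_lit 8, nat_lit 0] else [nat_lit 7, nat_lit 8, nat_lit 3, nat_lit 2, nat_lit 1, nat_lit 3, nat_lit 4, nat_lit 5, nat_lit 3, nat_lit 7, nat_lit 8, nat_lit 3, nat_lit 2, nat_lit 1, nat_lit 3, nat_lit 4, nat_lit 5, nat_lit 3, nat_lit 7, nat_lit 8, nat_lit 3, nat_lit 2, nat_lit 1, nat_lit 3, nat_lit 4, nat_lit 5, nat_lit 3, nat_lit 7, nat_lit 8, nat_lit 3, nat_lit 2, nat_lit 1, nat_lit 3, nat_lit 4, nat_lit 5, nat_lit 3, nat_lit 7, nat_lit 8, nat_lit 3, nat_lit 2, nat_lit 1, nat_lit 3, nat_lit 4, nat_lit 5, nat_lit 3, nat_lit 7, nat_lit 8, nat_lit 3, nat_lit 2, nat_lit 1, nat_lit 3, nat_lit 4, nat_lit 5, nat_lit 3, nat_lit 7, nat_lit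 8, nat_lit 3, nat_lit 2, nat_lit 1, nat_lit 3, nat_lit 4, nat_lit 5, nat_lit 3, nat_lit 7, nat_lit 8, nat_lit 3, nat_lit 2, nat_lit 1, nat_lit 3, nat_lit 4, nat_lit 5, nat_lit 3, nat_lit 7, nat_lit 8, nat_lit 3, nat_lit 2, nat_lit 1, nat_lit 3, nat_lit 4, nat_lit 5, nat_lit 3, nat_lit 7, nat_lit 8, nat_lit 3, nat_lit 2, nat_lit 1, nat_lit 3, nat_lit 4, nat_lit 5, nat_lit 3]
def Wt_207_211 (j : ℕ) : List ℕ := bif Nat.blt j 209 then (Wt_207_209 j) else (Wt_209_211 j)
def Wt_203_211 (j : ℕ) : List ℕ := bif Nat.blt j 207 then (Wt_203_207 j) else (Wt_207_211 j)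
def Wt_196_211 (j : ℕ) : List ℕ := bif Nat.blt j 203 then (Wt_196_203 j) else (Wt_203_211 j)
def Wt_181_211 (j : ℕ) : List ℕ := bif Nat.blt j 196 then (Wt_181_196 j) else (Wt_196_211 j)
def Wt_212_214 (j : ℕ) : List ℕ := bif Nat.blt j 213 then [nat_lit 63, nat_lit 2, nat_lit 1, nat_lit 3, nat_lit 4, nat_lit 5, nat_lit 3, nat_lit 7, nat_lit 8, nat_lit 3, nat_lit 2, nat_lit 1, nat_lit 3, nat_lit 4, nat_lit 5, nat_lit 3, nat_lit 7, nat_lit 8, nat_lit 3, nat_lit 2, nat_lit 1, nat_lit 3, nat_lit 4, nat_lit 5, nat_lit 3, nat_lit 7, nat_lit 8, nat_lit 3, nat_lit 2, nat_lit 1, nat_lit 3, nat_lit 4, nat_lit 5, nat_lit 3, nat_lit 7, nat_lit 8, nat_lit 3, nat_lit 2, nat_lit 1, nat_lit 3, nat_lit 4, nat_lit 5, nat_lit 3, nat_lit 7, nat_lit 8, nat_lit 3, nat_lit 2, nat_lit 1, nat_lit 3, nat_lit 4, nat_lit 5, nat_lit 3, nat_lit 7, nat_lit 8, nat_lit 3, nat_lit 2, nat_lit 1, nat_lit 3, nat_lit 4, nat_lit 5, nat_lit 3, nat_lit 7, nat_lit 8, nat_lit 3, nat_lit 2, nat_lit 1, nat_lit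 3, nat_lit 4, nat_lit 5, nat_lit 3, nat_lit 7, nat_lit 8, nat_lit 3, nat_lit 2, nat_lit 1, nat_lit 3, nat_lit 4, nat_lit 5, nat_lit 3, nat_lit 7, nat_lit 8, nat_lit 3, nat_lit 2, nat_lit 1, nat_lit 3, nat_lit 4, nat_lit 5, nat_lit 3, nat_lit 7, nat_lit 8, nat_lit 3] else [nat_lit 63, nat_lit 6, nat_lit 0, nat_lit 6, nat_lit 0]
def Wt_211_214 (j : ℕ) : List ℕ := bif Nat.blt j 212 then [nat_lit 63, nat_lit 0, nat_lit 63, nat_lit 0, nat_lit 63] else (Wt_212_214 j)
def Wt_214_216 (j : ℕ) : List ℕ := bif Nat.blt j 215 then [nat_lit 63, nat_lit 5, nat_lit 4, nat_lit 3, nat_lit 2, nat_lit 1, nat_lit 7, nat_lit 6, nat_lit 5, nat_lit 4, nat_lit 3, nat_lit 2, nat_lit 1, nat_lit 7, nat_lit 6, nat_lit 5, nat_lit 4, nat_lit 3, nat_lit 2, nat_lit 1, nat_lit 7, nat_lit 6, nat_lit 5, nat_lit 4, nat_lit 3, nat_lit 2, nat_lit 1, nat_lit 7, nat_lit 6, nat_lit 5, nat_lit 4, nat_lit 3, nat_lit 2, nat_lit 1, nat_lit 7, nat_lit 6, nat_lit 5, nat_lit 4, nat_lit 3, nat_lit 2, nat_lit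 1, nat_lit 7, nat_lit 6, nat_lit 5, nat_lit 4, nat_lit 3, nat_lit 2, nat_lit 1, nat_lit 7, nat_lit 6, nat_lit 5, nat_lit 4, nat_lit 3, nat_lit 2, nat_lit 1, nat_lit 7, nat_lit 6, nat_lit 5, nat_lit 4, nat_lit 3, nat_lit 2, nat_lit 1, nat_lit 7, nat_lit 6] else [nat_lit 2, nat_lit 1, nat_lit 3, nat_lit 4, nat_lit 5, nat_lit 3, nat_lit 7, nat_lit 8, nat_lit 3, nat_lit 2, nat_lit 1, nat_lit 3, nat_lit 4, nat_lit 5, nat_lit 3, nat_lit 7, nat_lit 8, nat_lit 3, nat_lit 2, nat_lit 1, nat_lit 3, nat_lit 4, nat_lit 5, nat_lit 3, nat_lit 7, nat_lit 8, nat_lit 3, nat_lit 2, nat_lit 1, nat_lit 3, nat_lit 4, nat_lit 5, nat_lit 3, nat_lit 7, nat_lit 8, nat_lit 3, nat_lit 2, nat_lit 1, nat_lit 3, nat_lit 4, nat_lit 5, nat_lit 3, nat_lit 7, nat_lit 8, nat_lit 3, nat_lit 2, nat_lit 1, nat_lit 3, nat_lit 4, nat_lit 5, nat_lit 3, nat_lit 7, nat_lit 8, nat_lit 3, nat_lit 2, nat_lit 1, nat_lit 3, nat_lit 4, nat_lit 5, nat_lit 3, nat_lit 7, nat_lit 8, nat_lit 3, nat_lit 2, nat_lit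 1, nat_lit 3, nat_lit 4, nat_lit 5, nat_lit 3, nat_lit 7, nat_lit 8, nat_lit 3, nat_lit 2, nat_lit 1, nat_lit 3, nat_lit 4, nat_lit 5, nat_lit 3, nat_lit 7, nat_lit 8, nat_lit 3, nat_lit 2, nat_lit 1, nat_lit 3, nat_lit 4, nat_lit 5, nat_lit 3, nat_lit 7, nat_lit 8, nat_lit 3]
def Wt_216_218 (j : ℕ) : List ℕ := bif Nat.blt j 217 then [nat_lit 1, nat_lit 3, nat_lit 4, nat_lit 5, nat_lit 3, nat_lit 7, nat_lit 8, nat_lit 3, nat_lit 2, nat_lit 1, nat_lit 3, nat_lit 4, nat_lit 5, nat_lit 3, nat_lit 7, nat_lit 8, nat_lit 3, nat_lit 2, nat_lit 1, nat_lit 3, nat_lit 4, nat_lit 5, nat_lit 3, nat_lit 7, nat_lit 8, nat_lit 3, nat_lit 2, nat_lit 1, nat_lit 3, nat_lit 4, nat_lit 5, nat_lit 3, nat_lit 7, nat_lit 8, nat_lit 3, nat_lit 2, nat_lit 1, nat_lit 3, nat_lit 4, nat_lit 5, nat_lit 3, nat_lit 7, nat_lit 8, nat_lit 3, nat_lit 2, nat_lit 1, nat_lit 3, nat_lit 4, nat_lit 5, nat_lit 3, nat_lit 7, nat_lit 8, nat_lit 3, nat_lit 2, nat_lit 1, nat_lit 3, nat_lit 4, nat_lit 5,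 nat_lit 3, nat_lit 7, nat_lit 8, nat_lit 3, nat_lit 2, nat_lit 1, nat_lit 3, nat_lit 4, nat_lit 5, nat_lit 3, nat_lit 7, nat_lit 8, nat_lit 3, nat_lit 2, nat_lit 1, nat_lit 3, nat_lit 4, nat_lit 5, nat_lit 3, nat_lit 7, nat_lit 8, nat_lit 3, nat_lit 2, nat_lit 1, nat_lit 3, nat_lit 4, nat_lit 5, nat_lit 3, nat_lit 7, nat_lit 8, nat_lit 3, nat_lit 2] else [nat_lit 1, nat_lit 2, nat_lit 3, nat_lit 4, nat_lit 5, nat_lit 6, nat_lit 7, nat_lit 1, nat_lit 2, nat_lit 3, nat_lit 4, nat_lit 5, nat_lit 6, nat_lit 7, nat_lit 1, nat_lit 2, nat_lit 3, nat_lit 4, nat_lit 5, nat_lit 6, nat_lit 7, nat_lit 1, nat_lit 2, nat_lit 3, nat_lit 4, nat_lit 5, nat_lit 6, nat_lit 7, nat_lit 1, nat_lit 2, nat_lit 3, nat_lit 4, nat_lit 5, nat_lit 6, nat_lit 7, nat_lit 1, nat_lit 2, nat_lit 3, nat_lit 4, nat_lit 5, nat_lit 6, nat_lit 7, nat_lit 1, nat_lit 2, nat_lit 3, nat_lit 4, nat_lit 5, nat_lit 6, nat_lit 7, nat_lit 1, nat_lit 2, nat_lit 3, nat_lit 4, nat_lit 5, nat_lit 6, nat_lit 7,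 nat_lit 1, nat_lit 2, nat_lit 3, nat_lit 4, nat_lit 5, nat_lit 6, nat_lit 7]
def Wt_214_218 (j : ℕ) : List ℕ := bif Nat.blt j 216 then (Wt_214_216 j) else (Wt_216_218 j)
def Wt_211_218 (j : ℕ) : List ℕ := bif Nat.blt j 214 then (Wt_211_214 j) else (Wt_214_218 j)
def Wt_218_220 (j : ℕ) : List ℕ := bif Nat.blt j 219 then [nat_lit 8, nat_lit 3, nat_lit 2, nat_lit 1, nat_lit 3, nat_lit 4, nat_lit 5, nat_lit 3, nat_lit 7, nat_lit 8, nat_lit 3, nat_lit 2, nat_lit 1, nat_lit 3, nat_lit 4, nat_lit 5, nat_lit 3, nat_lit 7, nat_lit 8, nat_lit 3, nat_lit 2, nat_lit 1, nat_lit 3, nat_lit 4, nat_lit 5, nat_lit 3, nat_lit 7, nat_lit 8, nat_lit 3, nat_lit 2, nat_lit 1, nat_lit 3, nat_lit 4, nat_lit 5, nat_lit 3, nat_lit 7, nat_lit 8, nat_lit 3, nat_lit 2, nat_lit 1, nat_lit 3, nat_lit 4, nat_lit 5, nat_lit 3, nat_lit 7, nat_lit 8, nat_lit 3, nat_lit 2, nat_lit 1, nat_lit 3, nat_lit 4, nat_lit 5, nat_lit 3, nat_lit 7, nat_lit 8, nat_lit 3, nat_lit 2, nat_lit 1, nat_lit 3, nat_lit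 4, nat_lit 5, nat_lit 3, nat_lit 7, nat_lit 8, nat_lit 3, nat_lit 2, nat_lit 1, nat_lit 3, nat_lit 4, nat_lit 5, nat_lit 3, nat_lit 7, nat_lit 8, nat_lit 3, nat_lit 2, nat_lit 1, nat_lit 3, nat_lit 4, nat_lit 5, nat_lit 3, nat_lit 7, nat_lit 8, nat_lit 3, nat_lit 2, nat_lit 1, nat_lit 3, nat_lit 4, nat_lit 5, nat_lit 3, nat_lit 7] else [nat_lit 63, nat_lit 4, nat_lit 3, nat_lit 1, nat_lit 2, nat_lit 3, nat_lit 8, nat_lit 7, nat_lit 3, nat_lit 5, nat_lit 4, nat_lit 3, nat_lit 1, nat_lit 2, nat_lit 3, nat_lit 8, nat_lit 7, nat_lit 3, nat_lit 5, nat_lit 4, nat_lit 3, nat_lit 1, nat_lit 2, nat_lit 3, nat_lit 8, nat_lit 7, nat_lit 3, nat_lit 5, nat_lit 4, nat_lit 3, nat_lit 1, nat_lit 2, nat_lit 3, nat_lit 8, nat_lit 7, nat_lit 3, nat_lit 5, nat_lit 4, nat_lit 3, nat_lit 1, nat_lit 2, nat_lit 3, nat_lit 8, nat_lit 7, nat_lit 3, nat_lit 5, nat_lit 4, nat_lit 3, nat_lit 1, nat_lit 2, nat_lit 3, nat_lit 8, nat_lit 7, nat_lit 3, nat_lit 5, nat_lit 4, nat_lit 3, nat_lit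 1, nat_lit 2, nat_lit 3, nat_lit 8, nat_lit 7, nat_lit 3, nat_lit 5, nat_lit 4, nat_lit 3, nat_lit 1, nat_lit 2, nat_lit 3, nat_lit 8, nat_lit 7, nat_lit 3, nat_lit 5, nat_lit 4, nat_lit 3, nat_lit 1, nat_lit 2, nat_lit 3, nat_lit 8, nat_lit 7, nat_lit 3, nat_lit 5, nat_lit 4, nat_lit 3, nat_lit 1, nat_lit 2, nat_lit 3, nat_lit 8, nat_lit 7, nat_lit 3, nat_lit 5]
def Wt_220_222 (j : ℕ) : List ℕ := bif Nat.blt j 221 then [nat_lit 5, nat_lit 3, nat_lit 7, nat_lit 8, nat_lit 3, nat_lit 2, nat_lit 1, nat_lit 3, nat_lit 4, nat_lit 5, nat_lit 3, nat_lit 7, nat_lit 8, nat_lit 3, nat_lit 2, nat_lit 1, nat_lit 3, nat_lit 4, nat_lit 5, nat_lit 3, nat_lit 7, nat_lit 8, nat_lit 3, nat_lit 2, nat_lit 1, nat_lit 3, nat_lit 4, nat_lit 5, nat_lit 3, nat_lit 7, nat_lit 8, nat_lit 3, nat_lit 2, nat_lit 1, nat_lit 3, nat_lit 4, nat_lit 5, nat_lit 3, nat_lit 7, nat_lit 8, nat_lit 3, nat_lit 2, nat_lit 1, nat_lit 3, nat_lit 4, nat_lit 5, nat_lit 3, nat_lit 7, nat_lit 8, nat_lit 3,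 nat_lit 2, nat_lit 1, nat_lit 3, nat_lit 4, nat_lit 5, nat_lit 3, nat_lit 7, nat_lit 8, nat_lit 3, nat_lit 2, nat_lit 1, nat_lit 3, nat_lit 4, nat_lit 5, nat_lit 3, nat_lit 7, nat_lit 8, nat_lit 3, nat_lit 2, nat_lit 1, nat_lit 3, nat_lit 4, nat_lit 5, nat_lit 3, nat_lit 7, nat_lit 8, nat_lit 3, nat_lit 2, nat_lit 1, nat_lit 3, nat_lit 4, nat_lit 5, nat_lit 3, nat_lit 7, nat_lit 8, nat_lit 3, nat_lit 2, nat_lit 1, nat_lit 3, nat_lit 4] else [nat_lit 63, nat_lit 6, nat_lit 5, nat_lit 4, nat_lit 3, nat_lit 2, nat_lit 1, nat_lit 7, nat_lit 6, nat_lit 5, nat_lit 4, nat_lit 3, nat_lit 2, nat_lit 1, nat_lit 7, nat_lit 6, nat_lit 5, nat_lit 4, nat_lit 3, nat_lit 2, nat_lit 1, nat_lit 7, nat_lit 6, nat_lit 5, nat_lit 4, nat_lit 3, nat_lit 2, nat_lit 1, nat_lit 7, nat_lit 6, nat_lit 5, nat_lit 4, nat_lit 3, nat_lit 2, nat_lit 1, nat_lit 7, nat_lit 6, nat_lit 5, nat_lit 4, nat_lit 3, nat_lit 2, nat_lit 1, nat_lit 7, nat_lit 6, nat_lit 5, nat_lit 4, nat_lit 3, nat_lit 2,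 nat_lit 1, nat_lit 7, nat_lit 6, nat_lit 5, nat_lit 4, nat_lit 3, nat_lit 2, nat_lit 1, nat_lit 7, nat_lit 6, nat_lit 5, nat_lit 4, nat_lit 3, nat_lit 2, nat_lit 1, nat_lit 7]
def Wt_218_222 (j : ℕ) : List ℕ := bif Nat.blt j 220 then (Wt_218_220 j) else (Wt_220_222 j)
def Wt_222_224 (j : ℕ) : List ℕ := bif Nat.blt j 223 then [nat_lit 4, nat_lit 5, nat_lit 7, nat_lit 0, nat_lit 1, nat_lit 2, nat_lit 3, nat_lit 4, nat_lit 5, nat_lit 7, nat_lit 0, nat_lit 1, nat_lit 2, nat_lit 3, nat_lit 4, nat_lit 5, nat_lit 7, nat_lit 0, nat_lit 1, nat_lit 2, nat_lit 3, nat_lit 4, nat_lit 5, nat_lit 7, nat_lit 0, nat_lit 1, nat_lit 2, nat_lit 3, nat_lit 4, nat_lit 5, nat_lit 7, nat_lit 0, nat_lit 1, nat_lit 2, nat_lit 3, nat_lit 4, nat_lit 5, nat_lit 7, nat_lit 0, nat_lit 1, nat_lit 2, nat_lit 3, nat_lit 4, nat_lit 5, nat_lit 7, nat_lit 0, nat_lit 1, nat_lit 2, nat_lit 3, nat_lit 4, nat_lit 5, nat_lit 7, nat_lit 0, nat_lit 1, nat_lit 2, nat_lit 3, nat_lit 4, nat_lit 5, nat_lit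 7, nat_lit 0, nat_lit 1, nat_lit 2, nat_lit 3] else [nat_lit 63, nat_lit 6, nat_lit 7, nat_lit 1, nat_lit 2, nat_lit 3, nat_lit 4, nat_lit 5, nat_lit 6, nat_lit 7, nat_lit 1, nat_lit 2, nat_lit 3, nat_lit 4, nat_lit 5, nat_lit 6, nat_lit 7, nat_lit 1, nat_lit 2, nat_lit 3, nat_lit 4, nat_lit 5, nat_lit 6, nat_lit 7, nat_lit 1, nat_lit 2, nat_lit 3, nat_lit 4, nat_lit 5, nat_lit 6, nat_lit 7, nat_lit 1, nat_lit 2, nat_lit 3, nat_lit 4, nat_lit 5, nat_lit 6, nat_lit 7, nat_lit 1, nat_lit 2, nat_lit 3, nat_lit 4, nat_lit 5, nat_lit 6, nat_lit 7, nat_lit 1, nat_lit 2, nat_lit 3, nat_lit 4, nat_lit 5, nat_lit 6, nat_lit 7, nat_lit 1, nat_lit 2, nat_lit 3, nat_lit 4, nat_lit 5, nat_lit 6, nat_lit 7, nat_lit 1, nat_lit 2, nat_lit 3, nat_lit 4, nat_lit 5]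
def Wt_224_226 (j : ℕ) : List ℕ := bif Nat.blt j 225 then [nat_lit 3, nat_lit 7, nat_lit 8, nat_lit 3, nat_lit 2, nat_lit 1, nat_lit 3, nat_lit 4, nat_lit 5, nat_lit 3, nat_lit 7, nat_lit 8, nat_lit 3, nat_lit 2, nat_lit 1, nat_lit 3, nat_lit 4, nat_lit 5, nat_lit 3, nat_lit 7, nat_lit 8, nat_lit 3, nat_lit 2, nat_lit 1, nat_lit 3, nat_lit 4, nat_lit 5, nat_lit 3, nat_lit 7, nat_lit 8, nat_lit 3, nat_lit 2, nat_lit 1, nat_lit 3, nat_lit 4, nat_lit 5, nat_lit 3, nat_lit 7, nat_lit 8, nat_lit 3, nat_lit 2, nat_lit 1, nat_lit 3, nat_lit 4, nat_lit 5, nat_lit 3, nat_lit 7, nat_lit 8, nat_lit 3, nat_lit 2, nat_lit 1, nat_lit 3, nat_lit 4, nat_lit 5, nat_lit 3, nat_lit 7, nat_lit 8, nat_lit 3, nat_lit 2, nat_lit 1, nat_lit 3, nat_lit 4, nat_lit 5, nat_lit 3, nat_lit 7, nat_lit 8, nat_lit 3, nat_lit 2, nat_lit 1, nat_lit 3, nat_lit 4, nat_lit 5, nat_lit 3, nat_lit 7, nat_lit 8, nat_lit 3, nat_lit 2, nat_lit 1, nat_lit 3, nat_lit 4, nat_lit 5, nat_lit 3, nat_lit 7, nat_lit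 8, nat_lit 3, nat_lit 2, nat_lit 1, nat_lit 3, nat_lit 4, nat_lit 5] else [nat_lit 5, nat_lit 6, nat_lit 7, nat_lit 1, nat_lit 2, nat_lit 3, nat_lit 4, nat_lit 5, nat_lit 6, nat_lit 7, nat_lit 1, nat_lit 2, nat_lit 3, nat_lit 4, nat_lit 5, nat_lit 6, nat_lit 7, nat_lit 1, nat_lit 2, nat_lit 3, nat_lit 4, nat_lit 5, nat_lit 6, nat_lit 7, nat_lit 1, nat_lit 2, nat_lit 3, nat_lit 4, nat_lit 5, nat_lit 6, nat_lit 7, nat_lit 1, nat_lit 2, nat_lit 3, nat_lit 4, nat_lit 5, nat_lit 6, nat_lit 7, nat_lit 1, nat_lit 2, nat_lit 3, nat_lit 4, nat_lit 5, nat_lit 6, nat_lit 7, nat_lit 1, nat_lit 2, nat_lit 3, nat_lit 4, nat_lit 5, nat_lit 6, nat_lit 7, nat_lit 1, nat_lit 2, nat_lit 3, nat_lit 4, nat_lit 5, nat_lit 6, nat_lit 7, nat_lit 1, nat_lit 2, nat_lit 3, nat_lit 4]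
def Wt_222_226 (j : ℕ) : List ℕ := bif Nat.blt j 224 then (Wt_222_224 j) else (Wt_224_226 j)
def Wt_218_226 (j : ℕ) : List ℕ := bif Nat.blt j 222 then (Wt_218_222 j) else (Wt_222_226 j)
def Wt_211_226 (j : ℕ) : List ℕ := bif Nat.blt j 218 then (Wt_211_218 j) else (Wt_218_226 j)
def Wt_226_228 (j : ℕ) : List ℕ := bif Nat.blt j 227 then [nat_lit 5, nat_lit 7, nat_lit 0, nat_lit 1, nat_lit 2, nat_lit 3, nat_lit 4, nat_lit 5, nat_lit 7, nat_lit 0, nat_lit 1, nat_lit 2, nat_lit 3, nat_lit 4, nat_lit 5, nat_lit 7, nat_lit 0, nat_lit 1, nat_lit 2, nat_lit 3, nat_lit 4, nat_lit 5, nat_lit 7, nat_lit 0, nat_lit 1, nat_lit 2, nat_lit 3, nat_lit 4, nat_lit 5, nat_lit 7, nat_lit 0, nat_lit 1, nat_lit 2, nat_lit 3, nat_lit 4, nat_lit 5, nat_lit 7, nat_lit 0, nat_lit 1, nat_lit 2, nat_lit 3, nat_lit 4, nat_lit 5, nat_lit 7, nat_lit 0, nat_lit 1, nat_lit 2, nat_lit 3, nat_lit 4, nat_lit 5, nat_lit 7, nat_lit 0, nat_lit 1, nat_lit 2, nat_lit 3, nat_lit 4, nat_lit 5, nat_lit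 7, nat_lit 0, nat_lit 1, nat_lit 2, nat_lit 3, nat_lit 4] else [nat_lit 3, nat_lit 4, nat_lit 5, nat_lit 6, nat_lit 7, nat_lit 1, nat_lit 2, nat_lit 3, nat_lit 4, nat_lit 5, nat_lit 6, nat_lit 7, nat_lit 1, nat_lit 2, nat_lit 3, nat_lit 4, nat_lit 5, nat_lit 6, nat_lit 7, nat_lit 1, nat_lit 2, nat_lit 3, nat_lit 4, nat_lit 5, nat_lit 6, nat_lit 7, nat_lit 1, nat_lit 2, nat_lit 3, nat_lit 4, nat_lit 5, nat_lit 6, nat_lit 7, nat_lit 1, nat_lit 2, nat_lit 3, nat_lit 4, nat_lit 5, nat_lit 6, nat_lit 7, nat_lit 1, nat_lit 2, nat_lit 3, nat_lit 4, nat_lit 5, nat_lit 6, nat_lit 7, nat_lit 1, nat_lit 2, nat_lit 3, nat_lit 4, nat_lit 5, nat_lit 6, nat_lit 7, nat_lit 1, nat_lit 2, nat_lit 3, nat_lit 4, nat_lit 5, nat_lit 6, nat_lit 7, nat_lit 1, nat_lit 2]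
def Wt_228_230 (j : ℕ) : List ℕ := bif Nat.blt j 229 then [nat_lit 0, nat_lit 1, nat_lit 2, nat_lit 3, nat_lit 4, nat_lit 5, nat_lit 7, nat_lit 0, nat_lit 1, nat_lit 2, nat_lit 3, nat_lit 4, nat_lit 5, nat_lit 7, nat_lit 0, nat_lit 1, nat_lit 2, nat_lit 3, nat_lit 4, nat_lit 5, nat_lit 7, nat_lit 0, nat_lit 1, nat_lit 2, nat_lit 3, nat_lit 4, nat_lit 5, nat_lit 7, nat_lit 0, nat_lit 1, nat_lit 2, nat_lit 3, nat_lit 4, nat_lit 5, nat_lit 7, nat_lit 0, nat_lit 1, nat_lit 2, nat_lit 3, nat_lit 4, nat_lit 5, nat_lit 7, nat_lit 0, nat_lit 1, nat_lit 2, nat_lit 3, nat_lit 4, nat_lit 5, nat_lit 7, nat_lit 0, nat_lit 1, nat_lit 2, nat_lit 3, nat_lit 4, nat_lit 5, nat_lit 7, nat_lit 0, nat_lit 1, nat_lit 2, nat_lit 3, nat_lit 4, nat_lit 5, nat_lit 7] else [nat_lit 6, nat_lit 7, nat_lit 1, nat_lit 2, nat_lit 3, nat_lit 4, nat_lit 5, nat_lit 6, nat_lit 7, nat_lit 1, nat_lit 2, nat_lit 3, nat_lit 4, nat_lit 5, nat_lit 6, nat_lit 7, nat_lit 1, nat_lit 2, nat_lit 3, nat_lit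 4, nat_lit 5, nat_lit 6, nat_lit 7, nat_lit 1, nat_lit 2, nat_lit 3, nat_lit 4, nat_lit 5, nat_lit 6, nat_lit 7, nat_lit 1, nat_lit 2, nat_lit 3, nat_lit 4, nat_lit 5, nat_lit 6, nat_lit 7, nat_lit 1, nat_lit 2, nat_lit 3, nat_lit 4, nat_lit 5, nat_lit 6, nat_lit 7, nat_lit 1, nat_lit 2, nat_lit 3, nat_lit 4, nat_lit 5, nat_lit 6, nat_lit 7, nat_lit 1, nat_lit 2, nat_lit 3, nat_lit 4, nat_lit 5, nat_lit 6, nat_lit 7, nat_lit 1, nat_lit 2, nat_lit 3, nat_lit 4, nat_lit 5]
def Wt_226_230 (j : ℕ) : List ℕ := bif Nat.blt j 228 then (Wt_226_228 j) else (Wt_228_230 j)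
def Wt_230_232 (j : ℕ) : List ℕ := bif Nat.blt j 231 then [nat_lit 2, nat_lit 3, nat_lit 4, nat_lit 5, nat_lit 6, nat_lit 7, nat_lit 1, nat_lit 2, nat_lit 3, nat_lit 4, nat_lit 5, nat_lit 6, nat_lit 7, nat_lit 1, nat_lit 2, nat_lit 3, nat_lit 4, nat_lit 5, nat_lit 6, nat_lit 7, nat_lit 1, nat_lit 2, nat_lit 3, nat_lit 4, nat_lit 5, nat_lit 6, nat_lit 7, nat_lit 1, nat_lit 2, nat_lit 3, nat_lit 4, nat_lit 5, nat_lit 6, nat_lit 7, nat_lit 1, nat_lit 2, nat_lit 3, nat_lit 4, nat_lit 5, nat_lit 6, nat_lit 7, nat_lit 1, nat_lit 2, nat_lit 3, nat_lit 4, nat_lit 5, nat_lit 6, nat_lit 7, nat_lit 1, nat_lit 2, nat_lit 3, nat_lit 4, nat_lit 5, nat_lit 6, nat_lit 7, nat_lit 1, nat_lit 2, nat_lit 3, nat_lit 4, nat_lit 5, nat_lit 6, nat_lit 7, nat_lit 1] else [nat_lit 63, nat_lit 3, nat_lit 7, nat_lit 8, nat_lit 3, nat_lit 2, nat_lit 1, nat_lit 3, nat_lit 4, nat_lit 5, nat_lit 3, nat_lit 7, nat_lit 8, nat_lit 3, nat_lit 2, nat_lit 1, nat_lit 3, nat_lit 4, nat_lit 5, nat_lit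 3, nat_lit 7, nat_lit 8, nat_lit 3, nat_lit 2, nat_lit 1, nat_lit 3, nat_lit 4, nat_lit 5, nat_lit 3, nat_lit 7, nat_lit 8, nat_lit 3, nat_lit 2, nat_lit 1, nat_lit 3, nat_lit 4, nat_lit 5, nat_lit 3, nat_lit 7, nat_lit 8, nat_lit 3, nat_lit 2, nat_lit 1, nat_lit 3, nat_lit 4, nat_lit 5, nat_lit 3, nat_lit 7, nat_lit 8, nat_lit 3, nat_lit 2, nat_lit 1, nat_lit 3, nat_lit 4, nat_lit 5, nat_lit 3, nat_lit 7, nat_lit 8, nat_lit 3, nat_lit 2, nat_lit 1, nat_lit 3, nat_lit 4, nat_lit 5, nat_lit 3, nat_lit 7, nat_lit 8, nat_lit 3, nat_lit 2, nat_lit 1, nat_lit 3, nat_lit 4, nat_lit 5, nat_lit 3, nat_lit 7, nat_lit 8, nat_lit 3, nat_lit 2, nat_lit 1, nat_lit 3, nat_lit 4, nat_lit 5, nat_lit 3, nat_lit 7, nat_lit 8, nat_lit 3, nat_lit 2, nat_lit 1, nat_lit 3, nat_lit 4, nat_lit 5]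
def Wt_232_234 (j : ℕ) : List ℕ := bif Nat.blt j 233 then [nat_lit 63, nat_lit 5, nat_lit 4, nat_lit 3, nat_lit 2, nat_lit 1, nat_lit 0, nat_lit 7, nat_lit 5, nat_lit 4, nat_lit 3, nat_lit 2, nat_lit 1, nat_lit 0, nat_lit 7, nat_lit 5, nat_lit 4, nat_lit 3, nat_lit 2, nat_lit 1, nat_lit 0, nat_lit 7, nat_lit 5, nat_lit 4, nat_lit 3, nat_lit 2, nat_lit 1, nat_lit 0, nat_lit 7, nat_lit 5, nat_lit 4, nat_lit 3, nat_lit 2, nat_lit 1, nat_lit 0, nat_lit 7, nat_lit 5, nat_lit 4, nat_lit 3, nat_lit 2, nat_lit 1, nat_lit 0, nat_lit 7, nat_lit 5, nat_lit 4, nat_lit 3, nat_lit 2, nat_lit 1, nat_lit 0, nat_lit 7, nat_lit 5, nat_lit 4, nat_lit 3, nat_lit 2, nat_lit 1, nat_lit 0, nat_lit 7, nat_lit 5, nat_lit 4, nat_lit 3, nat_lit 2, nat_lit 1, nat_lit 0, nat_lit 7] else [nat_lit 3, nat_lit 4, nat_lit 5, nat_lit 7, nat_lit 0, nat_lit 1, nat_lit 2, nat_lit 3, nat_lit 4, nat_lit 5, nat_lit 7, nat_lit 0, nat_lit 1, nat_lit 2, nat_lit 3, nat_lit 4, nat_lit 5, nat_lit 7, nat_lit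 0, nat_lit 1, nat_lit 2, nat_lit 3, nat_lit 4, nat_lit 5, nat_lit 7, nat_lit 0, nat_lit 1, nat_lit 2, nat_lit 3, nat_lit 4, nat_lit 5, nat_lit 7, nat_lit 0, nat_lit 1, nat_lit 2, nat_lit 3, nat_lit 4, nat_lit 5, nat_lit 7, nat_lit 0, nat_lit 1, nat_lit 2, nat_lit 3, nat_lit 4, nat_lit 5, nat_lit 7, nat_lit 0, nat_lit 1, nat_lit 2, nat_lit 3, nat_lit 4, nat_lit 5, nat_lit 7, nat_lit 0, nat_lit 1, nat_lit 2, nat_lit 3, nat_lit 4, nat_lit 5, nat_lit 7, nat_lit 0, nat_lit 1, nat_lit 2]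
def Wt_230_234 (j : ℕ) : List ℕ := bif Nat.blt j 232 then (Wt_230_232 j) else (Wt_232_234 j)
def Wt_226_234 (j : ℕ) : List ℕ := bif Nat.blt j 230 then (Wt_226_230 j) else (Wt_230_234 j)
def Wt_234_236 (j : ℕ) : List ℕ := bif Nat.blt j 235 then [nat_lit 63, nat_lit 5, nat_lit 4, nat_lit 3, nat_lit 1, nat_lit 2, nat_lit 3, nat_lit 8, nat_lit 7, nat_lit 3, nat_lit 5, nat_lit 4, nat_lit 3, nat_lit 1, nat_lit 2, nat_lit 3, nat_lit 8, nat_lit 7, nat_lit 3, nat_lit 5, nat_lit 4, nat_lit 3, nat_lit 1, nat_lit 2, nat_lit 3, nat_lit 8, nat_lit 7, nat_lit 3, nat_lit 5, nat_lit 4, nat_lit 3, nat_lit 1, nat_lit 2, nat_lit 3, nat_lit 8, nat_lit 7, nat_lit 3, nat_lit 5, nat_lit 4, nat_lit 3, nat_lit 1, nat_lit 2, nat_lit 3, nat_lit 8, nat_lit 7, nat_lit 3, nat_lit 5, nat_lit 4, nat_lit 3, nat_lit 1, nat_lit 2, nat_lit 3, nat_lit 8, nat_lit 7, nat_lit 3, nat_lit 5, nat_lit 4, nat_lit 3, nat_lit 1, nat_lit 2, nat_lit 3, nat_lit 8, nat_lit 7, nat_lit 3, nat_lit 5, nat_lit 4, nat_lit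 3, nat_lit 1, nat_lit 2, nat_lit 3, nat_lit 8, nat_lit 7, nat_lit 3, nat_lit 5, nat_lit 4, nat_lit 3, nat_lit 1, nat_lit 2, nat_lit 3, nat_lit 8, nat_lit 7, nat_lit 3, nat_lit 5, nat_lit 4, nat_lit 3, nat_lit 1, nat_lit 2, nat_lit 3, nat_lit 8, nat_lit 7, nat_lit 3] else [nat_lit 4, nat_lit 5, nat_lit 3, nat_lit 7, nat_lit 8, nat_lit 3, nat_lit 2, nat_lit 1, nat_lit 3, nat_lit 4, nat_lit 5, nat_lit 3, nat_lit 7, nat_lit 8, nat_lit 3, nat_lit 2, nat_lit 1, nat_lit 3, nat_lit 4, nat_lit 5, nat_lit 3, nat_lit 7, nat_lit 8, nat_lit 3, nat_lit 2, nat_lit 1, nat_lit 3, nat_lit 4, nat_lit 5, nat_lit 3, nat_lit 7, nat_lit 8, nat_lit 3, nat_lit 2, nat_lit 1, nat_lit 3, nat_lit 4, nat_lit 5, nat_lit 3, nat_lit 7, nat_lit 8, nat_lit 3, nat_lit 2, nat_lit 1, nat_lit 3, nat_lit 4, nat_lit 5, nat_lit 3, nat_lit 7, nat_lit 8, nat_lit 3, nat_lit 2, nat_lit 1, nat_lit 3, nat_lit 4, nat_lit 5, nat_lit 3, nat_lit 7, nat_lit 8, nat_lit 3, nat_lit 2, nat_lit 1, nat_lit 3, nat_lit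 4, nat_lit 5, nat_lit 3, nat_lit 7, nat_lit 8, nat_lit 3, nat_lit 2, nat_lit 1, nat_lit 3, nat_lit 4, nat_lit 5, nat_lit 3, nat_lit 7, nat_lit 8, nat_lit 3, nat_lit 2, nat_lit 1, nat_lit 3, nat_lit 4, nat_lit 5, nat_lit 3, nat_lit 7, nat_lit 8, nat_lit 3, nat_lit 2, nat_lit 1, nat_lit 3]
def Wt_236_238 (j : ℕ) : List ℕ := bif Nat.blt j 237 then [nat_lit 63, nat_lit 1, nat_lit 2, nat_lit 3, nat_lit 4, nat_lit 5, nat_lit 7, nat_lit 0, nat_lit 1, nat_lit 2, nat_lit 3, nat_lit 4, nat_lit 5, nat_lit 7, nat_lit 0, nat_lit 1, nat_lit 2, nat_lit 3, nat_lit 4, nat_lit 5, nat_lit 7, nat_lit 0, nat_lit 1, nat_lit 2, nat_lit 3, nat_lit 4, nat_lit 5, nat_lit 7, nat_lit 0, nat_lit 1, nat_lit 2, nat_lit 3, nat_lit 4, nat_lit 5, nat_lit 7, nat_lit 0, nat_lit 1, nat_lit 2, nat_lit 3, nat_lit 4, nat_lit 5, nat_lit 7, nat_lit 0, nat_lit 1, nat_lit 2, nat_lit 3, nat_lit 4, nat_lit 5, nat_lit 7, nat_lit 0, nat_lit 1, nat_lit 2, nat_lit 3, nat_lit 4, nat_lit 5, nat_lit 7, nat_lit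 0, nat_lit 1, nat_lit 2, nat_lit 3, nat_lit 4, nat_lit 5, nat_lit 7, nat_lit 0] else [nat_lit 1, nat_lit 2, nat_lit 3, nat_lit 4, nat_lit 5, nat_lit 7, nat_lit 0, nat_lit 1, nat_lit 2, nat_lit 3, nat_lit 4, nat_lit 5, nat_lit 7, nat_lit 0, nat_lit 1, nat_lit 2, nat_lit 3, nat_lit 4, nat_lit 5, nat_lit 7, nat_lit 0, nat_lit 1, nat_lit 2, nat_lit 3, nat_lit 4, nat_lit 5, nat_lit 7, nat_lit 0, nat_lit 1, nat_lit 2, nat_lit 3, nat_lit 4, nat_lit 5, nat_lit 7, nat_lit 0, nat_lit 1, nat_lit 2, nat_lit 3, nat_lit 4, nat_lit 5, nat_lit 7, nat_lit 0, nat_lit 1, nat_lit 2, nat_lit 3, nat_lit 4, nat_lit 5, nat_lit 7, nat_lit 0, nat_lit 1, nat_lit 2, nat_lit 3, nat_lit 4, nat_lit 5, nat_lit 7, nat_lit 0, nat_lit 1, nat_lit 2, nat_lit 3, nat_lit 4, nat_lit 5, nat_lit 7, nat_lit 0]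
def Wt_234_238 (j : ℕ) : List ℕ := bif Nat.blt j 236 then (Wt_234_236 j) else (Wt_236_238 j)
def Wt_238_240 (j : ℕ) : List ℕ := bif Nat.blt j 239 then [nat_lit 7, nat_lit 1, nat_lit 2, nat_lit 3, nat_lit 4, nat_lit 5, nat_lit 6, nat_lit 7, nat_lit 1, nat_lit 2, nat_lit 3, nat_lit 4, nat_lit 5, nat_lit 6, nat_lit 7, nat_lit 1, nat_lit 2, nat_lit 3, nat_lit 4, nat_lit 5, nat_lit 6, nat_lit 7, nat_lit 1, nat_lit 2, nat_lit 3, nat_lit 4, nat_lit 5, nat_lit 6, nat_lit 7, nat_lit 1, nat_lit 2, nat_lit 3, nat_lit 4, nat_lit 5, nat_lit 6, nat_lit 7, nat_lit 1, nat_lit 2, nat_lit 3, nat_lit 4, nat_lit 5, nat_lit 6, nat_lit 7, nat_lit 1, nat_lit 2, nat_lit 3, nat_lit 4, nat_lit 5, nat_lit 6, nat_lit 7, nat_lit 1, nat_lit 2, nat_lit 3, nat_lit 4, nat_lit 5, nat_lit 6, nat_lit 7, nat_lit 1, nat_lit 2, nat_lit 3, nat_lit 4, nat_lit 5, nat_lit 6] else [nat_lit 3, nat_lit 4, nat_lit 5, nat_lit 3, nat_lit 7, nat_lit 8, nat_lit 3, nat_lit 2, nat_lit 1, nat_lit 3, nat_lit 4, nat_lit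 5, nat_lit 3, nat_lit 7, nat_lit 8, nat_lit 3, nat_lit 2, nat_lit 1, nat_lit 3, nat_lit 4, nat_lit 5, nat_lit 3, nat_lit 7, nat_lit 8, nat_lit 3, nat_lit 2, nat_lit 1, nat_lit 3, nat_lit 4, nat_lit 5, nat_lit 3, nat_lit 7, nat_lit 8, nat_lit 3, nat_lit 2, nat_lit 1, nat_lit 3, nat_lit 4, nat_lit 5, nat_lit 3, nat_lit 7, nat_lit 8, nat_lit 3, nat_lit 2, nat_lit 1, nat_lit 3, nat_lit 4, nat_lit 5, nat_lit 3, nat_lit 7, nat_lit 8, nat_lit 3, nat_lit 2, nat_lit 1, nat_lit 3, nat_lit 4, nat_lit 5, nat_lit 3, nat_lit 7, nat_lit 8, nat_lit 3, nat_lit 2, nat_lit 1, nat_lit 3, nat_lit 4, nat_lit 5, nat_lit 3, nat_lit 7, nat_lit 8, nat_lit 3, nat_lit 2, nat_lit 1, nat_lit 3, nat_lit 4, nat_lit 5, nat_lit 3, nat_lit 7, nat_lit 8, nat_lit 3, nat_lit 2, nat_lit 1, nat_lit 3, nat_lit 4, nat_lit 5, nat_lit 3, nat_lit 7, nat_lit 8, nat_lit 3, nat_lit 2, nat_lit 1]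
def Wt_240_242 (j : ℕ) : List ℕ := bif Nat.blt j 241 then [nat_lit 63, nat_lit 4, nat_lit 5, nat_lit 6, nat_lit 7, nat_lit 1, nat_lit 2, nat_lit 3, nat_lit 4, nat_lit 5, nat_lit 6, nat_lit 7, nat_lit 1, nat_lit 2, nat_lit 3, nat_lit 4, nat_lit 5, nat_lit 6, nat_lit 7, nat_lit 1, nat_lit 2, nat_lit 3, nat_lit 4, nat_lit 5, nat_lit 6, nat_lit 7, nat_lit 1, nat_lit 2, nat_lit 3, nat_lit 4, nat_lit 5, nat_lit 6, nat_lit 7, nat_lit 1, nat_lit 2, nat_lit 3, nat_lit 4, nat_lit 5, nat_lit 6, nat_lit 7, nat_lit 1, nat_lit 2, nat_lit 3, nat_lit 4, nat_lit 5, nat_lit 6, nat_lit 7, nat_lit 1, nat_lit 2, nat_lit 3, nat_lit 4, nat_lit 5, nat_lit 6, nat_lit 7, nat_lit 1, nat_lit 2, nat_lit 3, nat_lit 4, nat_lit 5, nat_lit 6, nat_lit 7, nat_lit 1, nat_lit 2, nat_lit 3] else [nat_lit 7, nat_lit 0, nat_lit 1, nat_lit 2, nat_lit 3, nat_lit 4, nat_lit 5, nat_lit 7, nat_lit 0, nat_lit 1, nat_lit 2, nat_lit 3, nat_lit 4, nat_lit 5, nat_lit 7, nat_lit 0, nat_lit 1, nat_lit 2, nat_lit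 3, nat_lit 4, nat_lit 5, nat_lit 7, nat_lit 0, nat_lit 1, nat_lit 2, nat_lit 3, nat_lit 4, nat_lit 5, nat_lit 7, nat_lit 0, nat_lit 1, nat_lit 2, nat_lit 3, nat_lit 4, nat_lit 5, nat_lit 7, nat_lit 0, nat_lit 1, nat_lit 2, nat_lit 3, nat_lit 4, nat_lit 5, nat_lit 7, nat_lit 0, nat_lit 1, nat_lit 2, nat_lit 3, nat_lit 4, nat_lit 5, nat_lit 7, nat_lit 0, nat_lit 1, nat_lit 2, nat_lit 3, nat_lit 4, nat_lit 5, nat_lit 7, nat_lit 0, nat_lit 1, nat_lit 2, nat_lit 3, nat_lit 4, nat_lit 5]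
def Wt_238_242 (j : ℕ) : List ℕ := bif Nat.blt j 240 then (Wt_238_240 j) else (Wt_240_242 j)
def Wt_234_242 (j : ℕ) : List ℕ := bif Nat.blt j 238 then (Wt_234_238 j) else (Wt_238_242 j)
def Wt_226_242 (j : ℕ) : List ℕ := bif Nat.blt j 234 then (Wt_226_234 j) else (Wt_234_242 j)
def Wt_211_242 (j : ℕ) : List ℕ := bif Nat.blt j 226 then (Wt_211_226 j) else (Wt_226_242 j)
def Wt_181_242 (j : ℕ) : List ℕ := bif Nat.blt j 211 then (Wt_181_211 j) else (Wt_211_242 j)
def Wt_121_242 (j : ℕ) : List ℕ := bif Nat.blt j 181 then (Wt_121_181 j) else (Wt_181_242 j)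
def Wt_0_242 (j : ℕ) : List ℕ := bif Nat.blt j 121 then (Wt_0_121 j) else (Wt_121_242 j)
def Wt (j : ℕ) : List ℕ := (Wt_0_242 j)
def W (j : ℕ) : List ℕ := bif Nat.blt j 242 then Wt j else []
theorem W_ge (j : ℕ) (h : 242 ≤ j) : W j = [] := by
  unfold W
  rw [blt_false_of_le h]
  rfl
def Hl : List ℕ := [nat_lit 1, nat_lit 2, nat_lit 3, nat_lit 4, nat_lit 5, nat_lit 6, nat_lit 7, nat_lit 8]
def isH (y : ℕ) : Bool := List.elem y Hl
def Rb : List (List ℕ) := [[nat_lit 0, nat_lit 0],
  [nat_lit 1, nat_lit 0, nat_lit 1, nat_lit 0, nat_lit 1, nat_lit 0],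
  [nat_lit 2, nat_lit 0, nat_lit 2, nat_lit 0],
  [nat_lit 3, nat_lit 0, nat_lit 3, nat_lit 0],
  [nat_lit 4, nat_lit 0, nat_lit 4, nat_lit 0],
  [nat_lit 5, nat_lit 0, nat_lit 5, nat_lit 0],
  [nat_lit 6, nat_lit 0, nat_lit 6, nat_lit 0],
  [nat_lit 7, nat_lit 0, nat_lit 7, nat_lit 0],
  [nat_lit 8, nat_lit 0, nat_lit 8, nat_lit 0],
  [nat_lit 1, nat_lit 1],
  [nat_lit 2, nat_lit 1, nat_lit 2, nat_lit 1, nat_lit 2, nat_lit 1],
  [nat_lit 3, nat_lit 1, nat_lit 3, nat_lit 1],
  [nat_lit 4, nat_lit 1, nat_lit 4, nat_lit 1],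
  [nat_lit 5, nat_lit 1, nat_lit 5, nat_lit 1],
  [nat_lit 6, nat_lit 1, nat_lit 6, nat_lit 1],
  [nat_lit 7, nat_lit 1, nat_lit 7, nat_lit 1],
  [nat_lit 8, nat_lit 1, nat_lit 8, nat_lit 1],
  [nat_lit 2, nat_lit 2],
  [nat_lit 3, nat_lit 2, nat_lit 3, nat_lit 2, nat_lit 3, nat_lit 2],
  [nat_lit 4, nat_lit 2, nat_lit 4, nat_lit 2],
  [nat_lit 5, nat_lit 2, nat_lit 5, nat_lit 2],
  [nat_lit 6, nat_lit 2, nat_lit 6, nat_lit 2],
  [nat_lit 7, nat_lit 2, nat_lit 7, nat_lit 2],
  [nat_lit 8, nat_lit 2, nat_lit 8, nat_lit 2],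
  [nat_lit 3, nat_lit 3],
  [nat_lit 4, nat_lit 3, nat_lit 4, nat_lit 3, nat_lit 4, nat_lit 3],
  [nat_lit 5, nat_lit 3, nat_lit 5, nat_lit 3],
  [nat_lit 6, nat_lit 3, nat_lit 6, nat_lit 3],
  [nat_lit 7, nat_lit 3, nat_lit 7, nat_lit 3, nat_lit 7, nat_lit 3],
  [nat_lit 8, nat_lit 3, nat_lit 8, nat_lit 3],
  [nat_lit 4, nat_lit 4],
  [nat_lit 5, nat_lit 4, nat_lit 5, nat_lit 4, nat_lit 5, nat_lit 4],
  [nat_lit 6, nat_lit 4, nat_lit 6, nat_lit 4],
  [nat_lit 7, nat_lit 4, nat_lit 7, nat_lit 4],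
  [nat_lit 8, nat_lit 4, nat_lit 8, nat_lit 4],
  [nat_lit 5, nat_lit 5],
  [nat_lit 6, nat_lit 5, nat_lit 6, nat_lit 5, nat_lit 6, nat_lit 5],
  [nat_lit 7, nat_lit 5, nat_lit 7, nat_lit 5],
  [nat_lit 8, nat_lit 5, nat_lit 8, nat_lit 5],
  [nat_lit 6, nat_lit 6],
  [nat_lit 7, nat_lit 6, nat_lit 7, nat_lit 6],
  [nat_lit 8, nat_lit 6, nat_lit 8, nat_lit 6],
  [nat_lit 7, nat_lit 7],
  [nat_lit 8, nat_lit 7, nat_lit 8, nat_lit 7, nat_lit 8, nat_lit 7],
  [nat_lit 8, nat_lit 8],
  [nat_lit 8, nat_lit 7, nat_lit 3, nat_lit 5, nat_lit 4, nat_lit 3, nat_lit 1, nat_lit 2, nat_lit 3, nat_lit 8, nat_lit 7, nat_lit 3, nat_lit 5, nat_lit 4, nat_lit 3, nat_lit 1, nat_lit 2, nat_lit 3, nat_lit 8, nat_lit 7, nat_lit 3, nat_lit 5, nat_lit 4, nat_lit 3, nat_lit 1, nat_lit 2, nat_lit 3, nat_lit 8, nat_lit 7, nat_lit 3, nat_lit 5, nat_lit 4, nat_lit 3, nat_lit 1, nat_lit 2, nat_lit 3, nat_lit 8, nat_lit 7, nat_lit 3, nat_lit 5, nat_lit 4, nat_lit 3, nat_lit 1, nat_lit 2, nat_lit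 3, nat_lit 8, nat_lit 7, nat_lit 3, nat_lit 5, nat_lit 4, nat_lit 3, nat_lit 1, nat_lit 2, nat_lit 3, nat_lit 8, nat_lit 7, nat_lit 3, nat_lit 5, nat_lit 4, nat_lit 3, nat_lit 1, nat_lit 2, nat_lit 3, nat_lit 8, nat_lit 7, nat_lit 3, nat_lit 5, nat_lit 4, nat_lit 3, nat_lit 1, nat_lit 2, nat_lit 3, nat_lit 8, nat_lit 7, nat_lit 3, nat_lit 5, nat_lit 4, nat_lit 3, nat_lit 1, nat_lit 2, nat_lit 3, nat_lit 8, nat_lit 7, nat_lit 3, nat_lit 5, nat_lit 4, nat_lit 3, nat_lit 1, nat_lit 2, nat_lit 3],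
  [nat_lit 7, nat_lit 5, nat_lit 4, nat_lit 3, nat_lit 2, nat_lit 1, nat_lit 0, nat_lit 7, nat_lit 5, nat_lit 4, nat_lit 3, nat_lit 2, nat_lit 1, nat_lit 0, nat_lit 7, nat_lit 5, nat_lit 4, nat_lit 3, nat_lit 2, nat_lit 1, nat_lit 0, nat_lit 7, nat_lit 5, nat_lit 4, nat_lit 3, nat_lit 2, nat_lit 1, nat_lit 0, nat_lit 7, nat_lit 5, nat_lit 4, nat_lit 3, nat_lit 2, nat_lit 1, nat_lit 0, nat_lit 7, nat_lit 5, nat_lit 4, nat_lit 3, nat_lit 2, nat_lit 1, nat_lit 0, nat_lit 7, nat_lit 5, nat_lit 4, nat_lit 3, nat_lit 2, nat_lit 1, nat_lit 0, nat_lit 7, nat_lit 5, nat_lit 4, nat_lit 3, nat_lit 2, nat_lit 1, nat_lit 0, nat_lit 7, nat_lit 5, nat_lit 4, nat_lit 3, nat_lit 2, nat_lit 1, nat_lit 0],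
  [nat_lit 7, nat_lit 6, nat_lit 5, nat_lit 4, nat_lit 3, nat_lit 2, nat_lit 1, nat_lit 7, nat_lit 6, nat_lit 5, nat_lit 4, nat_lit 3, nat_lit 2, nat_lit 1, nat_lit 7, nat_lit 6, nat_lit 5, nat_lit 4, nat_lit 3, nat_lit 2, nat_lit 1, nat_lit 7, nat_lit 6, nat_lit 5, nat_lit 4, nat_lit 3, nat_lit 2, nat_lit 1, nat_lit 7, nat_lit 6, nat_lit 5, nat_lit 4, nat_lit 3, nat_lit 2, nat_lit 1, nat_lit 7, nat_lit 6, nat_lit 5, nat_lit 4, nat_lit 3, nat_lit 2, nat_lit 1, nat_lit 7, nat_lit 6, nat_lit 5, nat_lit 4, nat_lit 3, nat_lit 2, nat_lit 1, nat_lit 7, nat_lit 6, nat_lit 5, nat_lit 4, nat_lit 3, nat_lit 2, nat_lit 1, nat_lit 7, nat_lit 6, nat_lit 5, nat_lit 4, nat_lit 3, nat_lit 2, nat_lit 1],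
  []]
def spT_0_2 (j : ℕ) : ℕ := bif Nat.blt j 1 then nat_lit 0x380000202c000000300000204a0000204200002038000000000000001200000046000000300000001200000030000020260000003400000032000000420000003e000020340000003c00002028000000460000202c00000022000000220000202400002014000020020000000e000000040000006000000012000000120000001400000054000000000000000e0000000a0000000800000006000000040000001e0000001a0000001800000016000000140000002c0000002800000026000000240000805c000020200000201e0000201c0000201a000020180000201600000002000020100000200e0000200c0000200a000020080000200600002004 else nat_lit 0xc05e0000002200000046000020180000201400000054000000240000003200002034000020560000004c0000004c000000300000003a000000520000003a000000580000203a00002056000000220000201600000056000000440000002e00000020000000100000205a0000004600000050000020480000001a0000001e0000004800002050000020500000002a0000004e000000000000001c000020520000004800000040000000360000002a0000001c0000000c0000405e0000005000002040000020360000204c000020440000203a0000202e0000202a0000003c000020280000203e00002026000020320000204a0000200e0000004a0000004a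
def spT_2_4 (j : ℕ) : ℕ := bif Nat.blt j 3 then nat_lit 0x460000003c0000003c0000005600000060000000540000002c0000204400000006000020040000a05c0000203200000002000020080000205c0000605c0000201c000020020000200a0000405c000020360000005a0000002e0000004e0000003e000020200000204c0000202a0000405a0000204200000044000020060001005a000000200000005c0000805e0000805a0000605a000000580000005800000038000000540000e05a0000203e0000201e0000205e0000201a0000002600002038000000420000a05e00000018000000580000202e00002024000000160000003c0000a05a000020400000004e00000036000000340000204800000040 else nat_lit 0x5d0000605f0000805b0000005f0000405d0000205d0000a05b0000605a0000805d0000205c0000c05b0000405f0000c05f0000205d0000605f0000c05d0000a05f0000e05b0000a05f0000a05d0000205e0000c05b0000805a0000005b0000205f0000605b0000405b0000405e0000000c0000205b000000000001005b000000100000605b0000200c0000c05a0000000800002010000000520000005e0000004e0000c05c000000280000605e0000605d000020520000000a000000220000003000000054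
def spT_0_4 (j : ℕ) : ℕ := bif Nat.blt j 2 then (spT_0_2 j) else (spT_2_4 j)
def spT (j : ℕ) : ℕ := (spT_0_4 j)
def sp (j : ℕ) : ℕ := Nat.land (Nat.shiftRight (spT (Nat.shiftRight j 6)) (Nat.mul (Nat.land j 63) 32)) 4294967295
theorem Eo_lt (r : ℕ) : Eo r < 18014398509481984 := land54_lt _
def cT_1_3 (j : ℕ) : ℕ := bif Nat.blt j 2 then nat_lit 0x1083001725000528000579000578000a8c000a8a00012d0008850002280001c20002dd00031800019e00097f0003a30000ab00004e00044600008300010a0000720000ff00016f0003e20002300019bb0007c80011110007740009790009ac000c0200097600130a0006ed0007c0000e860006eb0006ea00065300057000014d00091e00073a000a8900061000072f00069800069a0008840005740005c900003600052700057b00023f0009dd0012040010bd000526000525000034000778000a9000077500022600020100012e0000810001bf00017d0000ac0001ee00004d0004130001780000730000fe00017000016d00025a0011770007c500117300091f00073700080d0007350006ec0007c30006e90005720006190000370007390016f40006110007300006990003150005770000e90001550005240001a60007790010bf0005760002c200003300077600023700012f00022400004c0001bd00007f00017f0000ad0001ef0003ae0000740002c10000fd00023500016c00025b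 else nat_lit 0xf18001382001d72000772000557000ef30007bd001d13001280000e83000e8c000abb0005550008a30006230017120006a6000eaa00065400056d0006a100073d00091c0009d9000b98000b9700060d001d94000f1e00186100072c0009d70006f000064e000e16000e170006a800111500088200078a00061d00061c00116200065000109a0005cc0005c50012eb000af0001207000fa400108100057c0005bd0005290005cb000fde00012b000929000c5e0000610001c300005b0008860002bb00006700019c0003a50009da0001dc00004f00021a000af60000aa00008400010e00031600007100010100010b0001de0004e50001eb0001850007c900110d001d8f000773000a240009ad0019ba00097800119d0011120009d6000edd0007be0010e1000e840006a70008110012330006a400065200056f00039c00097e00091d00073b0009d8000af200060e00119f00072e0006ef000697000e8700135400088300061e0005ca00014b00065100057a0005c40002c30012ec000a57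
def cT_0_3 (j : ℕ) : ℕ := bif Nat.blt j 1 then nat_lit 0x80c00077d0007380007360007340007860003580006a30000ea0000380009850006120007320004e70001480001580000db00077a0002c00000e600003200035500023c00028b00024100013000004b00036b00007e0002e30000ae0003af00007500001800002f00023400016b00001700077e00077c0009280007820006e800039b0001bc00003b0008d10004b10001590000da0002890000e50004490001fc00023e00013100004a00036c00007d0000190000af00007600002e00023d0000160007800007330008d00003a200003c0000ed0004790000d90001b70000490001fb0001fa0001320000b000016000001b00007800002d00001500080b0003de00003d00080a0000ef0000d70000480001f70000130000b100013400007a00001e00002c0004120000410001370001a500004700001200007b00001f0000bc0004480000420000f000001100007c0000240000430000b60000100000250000460000b700000f00002900000d00002a000009000003000002000001000000 else (cT_1_3 j)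
def cT_4_6 (j : ℕ) : ℕ := bif Nat.blt j 5 then nat_lit 0x10470007b8000e8b000e8a0013060005530011ce000956000814002d130011420010e70006250013a3001e53000beb000abd001783000767001d4f0013a40010010012ac0013d900056b0015dc000740000c65000c3f000c9d000ed8000c6300060b002c64001c7f00103400065d00125600072a000ff20031d5000f24000a35000d4a00064c0010dd0014ef0016b10007b60006f20005ba001234000f20000bcd00065b000eb4001dc8000fd40006590006e5000b270007650008fc00062100078f001487000b50000cca0005810006940018f2000b4b000d6f00103a0008bf00078c000807000ed7001c450015ed000fa1000ed4001cc5000c68000580000aed0012060009170005d20006e600052b00078d0019ae000c5c000207000a2800005e00018e00092b000889000fdf0002ac000064000129000058000c130011a900006d0008d6000988000c6000005200009500009200006b000bcb0012d400009800005400005600098c00008b0001050001d2000fe00008d500005300006e else nat_lit 0xd4b000f25000d1b00064b0010de002c8e001144000e180006f30007b50005b9000aeb000e5100172f00065c000bce0010370012a1001dc9001077000e1b00065a0006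e40020e6000bec000b28000764000766001e020010730007910008490013da0016c70006460005820012aa000693001043001c0f000b4e000b4a0005d40012a30028400008be0017b30016cf001556000806002b38001700000fa0000ed600120a001e3a000d1c000ef1000aec0011d10009160005d300087e001cae00140a00052d000848000c5b000a2a000209000322000f5000092d00088a0002ae000fab000cea000e8d0004c000012800018f000c15000e89001c46000989000d1a000f5100006c00009400018d000af3000aa3000e1900008700009a0000a600006a000a0d0002d100008a00008c0000a1000aa50000a000098a001c38000f5a005287001db0001ec9000550000629000fe3000f53000f16000f28000ff00032af003f10000fac0009d2000a27000559000ef4002c8d000ef200076f0010a5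
def cT_3_6 (j : ℕ) : ℕ := bif Nat.blt j 4 then nat_lit 0x8d2001c39000fe9000fed001daf000ed9002c65000fe2000628000f1a000f27001957003f0f000edb0005580007bc000eb9000f26000770000e82000eb6000e52001b420015120005560005540008a4001d730011400006240014b4000abc000ea90013300006560016b600056c001ac100137f00073f00091a000b99000c05000c0800060c000c04001c800010320013bd000ff300072b001de3000f22000bcc0006f100064d0018f3000fd5000ddf0005bb000b260006a900103900062200088100084b00078b00061f001488000d75000e1500064f000d7000103c0008c0000808000c090011ab001cac000919000fa3001208000fa900057f0005bc00052a0006e70005cd000f520008d7000c5d00005f00005c00005900088800100c00006200006500005700098d000b9a0000510001e1000218000af5000c5f000097000085000091000d870000a800005500007000094300010400010c0001df0008d300009d00006f0007cb001890001dae000eda000a250019b9001707000f1c else (cT_4_6 j)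
def cT_0_6 (j : ℕ) : ℕ := bif Nat.blt j 3 then (cT_0_3 j) else (cT_3_6 j)
def cT_7_9 (j : ℕ) : ℕ := bif Nat.blt j 8 then nat_lit 0x10e90013a60007690029080010ad0010040013d700136c001d40001b000015b7000569000743000c4100131e0014b6001ef5002c610026cc00157200065f002ab7000728001514000ca00012510014f0004768002feb0022170031d7000a37000da9000cd100064a001145000cc50010e000055b003efc001179002e60001b030012d10006f5000a500007b4000e530010fb0005b8001118003e0e00111700239a001866000d6b000b4700103600157b0012a0000816002197001dca0010780006ac000e1c0006e30012350020e50016c9001b8e000bcf000b29000901001e05001074000ec7000792000fff001d280010720014560016b200137c000584000645000ae20006090010440006920010a2003e3200163400148a0005d500097000153b0012a20028410008bd00076100052f001822001e1e0015310016d5000804003b8b001afd000ca30011d200120b001f20001e3b0007b3000f7d00161a001e89001619000cbc00091500087d0012c1001caf0018ee00052e000847001cdb else nat_lit 0x7b2000ca500087c001478001e88001cb00012bd0018ed000846000ffd00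1cde000c5700056100020b001c62001d3d000b0400088e0002b0000e4b000e09000e100002b3000565000191000194000e1400020e00106600198f000ebb000997000c1800106c0013ec00153c000c80000ab2000934000fdd0001c8000125001695000d1d000bc6000a0f0000a400011e000123000405000b9e000c37000ef7000936001bb3000f61002b60005654001db300192d00054a000fe6001bb1000acb000f2b000f55002b5e002ae5002aeb00221200221400204f000f4b0009cf0009b70012ee002dd3002c89002dd2001d7800106e000e05000e07000ec100076d00100a001469001376002cfb001dff002dd4001b050019a9001950000f46000f4800054d00054800194e000ef90007d1000958001ead002ae70022090020a1000be600147f000fcb00139c0014610015a8000e8f0012b2003156002d590018b30019ac000be9001bd4000ac0001ba8001a8a000796002ce6001d53001481001785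
def cT_6_9 (j : ℕ) : ℕ := bif Nat.blt j 7 then nat_lit 0xc580005630009b600020a000f7e000c9800092e00088b000e4c0002af001045000196000e500002b5000190000126001991000d37000c170009960010fc000403000323001513000b9d000aa2000e1a000de0000e540004ab0000a50001c7000d81000a0e0002d30000890000a200008e00041c000ec0000aa400041e000aa1001bb2000f5b002bfc003345001db100192b00199000054f000549000f54000f15000f29002aea002b34002b360020510009d0000ef5000ef800055a001eca002c8c001b040010aa001046000e0600076e000eb80007b9000eb7003157000eb500055200062b0011cf000f470013050007d0000957000815002198002ce200100f00147d000fcc000e8e0013a1002d58000bea0019e6001c0d000abe000768001d520014820013a50016ba001000001d3f00107100100200056a0015e10015db000741000c40000d7b00060a0011ae003f280011ad002c630029bb00065e001574000c9e001035001252000729000ff100330a0031d6000ccf000a36000da8 else (cT_7_9 j)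
def cT_9_11 (j : ℕ) : ℕ := bif Nat.blt j 10 then nat_lit 0x11b0005c460020480052a7003307002fec00221600204d000a38001147000cc4000d7e0012d50013c40012770014d5003ea9004bae002f57001dab002dfd001de90006f600132f000cd20005b7000ae9000f7b0013eb00055c002cfc001de2002e94001bf20029be000d6a001867000b460023990015f500129f00117a000904001497001eae002f53002196001dcb00239b0006ae00122c0009130010790016f30006e20008170020e30031af002041001b40001c23000d4d000b2b00130b000bd0000902002ce7001e06000ec600084f000e1d001a61000793001e6f0010ae0014a7001454001283001d29000a4f0012d0000585000644000dda000691000608000cc60010a40012cb002cfd001636003e11001dc70020400005d700096f000b480014b7000e710018410015c5003d640028420015510005300007620018210018b4003ec90008bb00075f000df0000759001e1f001ad90021f8000ca20011b40011d3002c76002218001e3c000cc30013c6001e8a001cca003b050017e2 else nat_lit 0xab1000a17000a1000012100012400011f000b1b000b1c000ba0000ef6000ba3000935001bb600197000119300391a0056570032ce005a260019eb000f01000f1300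1929001d14000f2c002b37002b35002b63004b90002b33002aec001db500564a000f4d0009b8001274004726002e35002e34001d7b001694000e0400076c00143a0014680014650013740044a4002cfa002f86001b06002e36001e5900054c001bbc000f45000f80000be30007d2000547000ac5000efa002b96002a87001eac0039a1002a89002208001d56001c4d0016bf00139f0010130012b3000e90003031002f82002f84002d5a001c44001c0b001930000be80018b2000fb2000ac3001bd50007970009590033220046fc002ce5001d54000f490018f0001011000fca0015d500076a0010ea0007950029070031980010ac000e0800100600136e0015b3001d42000cde0015ba000e49000568002d14001ae500074400131f001eaf0026ce002ec70006600007270013ed000ca1002a2b000acd0011d8001515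
def cT_11_13 (j : ℕ) : ℕ := bif Nat.blt j 12 then nat_lit 0x1e0700185c0012bb0012b900140c0015d4000c47000e1e000794003123001e70000ec5000850001453001285001c7e001d2b00058600146b00064300068f0005b5000ae00011f7000ddc0013ca0016180006050012ca0018f40032ae003ca4003e5a00195a003e30003183002ab200096e0005d8000f740021f60011ef0014b800134e000b34001c10003fe3002fe9002fe7002843001a1c001857000745001508001e0000149000182000170800315100200e0008ba00053100075d00075a000758001e21000879003b540011b60011b30050a6002c77003eb9002b3b001e3d0012c600394c001e8b001ccb001adb0007b10021f700087b0012c4000ca6001444001f7f001f7d001cb100185b0017b8001557000c46000845000ca80021b1001cdf000c56000560002fbe001c78000b05001ecf00088f0002b1000566000e0c000bb7000192000e12000c8d0015ec00020c001b3a00099b001cc400089900099800198e000c8b000b0c000c19001d3e00100d000da70001c9000dde00167d else nat_lit 0xac4000efb001e6d001fac0032c4002ce3002a45002a47001d55001935001014001012000fc9001996000e910031270052fd004978003199000ec300076b0010080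0101a002906001d43000567000e0d002d17003f52000c43001320001ef70027d1000ff90021fa002ec60006610023ae00124f001a17000acf001210000f9c004b14001eea001eeb0055df003dd4002049002ff4003338002fed00204c000a390011480012d6000dcd001276002eba004c1d001dac001f2f002d9e002dfc001deb002e5f00111a000e7c000d8000055f00055d0013e7001156001650002ec9003e10003e0f001bf4002e61003ee60021fc0029bf001139000b450006f7000726000d690019120013020023980014c1000906000b3000117b005150002047003efe002195003df4002207001dcc00239d000e9a0006af000912003d080006e1001696001593000818000e55003030001f800059060031b00022dd00129b001910000dab00210d000bd1000b2e000d4e001493001580003f54002c9f003dac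
def cT_9_13 (j : ℕ) : ℕ := bif Nat.blt j 11 then (cT_9_11 j) else (cT_11_13 j)
def cT_6_13 (j : ℕ) : ℕ := bif Nat.blt j 9 then (cT_6_9 j) else (cT_9_13 j)
def cT_0_13 (j : ℕ) : ℕ := bif Nat.blt j 6 then (cT_0_6 j) else (cT_6_13 j)
def cT_14_16 (j : ℕ) : ℕ := bif Nat.blt j 15 then nat_lit 0x601e002ca00020f800314e00476a003dab001dcd001eb20012ba00159000143b0023cf000a3e0012b800140d001238000e56003128002043003f92001e7100185d0008510014520014a4000ec4000c48001287000c4b003124001d2c0018ef00122a000587000e7b000f7900191400068d0016170005b3000adf00060400166f003dc2003ca3002db7002f6a001913001959003d8c001d4c002dfb003185002ec00027d2002e330005d900134b000642001b6900096d000f7100134d000753000b350005a40014b9001637005151002d2f002f67002044003a73003a7400209d00185800074600067e001507000755000db000148d001d120014bd001c11003129002042003150003ecb001a1a0005320008b900152d0018c300075700075c000dec004c1e001e220024ce0016fc0008770014f6005c710050a70048e7003eba001e3f002b3c000e3b00394d001e8c0007b000087a0014290035ea000cb90013f100153d0050a5001f7e002892002dd500213f001cb2001859001427001eb6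 else nat_lit 0x2d5c00101800101c0044a6002cf8003099001d44001b01001cc1002d18003f51001321001ef8002781000c440025d20006620023b000416600124e001a16000ad00037310012110033a6000f9b003b13004b11002bd0003aa4003a3b005a82006764001ee90033370055de003dd300204a002ff3002ff1000a3a001149000e3c000fc00009cc002e56001f30002d9f004727002d20001dec001cce002e5e0013b800055e0016eb00132d001155002db600446c00196e001c0e002e97002e96002e95001e90002e980029c0001c610007af0021fb003223001138000b440006f800239700121b000725000f8a000b3100090700161b001499004b15002c79002046002e8b005180004be40047c6003eff002206001e0a00328500397500239e0006b00009110006df0012df0007020015940035e9000819001823001697001b440050a4002d2e00302f005907001f820048df001e7300208d001a6a00190e00129a000de1001781000bd2000d4f000dac00210e000f340015f7000b2f00117c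
def cT_13_16 (j : ℕ) : ℕ := bif Nat.blt j 14 then nat_lit 0x844001558000ca7000caa003d7b0021b3001ce0000c55002f97001c7a002f980008900019380015ea000e460013b70010a6001cc2002fe6000bb6000c93001b1f000999001c7d000b16000898000c1b002d1e000c89001ccd000c95001975000a12000a16000407000120000c82000b1a000ab0000ba1000a14001973000dbb00118f00391900391c0047970032cf0062c5005a270008b100196f000f1200095f001d270019ec000f2f002b5f002b64003a3c002b5d002b5c003e98002e99001db6003f15002aed00131d000fbe0009b9002c34003f350047b0001ed2001d7c00139100143900101d000e030013730011530030650044a5002cf9001b11002db8002f73002f87001e5b00315a0007d3000f6300095d00062e000ac6000f44000f810012f0002ae9002ae8002ae6001eab002bce00482d002a490031c7006b3c001d570039d2001c630015a60012b5001992000e93002bcf003125004975002f85002fb900300b002d5b001a87001c0a000fb0000fae0018b1000798000546 else (cT_14_16 j)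
def cT_16_18 (j : ℕ) : ℕ := bif Nat.blt j 17 then nat_lit 0x2d1d000c88000d49002d1f000b19000c94000c84000d23000a13001bba000db8000dbc0062be003911003575003962005e6d0047960032d0005a2c0008b2001265000f110008b00011e1001d260008ad001c490049a1002c2f003a3d002b94002b5b004bcf002b9e0059080062c6001db7002e9c003f17002aef0025e5000fbd000dc9002c35004c01003275001ed3001d7d001679000a4600101e000a4300144e001152002f01002efe00303b002db90046fb00300e00315f001e5c001d49002f880007d4000be100164f00062f00079e000f30000f430019bc0009ba002b650039f6002a8b0029db002a8a002a88002bfd00288d003613004c7e001d580031c80039d0001c790015a5001b20001730002fbf002fb80030f4002f4400300c00319c003d3c0018b0000f640019e500054500095b0008ab000f820012f1002c30002b95002b97002b98001e6c0029d7001fab0031ee003da80047000052c6001c3f001998000e920012b6000fc8001eaa003d3800312600497600591d004c38 else nat_lit 0x3ca90052ee002efb001d4b002e5d002e320015ce0027d40014ee0006410025d3002ec20005da00134c001300000752000e6e0005a50005a200096c0005f7001651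00195b003a75002342002045002f69003a77003a37002d12002d620022050038c300209c002d7000067f00067d00134a0012970007fe000de6000daf001b3b000754000b370005a00014ba0016380056010020980030f800314f0039cb0039cc002845001a190007470005330008b80007560008000018c6001fae0018a6000db4004497002092004c20001e230024cc0036a40016fb000876001d8e003b4e006e3e0045430046ee0050a8002b41001e40000e39005ea3002e930017e10005a8000cb80005a60014e100175e000cae003a9b005064003a9e002be4003aa00059b2001ce3002140000680001425000842000a3c001eb70011b8001323000cab00601f003d7a003f90001d9e0021b4001cb3000c54002f03006ddc002f66000891000e45001b1e00300a003069001c7b000b09000896000d46006b10001048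
def cT_18_20 (j : ℕ) : ℕ := bif Nat.blt j 19 then nat_lit 0x3b12005e08002bd2002df1002e8c0058060039f500457b00482c002c7a002bd400594c00288f00507d004be5001e0b002c540048da00239f00063f002d57001ad50006b100091000237e0014e40006de00081a0012de0007010018f5001bf50050a3005905002d6f00302e0042240033ed002d2d0046a6005a10001e740047b1001a68001bcb0007ae001a6200129900208f00184d00130f000bd4000de2001f49000f35000724000f330015c000059e0015fb001582005da70020f9002ca1002a8c00425c00205b00328200304700394a001dce003df80030ec00285800142400070f00175b000e20000a3d00143c001889001326000e570012b7001b4300507900473f0030f7003f91003e7a00289b001e72001eb00014510008520014a300185e000a3f001a8b001939000c49000a420044a7002093006089001d2d0015d000146d0005880014d600068c000e3f0005b2000ade00159800060300166d001670002e57003dc10046f6001937002ecb002e62002d07002dd1002f6b0047ae else nat_lit 0x13fd002f99002fb70046ca00300d00361400298400319d002d5f004b82000dc50018af00214f0019e4000544000f310008ac0009bd0009bb001e6b00566c002a48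001faa002a46002a4400491f004bab00313c004be700200c0031c9005683001c3e0014e7001af4000fc7002b9900306c00203f0030f5006cbf002d5d004c3900132900306a004423001d45002d19003619001ef90023a50032540023a80013220030680023d7000f0f0023b2001a150016330037300018c2002590000ad1000663004c94003e33003aa50055b7001e390044fa003375003b14001ee8005a7f003371006241006b27003dd2005c4b005323001e410031dc002ecd00114a0012d80025e8000fc100149d00336e001f31005254002da0001ded001ccf005e58000a490009cb00144d00132c001dad002eca002db5003dc30038cd003a66001e91002ecc001d4a002e92001a9a0006780029c10011370017e00024130019fc00121d00177e0019af0027ce000d6700184b000908000b430006f90015850015fe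
def cT_16_20 (j : ℕ) : ℕ := bif Nat.blt j 18 then (cT_16_18 j) else (cT_18_20 j)
def cT_13_20 (j : ℕ) : ℕ := bif Nat.blt j 16 then (cT_13_16 j) else (cT_16_20 j)
def cT_21_23 (j : ℕ) : ℕ := bif Nat.blt j 22 then nat_lit 0x19b80012ff001f10000751000e6d0007fb0011ec0023a900096b0005f80005f60018a500156b00160100180c0051dd00425200303e0023410022b0005182005ed900364c0039f1002344002204003d0d004bba0051540038c200209b002d610048db001a6700067c003182001349000e9e00251b001fc30018f1000de5000ea0001a1f000f360007fd0005a100112100059f00165200195c004ae4004b5400327e00345600425d0039ee0020990022b900399e002846002bd90020e10020e00005340007490008b60007ff000de70016dc00196d0022e3001127000db2000db5001c2f00601d002097002dbc002094002915004c21001e240027920036a60016f800258d000875001b07004006003b8d004783003b070034e90055dc0061c6002b42003b1900531000180b002fe0002fe3001f0f0005a9000cb70005a70016a30005f900175d0007db0044f3003b09003b91003a790022a20044f6003a09005c77003384001ce4004baf000681001fc40017bb001eb80017110008410011bb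 else nat_lit 0x611b00405f001a980006760030f100208b00184e0013100007ad000bd5000d51001ac30019fd000f6700072300189d002090000f3200184c00059d00117e00111d0009bf0015fc0027db004ae2002ca20020fb002a8d005d8700205c00425b00205a002c510038f2003356004bad0050160034f7001dcf002c7d002bd7000682001ae400063e00070d003a7200267400125b000e220018880014e60006dd00114f000e580007000018f6000fc6005869005e71003f4c0052c500507a0039dd00289a0030f6003434001f84001f8600360a0006840008530014a2001add00175c001450001bd1001aff00185f001327000a40000c4e0050770020e2002dbb003d90003d7e003db7001d2e00325100146e0016350014d700068a0005b1000adc00058900160f001f1f00159e001d4d0006020033360022af002efd002e63002eff002ef2002d080030090031c600214e006dd8002f63003dc0002efa003a67002dd0002f6c004ba1001a960006790025d8000710000640002ec30005db000706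
def cT_20_23 (j : ℕ) : ℕ := bif Nat.blt j 21 then nat_lit 0x114c000cac00665500317c0058d2002ffe001d9f002223001cb4002141002f0400562f002f930005b0003d0a000894000baa004854006b0f002d1c0060d40010e2000c220013b9000c26000ba600196b000db7001c30006de0001e9a0063980062bd00329d0035770032a3005e6e004795003cc00008b3001263000dbf000f0600192600118d0008af00152300118b004873002c2e00357400486d002b93002b5a0059ce003e960031f7005977006e65005916005a11002e9e005241003f18004bd0002af20031fe000dc700131b00363f003274002c01002c36004c00001ed4001d7e001678000c4f000a450025e400128b0011500032ad0039b6003d8d002dba0030cf005268005632001e95002f8d006e48001e5d001d48002fe5001342000be000124900063000079f0011c800165d00079c00215f001b3900127000486e002bfb0039f7002bcd00296b002b9d0059a600288c003f37002b6600565a001db80031cc0029dc00332a001d59006d9f004705000632001cda0015a4001916 else (cT_21_23 j)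
def cT_23_25 (j : ℕ) : ℕ := bif Nat.blt j 24 then nat_lit 0x44fd005f0c00520d003aa6006d88001de1005bc6001ee7004cde001f9f0047e00045810055b6001e380056cb00606d00457e005056005324003b15001e4200557a0031dd0043fc000fc4001a56000cb000180a002017001f320037d2002ef00038d1001dee005066001cd0005e5900131a0037d800149e00199e002efc002db4003416002fad006e45001e92002f00002dcf002f6f002fe40006740020130006720005f100236000074f000f0e001ba700176400121e001c81000d660017620019030009090017df000b42000598000e2e0015860006fa004f6f003f8d003b110049db005807002cb900457c003376004509003e220044b90038f6002df000336c0037d7002da10075c2005671003382003ad900447e002a95001e0c002c560047290007040006b200070900237d0005aa0016ef00175800081b0036840012dd0030c90018c100090f0013fc0019150051dc0042510031ae003a1c003be9003bec00517e002d2c005b21002d6e0039e10059af00507c0021ba001e75002d60 else nat_lit 0x614800297f0032ac00395900327d001e9600631e001e5e0030110046fa00480b00134300074d000bdf0007a0001a49000865001246000f41002a86001983001ba4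003e17002bfa00533300484f002bcc002904004ca8005b590037d30052280048a800495400391f00630a00633f0062c80031cd00296c003f19002fc6001d5a005258003f38001d7f0006330012910015a3001cc3002160002f9a004901002fb60046c90030ce006524002985004c3f0029830060f8000dc40018ae001b0e00126f00165e0005430011df00079b001c8300133f00063100613d001e6a0029010029da001fa90029d80020a90048a600301d002b6700565b001db900332c00200b0031ca0039ce00361500525a000dc6001c3d0014e9002c000022ab0039df002c1000533500306d00203d00319e005b480005af00306b001d47004421002d1a001efa004e650023a7003256003066001d7100235a0023b3001a14001632001f7a0024d2001189003c9e002592000f99000664000ad20014dd003a9f003258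
def cT_25_27 (j : ℕ) : ℕ := bif Nat.blt j 26 then nat_lit 0x3dd0003b1a002ba40047ba004e2f002c0700490e002793003811000cb500258c00083e001b700005fa000f8f0007dc0007da003b50003b4f004c7d003a9c002be7003a9d002330002fdf003b5300343e002b43003aa30022a1001ce50022270021c5001fc5000bd700280a0019d9000ad7001ca9000ad50022d0001bbb0012db004fd2004416003b51002fff003aa1002ffc001da0002224004b1b003e7e001cb5002dda00327a006de2003cd1000bad0048510060d7006de1000c25000ba7005ea4006dfb006397006ddf001e990044510032a40032a200329e005a19005919003cbd003cc10008b40015290018aa000e630015270012680007e700215200118c0049a3002c2d00639b003297002b9200353c005b6d003500001dfe0031f800329c00357c0031d2005917006070005a120031f600329a0062ee002e9f005243004bd5006132002a9a0031fc0016e5005d27003efb002db2004e34002c05002c02004709001ed5000dff00351b00128d001a5a0032d8003d8e0039b7003640 else nat_lit 0xe6b001f110007fa00112f003a3a00096a001761000f6e0005dc0006bf0018a40017280007dd000e2f0019bd00058a003f8c00303f004ae100302c002340005f9f0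0580800531d003a39003a36003a78003a38003a7600228e003f6900336f0052250021c30051840038c10033ea00364b0039f20023450039a0003d0e004bbb0021c4001a9700067b001d6c000712001a950012fc0020c50014160026d70018d9000de40028090019ff001b81001b66000b3b0028fd00112200215400170d00112000129500195d001837005ee1004ae30021fe00345500345700425e00205d0039cd0039ca00222d0039480022bb005b650051550052ff00209a002347002bd800213d000df6001d6e00074a0008b500251c00213c00053500152a0022e4000f3700181b001126000de80018a9004ae5005e720020950039b9005b7a002970002916001e600059fd001e26003f7700279000387f00271400272c0008740018140066fa006d1e0035ad005dd6005798004c930040050055db0034ee005c1c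
def cT_23_27 (j : ℕ) : ℕ := bif Nat.blt j 25 then (cT_23_25 j) else (cT_25_27 j)
def cT_20_27 (j : ℕ) : ℕ := bif Nat.blt j 23 then (cT_20_23 j) else (cT_23_27 j)
def cT_13_27 (j : ℕ) : ℕ := bif Nat.blt j 20 then (cT_13_20 j) else (cT_20_27 j)
def cT_0_27 (j : ℕ) : ℕ := bif Nat.blt j 13 then (cT_0_13 j) else (cT_13_27 j)
def cT_28_30 (j : ℕ) : ℕ := bif Nat.blt j 29 then nat_lit 0x177c00082e001c820024d3000d6500379800176300121f0006710011350005f00017e8000b410005970016b000180f0018090007d90015870015670044f50020160049dc0023d300231f00486f004a12001f0e005bc7003e21004f3b0060980029ff00450b002def00379000229000359100336b0056c7005700002cb8003b89003381003ad800337700229f0027df002a9600452f001e0d002a94002a92005938002c57003a0600188f001b8a002cc30015a2001ba50005fd001bf90036850005fb00081c0006b3001d1100090e003797001609003b100031ad004ae000237c003b8e002fb50045d8002d2b00450800563f004250002d6d003a1d0034150039e000422700343f0021bb00364a002982005b22001e76002f4000611c0027be00067500201100223d0027870032d9000bd90007ab000bd60007a9001fd90023d500164b001ac4000722000f68002091001d1a001a6d0017680014190017de000e2b00111e00059900059c0007d70019a30050d0002ca30027da001fde002c4d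 else nat_lit 0x866001a470005420014c9001edd001e6900537200487000296a001fa80029680028870038420020aa002f9b002b6800313a00337b00535b00532900332d00200a002a0e002fc500522c003a0000301c001d800016e40048d8002f06002074006e5b006e3d0021be00203c002c0f003ca20046f9004e67001fdd001d700023180023b4001a310023d60007e3000873001815002654001a13000f9600066500173e00167e0028ff000ad3004caf0045e6001efb0044fe005edd0023d00036f00068230043d40064a80053bb001ee6004d14004029001e1d003b0a002a010047e10045820036f5006df60056c90036b8001e37005a0c0045800036f3001de00056cc0050570050ad002ba3001e43005579001f9e0031de0035a50005eb000fc3003043001f33004213002f2800463f001def003c87002f2a002c0600470b001cd100242c00128e0005ff002db30036420046a4004640006df2005b6e002f36002dce003013002fac00490f0041e1000673002014001b8800074e000539001a43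
def cT_27_30 (j : ℕ) : ℕ := bif Nat.blt j 28 then nat_lit 0x4cf9006a7f003ddf005d5c0029690027dd00529900394b0033da003949002a900038460033570075c300565c001dba004b18003a45002c52001dd0002c7f003dfa00399600208a000d5300070c001fc6000d5500063d000e230018870005ab000ad80006dc001b6b00216100188b0006ff000e5a0012dc004a4e004a4f004418004a500036540022aa00425a0029800030cd0034350039ec00506f004b1a0021450031b400319f001f870006830019630019cb00158b00193d003a710006850008540014a1001adc0018600005ae001a5b001bd2005075005e7300213e0039b8004fdf003ca000297e00297b001d30003d820052c40033700014d80016ec001c90000adb0006fb001f1e00159f000cb1001a57001bf00006010006890020180022ae003df2003d0b002e6400336d00210c0063ed001e87003f7300340e006b15003dbf002ef6002f35003d63002f2d002f6e0030080031c500214d004ba00023a3002ecf0022420007a700173a0005f20007050019b7000707002262000750 else (cT_28_30 j)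
def cT_30_32 (j : ℕ) : ℕ := bif Nat.blt j 31 then nat_lit 0x19230007e50007e8001b31004974003134002312006140002b91004c5e0035010028860035720031f9002c5f004450003ef70031d3006dda00357d005918003cbc005b3a00329800329b00353d0031d1003ec5006071006e2b006df8006e5a001dfd004bc4002a9c001b8c00539d002db1005a51002c04002dcc004141004bfe006133006ddd00351a000dfd0059280057730052a600463d0032ab00395a00327c001e97003d84004850005929001e5f00670a005b5b00495a003eb800214a00134400074c0005370007a10006cb000d600008610008630007e10017d800339d002314002315003296002bcb00353b00288900288a00624d002292003656003e16004cd600362b00333200633e00337f00532d004872003ec3002905002ea000484e00594d002af40052d9001d5b006a1f00522a0048a9003a03001ed6000634001290001292002ea7006db50068aa001d3c003c06003f3b002f08003f880035a0002987003dc7006cc600222a00480c0016e2000d5a000dc100126e00162b else nat_lit 0xf3b00181a001c47002ce000112300235e005ee2004219002192005e7400425f00205e004ae60039ed003132002917004aea00352e001e27003f78002a1200278f0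0271200272d001f74002548005abb00500e004fb1004366005e360035b000627600436b00536600400400433e0034f0006b240071460043690034ed003b1b002ba5003c8a002c08002cbe003812001d010025ab00083d0017d00026460022cd0018d8001d0d000e36003b90003b8f005974003b0b003b080047f60044f40020330042fa002fde0051ee003b94003dcb003b8a0060c2003b0e003e820022a00044f9001ce6002228002dde0021c60020750027940019da000cb3003a2b001ca8000ad60025a6000f900009c4002a5600090c0050090052fe005586003b92006160003b0c0060f70044f7001da1003089003b520046f4002b44003aa200343a001cb6002226005930003d0c006ded00497300592a006e2a003f790032aa0032d6001e98003f7d00591c00525100390e005a1700478f003cc2000e62001627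
def cT_32_34 (j : ℕ) : ℕ := bif Nat.blt j 33 then nat_lit 0x5dd0012240005f40006be0018420019b60006c00017270007de000e3000160400253300058d00058b001568003f8e003040003b0f003ee5004537003b23002488002320004d5000590400530f0049bc00202a003fe400447d0029fe0044ba0034e40030530037d400228f0022360033d6005c17004a1f0038bf004aef0033e90056fd004c67003a70004e6a0034600044bc003ed100345e00345c0059390021c20060990024df0029a300200f002086002244000713001d6b0012fb00223a0020c6000bda0026d80007a400344d00194500280800248a000e6a0039f4001b65001c750039f0001c22002155000b3c0015450027a000150300111f001ef4001a7300195e0012940050ff0022860041e00033920052d800589f0055fe0038bd0039ef0033dd006714002de400399f0033db00399d00345a006db40022bc0051850062da004798003a7a0039f300222c002848002349004bbc002194002191000df7001d6d00198900317d001345002190000536001d6f00074b0036d8002dfe else nat_lit 0x2a9100472b002c80003dfb0020880007aa001fe000223e003e79001aab000d5400063c000d5700182c00265b0005fe00188c0006fe0009c5001d10000e5b0025b80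0090d004a19004742004a18003393003655003bed0059a50044bd00460d00586a0051e6003eaa0030cc0056410042280046f5002146004b1900298100222b0031b5003a20001f880039970031530019620019cd0028cc00193f001fc70008550019ca00158a0006370005ac000686005fbd004218002193004972003c650030010051b400297c004fde0046f7001d31003d830030ca0033d7003c69000821000cb20016f5001a58000ad90006fc000600000688003042002f3f002e6500201a0020c40022ad004671001e520033d5004214003f7500344e0046c7003dbd003d8a002f30003d37003d8b002f2e00201c00210b0049b3001e860060880046c80031c400214c0041e20007a8002f3b00303d003f8f0030df0014d900226100248c00053a001f120007f900086e000666001a2e0009690026450023dc000f6d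
def cT_30_34 (j : ℕ) : ℕ := bif Nat.blt j 32 then (cT_30_32 j) else (cT_32_34 j)
def cT_27_34 (j : ℕ) : ℕ := bif Nat.blt j 30 then (cT_27_30 j) else (cT_30_34 j)
def cT_35_37 (j : ℕ) : ℕ := bif Nat.blt j 36 then nat_lit 0x43d2004ce0004cdf004c0e0045e7006e3c0047e2004583005ee90044d30053990036b60036b90029250055b4003cbb001e360036f10036f400353f00682a003b62001ddf004c4e007897006ea8006e440050ae00533f007689003ff3001e1c003ab3001f9d0031df0005ec00432f001f340042bd003901001df000642500201f003c8c004140002022002c5b00265e00364300310500460b003165002dcd003eec003c89003014004959004bb500214b0043fd001fdc001b87000538001806001804001eed0007e20019df00086000242200177b00082d00186d000670001134001a9d0014fd0043990017e9002812000b400006ba0005960016af0005ea001b1d0005ef001f4e001c7c00345200128f0045e5001efd0049dd0023540023550036ef005d2400231e0063b8005f380036100054b4004f06005e6c003fe6002a000043d100450c002be900374e002291002f2700365700355500345000336a0036b4005f0e0052100056c8003b88002cb70048c1007171003ad7001f0d003b3c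 else nat_lit 0x637200231c0035390036a700283d003405002c880028b00038e200333300633d00357e006de5005062005060004cad0048f200362a003331003ec400229c0061e1003e4800593100288b0043aa005bca002294004bd900422a004e3700609d003e120012f700156300196000339e004900003cd5002ea60038d7002e67001ed9006527003f87006df3001d3b003cb1003c05002de1000dfa000d59000bdc0006cc000862000d61000868000541002dc6001cd9006cd000568100290300290200360e00283c0020ac001edc0031390035b7002ea300316d00337d00532a002b69004cab002009002ea10029a2003ec2001e46002296001d5d0057780039ff003f3a001d81001ed7000635002dc80048d9002f07002073006dde0029890021bf002c0d003004002149001ac9001a300023590007e40008720018160024fd001a11002f950025ac00066e000f95003c6300173f00167f004ce1006b28004e680044ff00693a002352002740006af30053870053bc006cd3003571003ff0004e91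
def cT_34_37 (j : ℕ) : ℕ := bif Nat.blt j 35 then nat_lit 0x229e005bc8002fc9001e44003b5e006ca7001e0e004f9c0050700037db0038bb00335b0033a5003dfe001cd2001b8900187b001cff0017560006d50005fc0018bf0006b4001185001ec4001d0e00141e005334002a93003beb003bea0059750048a70045a100203600458d00424f002d6c0031ac005a7e0049210037d600341400237b003bef003dca005fca003440003649002d0e003a6f0027e00059150044f2001e77003a1e00222900203b001f8b002083004fd10044ca0023cd0028a80023c90030f3001fda002357002358001ac500072100082f0021e30005920006d3001767000f69001b960014ff0009c30017dd0016a6000e2a001aaf00118100059b0016a80009c10018080007d800197600583a0044cc002ca40042ff0020fd0027d9006e66005d22005a24005d89005d23001f48005d8800360c0038f50038f30036210050070038f40049710037d90033d9002f9c00491c004cf8006a81004b99005eef003f1d005a86003378001dbb0027de003ebf0049cf001dd1003f04 else (cT_35_37 j)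
def cT_37_39 (j : ℕ) : ℕ := bif Nat.blt j 38 then nat_lit 0x5e070047f5003b1c002ba600450e003e83001ce700413b004909001f8d0021c7002b02002fba00085900272a0019db0016820024f3002426001b6e0017be0011be0025ba000f91001642004a830049a90020ff005587006bbf002aa6005585006ab00047df004532003179001da200432d004398004549003b9300615f004b1d0034f4003b0d0048af002b460044f8001cb7003088002c0b003d36003f7a003d34003166003d30003d5c00390c0009660007ea000f3d00495500348d004876004c5f006149002839003f270031fa0052a4001e29003ef80031d4002c5e003d5a006de300523f006ddb006e2d00478e003cc400590d0052a200444f003ef4003ec70048f400478c001e4b0043b20043af0043a600618c00617b004bc2004bc6001dfc002a9d003c6700539c002dca004142004bfd00685a00613400359d00653c001b8d0051b50031fb003d85005fbf0052a5006146005a4f0078c3003eb7005286000e610006ca001922000594000f3f004957002287002285003295002bca else nat_lit 0x553f002aaf0047f7004a82002e460052d70038430038ba003cd200341000518600580b0038be004aee0062db00589e0043ff003a2a0076b2002de30044bb002849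003d1000345b00472c0022be00506b0024dd0029a4005065003f890024db000df90023c00012f8001c4a002203002201000bdb002202002dff002a41000e68004d13001819000f3c002cdf0022000021fd0069390021ff00586b006eec00296d005ab30033de005ee3004bb90051b300426000205f00352d004ae7003fc7001e28002cba0027c3002a13002711003b4d001f7500254600460e00500d0049e50042c800579a004fb3005aba0055d80058f900400300433c003c1f001f3a0055b3003cba003cb700436700436a003542002372003c1d004c910047bc00413d0052ed002a11003c28002e05003829001f730017cf003bcb00083c000e330030c50025bd000e350067ff00500f006bc1004365005bb500597300453100453000203400365900203200433a006636001f38004b20003bca0034f1006ccf0051ed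
def cT_39_41 (j : ℕ) : ℕ := bif Nat.blt j 40 then nat_lit 0x6c20011840030c4002838001669000822000e32001605001a7a00058e0006fd00082000058c0008560045e4003041005a4e002f3e00454d005f370023d1004d8c00254b00254d004d15004d8d0068790040220023dd0047a5003fbe003fbd003fc00040bc00351d003f0e004536002fd3003791002b51001ff90042fb00348500223700340f003b22004a20002322004af0005f9e0033e7002bb60056fc0058d1004c65005848004c2d0049bb002029003461003b5d004c4d003ed2004e6c0044a200345d0063ef00503f0022c0003412003dff0021c10020820041e40020870019c7002f3a0024e00026ec0034470023ce0028aa0020850026d90007140020800019440006c6002fbd0028070023d400281f001b640007ec003c62001a2f0026bb0023db001c76001cf0000b3d0015440026730015020006c900183300163d001ef3001caa0015460020dd001bf300195f00456f0044cd002ed4004a1a0033910045e000562d004a1c0055fd00653e0056fa0066d1003fc1004e9600348b else nat_lit 0x225400182f00182d00187a0006d4001f63001a32001182001d0f000e5c0025b90045700049aa001fe8004330002bf1003c2b003c2a0045da00456b0034830034840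04a4d003413003845005642004229003bee00521700685600298a005839003522003a29006ab100629a0031b6003a1f006110001f8900270e003155001fe10022570023c3003999001aa900196100063b0015890006380006360049df0022390049a4004956003c29004217005b7700300200214700665d001d32000858001f1c006e6000252f0006da000687003a21002e660033d800203a0051db0042f9004c95005ecb00463e003ca1003f760042150046a3003d88003909003d6200390700201b0020c300210a0049b2001e51001e850064230049580046a500521600413f0031c3005eb30021090027d80044150030e0001daa00226000369e0022c3001f1300254300053c000668001a3e0008290026440007f800082c0005de0036e100113100303c000e34003d490005e0001a2d001643001ec50019b5001607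
def cT_37_41 (j : ℕ) : ℕ := bif Nat.blt j 39 then (cT_37_39 j) else (cT_39_41 j)
def cT_34_41 (j : ℕ) : ℕ := bif Nat.blt j 37 then (cT_34_37 j) else (cT_37_41 j)
def cT_27_41 (j : ℕ) : ℕ := bif Nat.blt j 34 then (cT_27_34 j) else (cT_34_41 j)
def cT_42_44 (j : ℕ) : ℕ := bif Nat.blt j 43 then nat_lit 0x60ff005ecd001a41001805001eec00054000085f00242100177a001eee00242300066f000f940039470017410012210043d00043cf003bcc0019de00086b002f650005950016ae0006bb0005e900176f0005ee000f92003d4b0029630006ce004f700044c3004a160023160036ee004a140023d20027c70027c900231d004ce3004ecb002e7b004025004ecd002ee8004f3d005968001efe0053b70063bc002ded0037930036e7001d6a00378f002f260039000036580056820036440031040036b3005ee00023da004f510036b50036f80028b9003bc80048c0002cb6005f90003ad60043d600682b003b3b001f0c003cf6006715005f39003611004d12004cdd00572c003b5f00567400456600232c001e0f00255e002bea001ce8003796005041002edc00422b00613e00335c0033a4003810002023002c8400340d002a1000187d002e0900292d0017550006b50023820011860006b70035c70034880050d800490400601b004fe80045d900456a00424e002035004568002bc2003fbc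 else nat_lit 0x35380053700028880027ca003f3e001cd800291c0038e0001edb0052fc00357f00316b005a3100505d002b6a00326b0035b6002ea200535d00229a0029a00048f0001e48002297004beb002295001d5e004e38006e4a001ed8002dc700333500359e00340b002072004411003d070017f4001b75001817002447001a10003c9b001a0c00066c001f18002656002b32001681004d16006a4e006e3700450000273f006af20051b10064a70027c6004fb400555800402b006f15003fef004e6100594b003aaf006a51004c0d004ce20047e5004584005ee80044d10036ff006faf003b66005de1003c99002bb0005f97005a0f002926001e350027410068260044d5005398003b640036ba002924003ab7003d22001dde0064a9006807003540005d6900671b0061e4001f9b003ff1003ff4004835003ab1003ab5001e1b001f9c0045e80060b20031e00042fc0042fe001f35001df1004106003902004109005e6b002021003c8d006124003b69006dec00670d003106002c5c004641006910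
def cT_41_44 (j : ℕ) : ℕ := bif Nat.blt j 42 then nat_lit 0x45690040c10034860056c50056c3001f3700237a003c27003cb4006cd1007170003648002038006713003a6e0050dc00480e0044f1003072001e780027e200355d00690e0048aa001f8c0021c000428b0021d80021d50050080023ca0042490024d9002317001ac6001ba10017c9000593001c040006d2000720000831001b97002b0f000f6a002b0c0014fe0035690026480017dc0005910026bf0011bf001aae000e5e0006b9001b7b00166500267d0011c10009c2001807000e60002433001ade0044cb0066d2002ca500428c004fa80020fe0070cc005ede0023d8005d5d005cf8004c5600363b00358c00547d004d19002ab1006fd1004447002ed8005006002c1d002c1a0050d60032920037940020ad003622003844002f9d00491b005a89005f0d0052110036fc005eee005248003f1e005a87005d5e001f47005da6001dbc005bc90048ee001e450049ce004c83001dd2004fd0003f050044440037da0038bc002da40038d6001d83001cd30022520043000021da0034e1002e37 else (cT_42_44 j)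
def cT_44_46 (j : ℕ) : ℕ := bif Nat.blt j 45 then nat_lit 0x47de003b1d002b4700450f003974001cb80063b7003f64002c0a003d33003d5f003eb100614a0035040029de002c5d001e2a003d05003167003d020020bd006e57003eb300597c0047730048d2001e80003ec8003d59001e4d0081ef006e5900299b00477c005b3c0043a4005e48003f26006dfa0043a700618b002921004bc7005362001dfb005a53006812007ac6004bfa003fff006e2700539b004585005fc3005ee400799b003eb6004bb800743800528500228300492000348f00338f0023130027cb005ec200490500335f00231b0038df003334002c870020ba006de4004410006de7004b7a004b78003cc5002bec004cae0028b20038e400620900486c006b34001e4a004b6f0043ae00291f003e47002a9f0029e20043ab004bca005bcc00283e0050b10043a90041440034a400609e00782a00611400490200490300485e003406002da6003cd80048ff001eda0038d9005e37006e5c00440d003f86001d3a00234b003c04002de200126c000f3e002f37002da900231900396e else nat_lit 0x27100023b80027c400254e002545005ae100500a0046100049e40042c7005dcf0058cb005ab9006271006000003701005d8a0073ee00548e003c98002bb1003c20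003cb9001df7001e340042c9005d9f00602900237300237100236e001f3e0058b2004b6b004b6800685d0052ec00225d00253f003a35002e06003b4c0022c80036e300392900071c00085d002505001ec80045dc0055d50049e60043640057640054e9005c6f005c700062c40040c3004282001d8d004339005010006bc20069a800433b003bc2001f39003bc9005b33003cb6003c1900236c0047cf004b21003bc00047f40053420051bb0063be004906004567002fcc00365a004908001fee00413c001f8f0021c80023c5002b0300399b002729001f7200085b0024f40019dc0017bf0021df0038ee0025bb0038470049a800464b005588007af4006b910064ac0064aa0047c500556a006f140031780051b700351c001da300435f00610f00305000454a005012002aa5003b1f00627a002baa005317004548005dd5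
def cT_46_48 (j : ℕ) : ℕ := bif Nat.blt j 47 then nat_lit 0x26ba001b630007ed001cf100235f001c77002b0b000b3e0044450025b700267e00279e0007150006c3000e5f0006c80038820027390016aa001ef2001c480017100020df0005900012410020dc001b1200456e0041e7002ca700626c004a4c002bef0045df00591e002c250051f2004fd600248d0058a10066ab003505004d51004086003b5a006e5e002ab0006d5a00439b0047f8003c400035520033900045e10052d6003881002aae00362300432e0034e6003453004a1d005c13002323006d410064b70033e6003f1f00518700589d004c64005847004400007ad70048780055990043fe00284a00553e002e45001da80063ee00472e0043ea003411005e5d0027c1002a15003b780024dc0024da002f3900225e0023c10028ca00228d00228900228a003af1002e000029d2002490002650001818004d540063f000228800228c0049e0004a1b005c10005e4e0056f800572d0029dd006af0004262004fdb002062004aed004b9f0058450033df0051da003f4f0027c20022590029d1 else nat_lit 0x44460005e1001a4000082b0006b6001ec6003ada001cc00005df003b3e002831002735000f6b0021ce00085c00174a001f1b003d4a0006bc001a7b0006d9001a79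00085700659a0050d9001da900558a0067fd002489004363005898002487004d4f0068530068550023de002603002605003fe8003fe5004c37003feb00535a003fbf0040810040f700630b003fe700317700355e004083003051004d5900641b001dc60042be004842001ff80034e50034e30034e200345100344f002238004338005c1500248f006b75003b21005f68004bce003c25002bb5002bb7007b87004a21003507004af1005fa200530d004c2e003aae00403100487b00274a002028003b5c005fa00047a400459e004c4c003ed300451b0061130044a30045e3002fd20037a5002b50002edd0068e20034e80022c1003cd90049b50034a100234e003446003b7b0022530036a90022580027740021d40041e50037440018770031000020810026ea0006c5003f4d0029d500248b001f140025440017f3001a0f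
def cT_44_48 (j : ℕ) : ℕ := bif Nat.blt j 46 then (cT_44_46 j) else (cT_46_48 j)
def cT_41_48 (j : ℕ) : ℕ := bif Nat.blt j 44 then (cT_41_44 j) else (cT_44_48 j)
def cT_49_51 (j : ℕ) : ℕ := bif Nat.blt j 50 then nat_lit 0x40800040c2006fd200613f0036b20056c400673c00237900696f003c92001df4003c2600440c003cb500364700743b003c90003a6d0059de0049b90051bc0023690044b800459f003073001e790027e300349b00388b001fed0065740034a00025fc0021d700428a0027720006cf0023560017ca0025060006d1000832001b9800378900226a003a9a00227f0057d00061720028140017db0026be0021e100175200238300250800053f0026800017f600260a004397002420001f5000358b0042990041e9004a8a006020004fa700464200433400235b00374f003ad2005b8500360f00360d004d1a0056f300439d00572b006ff9004448003852003d5100356800255b00500500355100503e002c1b001da4005380002b890037a10027310027340038800020ae004c680036ed002f9e006738003293005a8a003b830023d90023780036fb0036f90035800068300048be0052490075c6005d260043d7003ffc0055ab001f46001dbd005f3a0036120050b0002af800559b0049cd004848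 else nat_lit 0x2c600024480037450005e5001f19002424002b3100544a004f070038fb00071d00085e00177900228200309f0005e7003946000826003c0e003d4c0044c200273e004a4a00235300272f004fb5004a480023e00026010041da0041db00473e00679800375b002ee7004f3c0047e6005c9f005ca0002f1c0037500027360029f50042bf00374d002f250042c20038ff00439a0054b3002dec0064e600433600235d0036fe006971003b86002412003c600048bb003bc7004b7b0028ba002cb5003c51003ad50057d7004f500055a9003b3a0028b8003ab8003cf5001f0b00645200363d0035b3006716004d11004cdc0047be004ce400452c002e7a00461e00385700232b002e75004a8f00350f001e1000255d004f9a0034940045b2002fcb0037a3003752001d690037d10059d6004c0200422c002b6b00474c00364500335d00380f0034a300568c003c5600567f002c8500340c00175400266e0024390029640045dd0055fa004fe70045a200424d0040820045a00031aa00255f002bc1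
def cT_48_51 (j : ℕ) : ℕ := bif Nat.blt j 49 then nat_lit 0x5a6f004c84001dd3004fcf002beb001ce90050d700444300379500527b0038ed003c53005b70002da500387e001d84001cd40030180046460021d90037420055fb002b04002962001750001aad002c190024f10018300006b800429700464a002e380036ab004a17002bf00044c1005b710054490045a3005e09001fe9003ba9003e8c003c2c006eed0056c2004f53003c6100298b004b810045db005868003a2800456c00355c001feb0078010043fb006571003f6500481000270f00278a0043010030b500399a002e08001fe300225500182e00063a0065c0004294001fe50049a6003103003c6800685700352b0051b600432c006796006797004c96001f36003c6600460c0020390042160039080059a300318b0020c20034450049b0004105001e50003e3e00786a00638a005ecc004672001d330069150031c2001e840068e4002b77002fa6002107005d5f003b4b0025420022c50006690023b70008280025b30007f700053d001b5d002606000f930020d8002b2e001132003fe9 else (cT_49_51 j)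
def cT_51_53 (j : ℕ) : ℕ := bif Nat.blt j 52 then nat_lit 0x43e9001d39003c0300346600353700283b002da800231a001cd7001e2d00316a003cc9003cc7003cc600392300291e0048fc006db600326a0062dc00535e004b7000292c0028b3004cd9001e490052150028c1004bc900283f001d6000414500635f0060a0003ef20020710024fb00066b001f1600407f002939001cfb0055ea004e93005998003aaa0064de0053bf0051b000408800402d00586e003fee004e29004e92006a52004e9500594a004d17006a50005edb003b6700520b003c9a003cd0007af2002baf004270005f610074970055a40051d8006f16007c64003b65005455005db80081ee0036bb00299a002999001ddd0042cb00561500517d0078a1005d6b0068080029230045b6003d1f001f9a0027430055750044d600789f0045ed007aba0047d4003ab6003d20001e1a003ab0007117004c0c00482e00561c0031e300238f002392001df20042aa007ac7003081004108003e0d00470e00685c006e36003b6800670e007ca70062d90061000046700059dc0022840034c7 else nat_lit 0x6bc0006995005e02006bbe005c430057ce005efe00641e0040fe00675a003c2e005ab1004533002fa000454b0050110049e9004373003b2000436f002aa400714e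00620b002bab003bbc005dd40047c4003b1e005da4002ba9002b480045100063bf003973003663002b6f001cb900365b00610e0050740049b700202500614b001d340020c10020bf003eb2003e0a0031bf00307b0043df001e82008330001e4e004272003d2d006e5300653b0043a1002064006df9005e4f004bef003d58005e490024c100618a005363001e32001df9006814004d830061700037020043790027470077d900799c005846004401003eb00036a800335e002c86001e2b003168003d0000206e006de8001e7d002bed006b630038e5001e7f00486b0020b900593600240f0061e300299d00477b0048080028b6006e4c003e46002068004bcb0043ad0027cc0020b40050b3005e56004bdc0071fd006ecf004bf900680e0034a5003ffe0048a3002da7005269001cd6001d37003169006b1e0052f8003f84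
def cT_53_55 (j : ℕ) : ℕ := bif Nat.blt j 54 then nat_lit 0x64df004fd7005d990056f70056f5006aef004fda005e4d0033e500426300754d0020630028c40028c3006854003f4e0046110057320049e3006963005dda00560f0074e70056f60049e10078e50073d400797e0066f6005ab80078e9005fff0064b6003ccf003c97003ccc00548f006836005ffc005d9e0072ec007f8200799f00237000548d0058b40045fe004341004b6a001e16001ddc00789600437b0052eb0036750025530025400022c70036e20007f10029300017c40038f100083a004643003b7d0057670060220042c6007c490054ea006040004fc90054b50040c4004d550051f10036b00049e7004374006d42005fa8006c7f003c5f002bb4003bc3005b32001df6002cb4003c18005dd2006bed002375003bbf00236d0035440058b1005b100047f3006b6400236b0047ce003661004d99004882002f1600556f00388d001d8c0023eb001fef0063ec0063b6001f90002491002441001f710025fe0024f500071b0017c0003724002504003be8004a51005ca40049a70036ae else nat_lit 0x641a0043c5003e0200239300488900234f0044140036aa0022c60021d300560c002541005b6f001f6e001f1500272700066a003721001b6200053e001b99002449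00267b0020d70036ea0057d10038f70035540025b6000716001cef0020d9003bf00006c400279d0024ff0040780017cc001ef000598c003945001a7d0024380020db00456d0041e80041e60055d3005ae9002c23003b7c0045de0055d0002c24004fd500560e004df60058cd00254f00402e0078ea00267800267a003b59006e5f0044490038510068a20047f90040be004a80004a4b002bee005573002c180055d100547c00754c0031ed003c6a00358e006e6400568e00351f00358d0053a500348900580d00248e006e8b004803004408005188004ce9002326004f4b00586600528000479c004d52007924003b5b0075df00484700461b0059fc00284b003c3f006361002e440045e2001da700641c002b0100472f0058bf0034e70034540049b6005e5f003b790028c20043320049a50051260063f200461600228b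
def cT_51_55 (j : ℕ) : ℕ := bif Nat.blt j 53 then (cT_51_53 j) else (cT_53_55 j)
def cT_48_55 (j : ℕ) : ℕ := bif Nat.blt j 51 then (cT_48_51 j) else (cT_51_55 j)
def cT_41_55 (j : ℕ) : ℕ := bif Nat.blt j 48 then (cT_41_48 j) else (cT_48_55 j)
def cT_27_55 (j : ℕ) : ℕ := bif Nat.blt j 41 then (cT_27_41 j) else (cT_41_55 j)
def cT_0_55 (j : ℕ) : ℕ := bif Nat.blt j 27 then (cT_0_27 j) else (cT_27_55 j)
def cT_56_58 (j : ℕ) : ℕ := bif Nat.blt j 57 then nat_lit 0x36fa00728b0055ae003cca002929003d280041aa003ad40072ee002377003ffb003ff9003582003ab9003cf3001f4500363e0035b400561a00363a002af9004ce50049cc004cb0005762003856005660001dbe00467d002e71001dd400255c004fce0035900075a5003e86001cba005381002b88001e7a0037a2003751003ee00038b80059ae001f02003c52001cea003646002f0c00387d006e46001d85003c54004710001cd50025fd00378e004647001f7000174f00175100501f002965004298004308005ca1004fd3003b800023660057630040ff003ead0040f9003acf003e8b003888005ff1003c59002bac003c57004c450045110045a4003664003cdf001fea003ba8002e4300557200349c0049b80020260050d1004303004295004305001fe40036ac0049de00587500673e0058050052f7005877001e4f004edd003e3f001df3005b75006b6b00352a00298c0049ae0042ab004d800031c1006916001e8300611a006ff8002b78002b74004103002b76004ab10025fa0024fa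 else nat_lit 0x3d190059650067cd0027370020b30024a3003788001d68004bdd0042f800350e001e11004513002c2100261c002b6c007fcb00380e0030820037d00062f60056690070cd006206001f91005f0a00568000322200187400424c0053b6006f600053ba0025600034950053b80078410036b1006032005fc700642b003bc4006b1f001df5005318004cf4003c910046090043e800488500236800236a00465200256300349800299100401f002bc000365e0027e400388a003c3c00474d00738800346700652f003c790024920006d0000833001cf40038220017f00026e400227e00544b004d0100177800277100309a003a7b00071e00268100267c00243c00435d0038b900241f005f690037e40065c6007d82006fcc003ad10057d300363c005543004529002676005a96004f3e005cf700544d003853003d52004a8c0020b10056f400358f00255a00503d0058d8005648004d8f00238400547b0026750037a00026770045930020af0047840037dc00273d001da50036ec003b8200235c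
def cT_55_58 (j : ℕ) : ℕ := bif Nat.blt j 56 then nat_lit 0x24440007f20025b4001b9b001b5e001cf8002552002b2d002b3000384d005fdf005ec50005e20034c60008270017ec001753004ed10018700037990007f60022810017c300174b0021cf00435e0017760006d80021cd005d6000428700436200254c003fed004d8b00254a00412d0023df002549004024004ecc006198004028006bf5004c36003fea006161002613005ae0003d4e004026005ab20051c6003197001cbf004023003bf2004df80036e60038f90023640067c6005322004f0e005ec9002e6b0040bd00351e0057cd0039c90034870049ac0043370044de0064ba0024c8003c2400440a0028bb002bb8003c17005861002551004cf3004af2004f460068a80046080043e70043e5003aad003aab00350900274900274c0059100020270075dd004a2200653f00461d00459d0047a30029ef00402000537f003ed40040c00023e500487d00451a003562002fd0005100003ee1002fd1005b8c0037a6001dc50024a1002b4f001ff70068e1003521003519004101002fa3002103 else (cT_56_58 j)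
def cT_59_61 (j : ℕ) : ℕ := bif Nat.blt j 60 then nat_lit 0x6188006815006b0e00859700370300749a002745004cef007829004404001d350031bc0030780038e6001e7e00307a0029eb00611800240e005937002410002cb0006de900240b00612b001e31003e440024c5004bcc00477a0061f7004fb80036d70020670040d4006cd2005e55008c58004d470034a90071fe008495004bf8006351004cf2007f6b001d36004ee0004b3f002748003c02001e2c00206b0052f9004c6d0048d5006115004713001e2f006e490058f100326900299e004c7500292a0028b4002aa1006e470020b8005b150028c00029e0002857001d610041460074a20060b00034a70048a100206f002442002938004479004df5004e62006beb005ff800555a00408a004130004e6000408c004e64008084006d89004e9400599a00520c006e67002bad00426e007a3b003c01006f1700810c00570700520a007c62007532005db90042730066dc005f60005ffa0042cc0051d70078a3005a3c00561600517c0045b80024c0004342001f98001dda001e18007499002744 else nat_lit 0x29670007f0002819000839004644005da80058950065700069c800603f004fc8003c110040c5003c4c003b7e006969007325005fa7005f7a003c5e003ccb005491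005f35004dce006069006fd00069aa004b23005da1004f13007c320045cc006aaf005b0f001e15001f09006041005c44004dfc004235004d9a006639001e130058b0002f17004b660055450041380023ec00388f001d8b001ff00056ba00437c0043c8006f5f0063b50024f800227a00071a001a36002a4b002503003a9600799e005ca6002556005c0d006bec005c0c0057cc005efd00641d0040fd004d95003c2f003bf40023e70036af0049e800437000426b003c2300620a002aa300615c003bbb005dd30049eb002376003bbd005da3003545005d860053440047dc0063c0006a4d003662004d98002b70002b4900464e002f1200365c0055470023ea002b6e003f0900685f00308500595b0031be0046c600833200822600676300480000653d006536005e42004bf10020650063460058f3005e4a0058f6003d2c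
def cT_58_61 (j : ℕ) : ℕ := bif Nat.blt j 59 then nat_lit 0x4265007dff0045ee0071b10044d700733f0024bf0036bc004832003634001e19004d4d007b38004eca0059490056d00043b6004c0b005c510071250060b50031e4002390007449004d8200616f0066f0007ac800307f00432b00620500318f0070d000437a0081080056a000703f003668005306003e5b0005e4002456003adf004021003758004ecf0017c50008350017740005e6002276003c0f0042830026170027c8004a7e0023e100249800412c0041a3004ece00375a00375c00473d005bec004f080038fc004fca0051d20023880036e800420f0036e5004f0c0042850038fe00238e00675b0073bf005f0b002396003bc6003cff002411005f31003891003c50005451007ab800704e003b390065d0005f2d0081f5005f2f005b200035bf001f0a0027cd004fb60072010064a6004d100028b70045b50046b8003d1b00562c00452b0068ae005195003858004564002e79004682002e7600347a004a90004f3a002ee60034b6004a8e0047e7005695004f99002f1b0036600045b3 else (cT_59_61 j)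
def cT_55_61 (j : ℕ) : ℕ := bif Nat.blt j 58 then (cT_55_58 j) else (cT_58_61 j)
def cT_62_64 (j : ℕ) : ℕ := bif Nat.blt j 63 then nat_lit 0x402700679c005ec6002689003bf50026020026120053f200554800690b003887004df7006634005df6002363002361004d5b0049ec005321004d5d0040f80044ec0057cf0023650042d20024c7005f3200625b003c160053c3007dad004af300539100258b005dea0058bc004607002b7f004bf4002bb9004dc2003aac005ddc004dc00071f70047fe00274d0059830054f1006654002609005194006fb8003760004c880045d50029f000351400405e0053b5003511002bbe0063fa0061630023e40023e60020b00040f60069d800487e006111004e6f002fcf001cbe0040850071f30027e5002f0f004172004d0a0020b20024a20037a8001dc4002b4e0067fc004c04001e1200551f0068e0007c6b003550002b710041000034c000673a0056b9004d440060c100645100595f001ff6007d6100298f00239400348200604800447b001f6f00374c0028180007ef001b9a0017c60021d200083400384e00568d0005e30025b5000717003ad000273a003841002502001b61003a7e002459 else nat_lit 0x1dbf004a8d004734006af4004fcd00663e0075a10035c6002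afa00515c0035650053b90075a6007be5002b870067ce0027380054b2005a39002329001d620054c60047ea001dd50051be00261b001cbb005d32001ceb00410c00387c0030830038b70038eb001d8600759400635e001f92006710004711007126002d30004d900007190071b0004309004648005beb003b7f005bea004d92005e0b003ace003b33006b3b003667002367005797002564004c4600629d0031b900541d003ba7003d1600365d004518004e3c00349d004306004304005876003265004ede003c580042ac004d81005e440081f9007d6e00542d00489c005e3b0066f10077d7006084006e69002b7a00298d0046a10045a50024430024f900381c0026e50007f3001cf700259d001b5f003840003b2d003ac6002934001c9f0020d20017ed004d8e001871001cf50007f500083600174e00174c003c10001775006c21004288004dc1003fec004286003bb60026040038850041d90026000077ad00375d00650c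
def cT_61_64 (j : ℕ) : ℕ := bif Nat.blt j 62 then nat_lit 0x21d0004fec0017770039440020da003b950037e3004a88004fc5006047003b810055fc004fd4004e2b00699300416b00416a004d1c002607003b5800690a002732003850005450003d530063f8004c6c0023e2005b95005aea001cee00384c00273c0055a300562e004d0600273000603c0068ad00249d00687a004785004f5f00355300672c004441004f5d005f7c0042d00028bd003cfc003bba00580e002550004f4a004cea00480200463a00488a0043e400402f0065ed004ce8002327003764006ad60059fb0029ee00461a0060a300284c0040bf002616003ba6003563003077005574001da6001cbd0070b600786b0031ec0024a0002b00001f03007262003520006b3d00676500348a006d1f0043c3005e60004613004615004fbb0042cd005e4c00426400538d0053c400762b004ced004fd8005ffe006fd3003cce007456007a3c007b68005610005ffd0072ed007f8100805e007879007c100079a10046000058b500517a00545900683700799500755f006539003b550020d3 else (cT_62_64 j)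
def cT_64_66 (j : ℕ) : ℕ := bif Nat.blt j 65 then nat_lit 0x1ff200811200380d0034ab0054cb0037cf0052e70034af0042f7006225001f93007597007772006eee006226007040001873002610005b94007d080070ec005f8b0060310068ec003267005f65001e3000612a007dae005880004ee20066f50059e0002b7c0044ee005193004653005ad20045d60029900029920045b0002562003497002bbf0042320023ed00704200738900569f0054fe00346800566b0008380042bc006bee00375700293200309b003a7c00260b004f0900419d0037e50041ec003c78002493006fcd003c4d0056f2004dc40040c60045280078420075a70068b300544c004fa40023870025590050220040fc006cf100238500273300379f00603e004ff0005ff700459400384a0026180036eb0060300068ed005f64003890003b35004fb90073f700700e003b3700728d003aba0058f0005d5b004c52003583001f44004fb7003674005347005c220047c00036390041ab00452a00249b00423700572a005a6d0047ec0046810034770046bf0065a1003855005661 else nat_lit 0x24090036bd004b4f003635004c0a005c53006ae50035470056d10043b70043b90074480038780064dc0066ef0066ec00653800542f00432a00635b00435c006105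0079940056a20070d100366a00466e0043e30034c3003a990041680041dd001773002277005f6e004ab00041690041310024970078860041df004dfd003759004ed000547e004d04005024002389005acc00401400401800238d00239500426d00703e003ba4006269006f1800677700704f0054520078c200716a006ad50075f10065d1005f3000786c0072030040d600280600514f0082be00240a004343001f97001dd9004b4c003892003c4f0024990051960046200038590067d50046830083330073ca002e77002e7800347b0053d10063fe004f0500473c004f390034b5002ee500508400647e0056770031e5004f980052040042340083d4004f6c001dd70045b40062bf003d1a005cca007982004e750024a40037200029f3003787006386001d6700551e0042bb004be3004bde00439600350d00261d003925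
def cT_66_68 (j : ℕ) : ℕ := bif Nat.blt j 67 then nat_lit 0x735c006342005b0b0065f1004d97002afc003ba0003c390040360059850023e900686000437d003084007c660062f0003193002853005e45004bf20043e2006be40061c5007455003d2a005e4b006816007be400370400622d004cee004ceb0038e70031bd0030790029ec001ff40067c4006bbd0080690024c6005dc20036c20025880036d60061fb002b7e004bf5007bc5007ef8004d4a0086a0004d4800647c0068a1004bf7007dac004edf0071fb00635d004712004776006e5500240c0068ef0024c4002aa2002cb1006dea0058f2006197003cfd0028be00206600608a002856004148004d8600481d004e2c0078e400268d004e2a007223004e2e00548800408d004e630058720077ff007dfe0046a00077540056a3007d710070d200827e007a3700366d005ff9007f150064dd0058e5006cf0005209005a3e0036cf0045b90083d600517b006838003c00008662007e000045ef0071b30042660078a80036ce0070d40024be0066dd006d1d004d4c0071da004e900044d800840b else nat_lit 0x1dd600401900588b004ea5003564004478004f880062ef00410d0084b60060bf006d200043c2005e3e0042cf00780000789e007b6900864100838700798f007878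0086500084b50083c900387500711d004601006b010058b6007dc20056a400650b003b560053c6006c1f004ff20037df006540003c12003c4b00606c004614004f49005f7b007f2f005f34004d2700585e00502f004dc80069ab004b2400787a004f14004f7d0045cd005d8300514d00545a006aae004dcf005c0e004dfb008093007331004d9b0037aa007c720045fc006a7e002f18001e14002994004170004137006abf0040380055cf006774005987001d8a00738b0063ea00481b005500007cea0038e8006e4b00227b001a3700227900383e001ca1005efa0075e00041b3004dca002495005be90054820067c7006d450068de003c30007472003c370044dc00426c007b08004dcd006044007d83007f67004f7a005da200426a0067200045ca005d850053450047c2001f43006042005c45003766007606007b37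
def cT_64_68 (j : ℕ) : ℕ := bif Nat.blt j 66 then (cT_64_66 j) else (cT_66_68 j)
def cT_61_68 (j : ℕ) : ℕ := bif Nat.blt j 64 then (cT_61_64 j) else (cT_64_68 j)
def cT_55_68 (j : ℕ) : ℕ := bif Nat.blt j 61 then (cT_55_61 j) else (cT_61_68 j)
def cT_69_71 (j : ℕ) : ℕ := bif Nat.blt j 70 then nat_lit 0x58aa0060560023ee00626b004231006861004e3d0042ad0078da005d7c007d7000542e0067c500542b00489a005dbc0077d800366b0046c3005838002b7b0081f8003b980034c100227800625d003b2c001ca0003ae1001ca2001cf60007f4001a38006b9400645300268e0049c40055c4005fcc003bb500375300388300421000676b006f1300238c005bee003ac5002688003bf60053820026110041360053f1003886004dc3003b9a004d03004dc5002362004dfa005f73004d5c00412e0044ed006c2300625c008386004af40064bc0042d4007e2a005dbe0046060058bb00258a0066d0002691003bfc004dbf003bfe00687800570b00799a002851005fce003bb700654100735e006fb700385a002643006f7d0079d70045d40029f10052e3002bba00405d004a9200375f005678007bc6004b48002bbd00467900679e0059db002b8500268a004b100068220040f500412b00403500284f00274e00598400541c0055a2003195004e700057b00040bb0051c3003194004171005423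 else nat_lit 0x4233004e7400261e0069dd0054ff00569e0070410037560045240037e7003c77005485003c760045270070ed007c800040c700456000429c006d5f002494005023006eeb005e0e003c4a00455b004ff1003c6e0026860046750055f70073f80067760078e300602f00700f007534003abb0068f000728e005d5a00602d0036c1006c1d0036730047c1001f0600363800559e003c4e00249a0057600057290045620067d4005f2a0068db005d21004b530035840046c00023f30065a20068b500467f0031e80060ba005c8100647d001dc0004f970023f000663d00663b0071440060cb0035c500515d007733002afb005b960045af008089002b86005ccb0054b1007b88002770005a3a003cf1003ede004e05004d63001d6300577e0051bf00261a005ccc005b920045f500387b0083c10038b60038ea0034720054c7006109001d870076d20077580056be003e07001d880078e2003e05005bb4004d210041b2006fce0060450058a80045ad00585b003b32006d51005192002565003666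
def cT_68_71 (j : ℕ) : ℕ := bif Nat.blt j 69 then nat_lit 0x4fa30072f6004173006bc300566200654e003588001dc3005a340037a9005320002ee100542900668100553d007c6c00354f005804005a32007c6a004d43004d450028540054cc0064500062d4002b4d00657a001ff5001f940065fb00697700298e0065f90034bf0045a700174d0037e00056c1000718004f9d0018720026e8001b600008370021d1005ff200309c00260c006b9200512d004a54004ffa0045a9005033002496003c13002679003b570051250037e20068b00068b200384f0072a800412f004fc60054f4003b3400273b0037de0055d2006766005cc9006992004d050040cc00249c003c6c004f6000238600672b004f5e004f77003bb900711800767400784e007fc9004639006083004bf300347f00268c00737b00604f002608003765003763003761002328006ad700351700351500467b0067a00067620029ed005c7f0060a40023e30027e8003ba5005aeb001ced0040840074920027e6001cbc001cec004d07005b880040ce0049ef0031eb002aff00249f001f04 else (cT_69_71 j)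
def cT_71_73 (j : ℕ) : ℕ := bif Nat.blt j 72 then nat_lit 0x5837006f190063cd0076f20067950077550067780067c300759900827f007d65006aac0064a4002805006b900040d700371800711300759300514e004ec7003ba3003893007096004eb70046210057bb0067d60057bd0068d90046840075f20065d2006618006ba20063ff00420e004177004ead008334004f0400473a0035c1002ee40068c0006cd40075a20071450034b4005055004597004d310053fc004f6b0057db004eac006c7d004eaa001f96001dd8002ee30053b00054e80024a50042a20060530036c300264000371f0061fc0029f2001d66004e76006af700428100370f006dbb004be2005f44004d61003ed8006abe00346c00346a00866700380c0064a30063d20081130037ce0034730037860034700034b0007d160042f6003cea006e560043950043ce007cc50056bc00770d0043cc00759800260e00541e005a9f0081f400855d00588100642f0066cf002b7d0057cb004654004d9c007a8b004ee30072d6004c48002993004d2f00726700401d006432004b44004b45 else nat_lit 0x2afd003b9f006ac0003ba10063ca006e2f003c3800437e007561007c65007cc90038e900610b007885005e41007f13004e8e007feb007c020037050071190067f9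00258700715c002589005dc10036d5004e27007bc400877b007ef7007e0700687500647b004819004bf6007f6500622c00744f006bea008066006bb700608b003480002855004149004d870071d4003bfa004e5f006229004e2d0058710069de007a3800366c0058e4006cef007f1400469f0070b70058e7002585005a3f0058ea0046020045ba0086990043510045f00081c30070b80062300064750078a90024bc006b0000366e004d4b0079020078a4004e8f0042670071db0037170070d50024080066de004ec8005c540077730042690036c00081db0036be005e5700354900363700686e0043550064780066c900387700650a005430004329006b4d00691a00435b00635c00799300622f006adb00466d0041a60030d5004f930055f10041a40077910041a800625600408e0041de0041a500502500238a004017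
def cT_73_75 (j : ℕ) : ℕ := bif Nat.blt j 74 then nat_lit 0x31ea0040cd00757a001f05006741004f6800401a004ea600358900672a0058db004ea400410e0056b40075660081860060be002afe006669006e2e00481500863f0085fb0081a20085fc00814400387600258300711c00835800387200855e0058b7007fd10056a5006be0003c7000429e005032005836004d2600503000741d0037e90069ac004b2500798e007c8900796c007a8a0070f80038af004f7e0045ce008294005d57004d2800585d004dd00045ab00575d007b4e005e190049f50037ab007ff4005175007140006ca5006551006a7d00409400416e006984005bf70040390027520045fb002750005988001d8900738c0063e9006bb5007ca1005501007ceb003cef0073fa006388005e650041b4004d2300502a005efb0054ba0060630054830064ee006f7b003c31006617003c36003c74004ff70084b2004f7900787b0044db00787d005149005d840058ee00545b005d59004ff5005c0f007c7f00645c0025670070c70045c900627e00634100618d0023f20079d6008457 else nat_lit 0x70510063cc001d64004dd6006e7700274f00403a0057b10040ba005af0004e3e005bf4003b9b004fa20069830064f3005424005df4006f61005888006fbc003587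005b47001dc2007675004174006bc40065500035c400354a0058dd00668200553c00730600627f002566004ea2007de20056b7002803007b55004d7c00644f00347400734d002b4c007d170067fa0048ca00542a001f95007d810058030065fa007d4600716f00452600741e005ca9004ff90045a80045aa005b93005dab005cd10045980037e10068af0054f30041ad002684003b31006767004a76003bb10040cb0053af003c6d00416c003c480070ea00518b004f76004f1900713c005dbd004605007fc7007673002692005fcf003bb800429f004239007edf0037620026b9007073007075006fd70035160052e20034bc0023f40067a1007cb100730700488d0034bd00467a00605400479f00268b00726c0027e90038940055f80046760027e7005d340055f9003b9e0066350072d70049f0006240006cfd00354e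
def cT_71_75 (j : ℕ) : ℕ := bif Nat.blt j 73 then (cT_71_73 j) else (cT_73_75 j)
def cT_68_75 (j : ℕ) : ℕ := bif Nat.blt j 71 then (cT_68_71 j) else (cT_71_75 j)
def cT_76_78 (j : ℕ) : ℕ := bif Nat.blt j 77 then nat_lit 0x36c6004be000628e0083dd00779c00438e006479007f5200779e0037cd007f1600797d006850003785004818001d650063d300864f0042f50042b900346e003ceb0050e7004394006201007cc4004a6400770c00346d00723e005a9e007536003abd004a03007d50004d9d007a8c006979007ef4004f860066a90053ee006bcc00401c004ee7004ee4004ee5004dd80080a4004a620072290063d10063cf00677a005cd5003c750070ee0075a900455f00430d0040c80054840041f0005e0f0057b300455c0074bd0073f90056c00079a90077560078bf0067c1007d790078cf00852d003abc004279004345006c1e00754b0036720056f100575f004eb8005bf80050cf004d66005f290068da006ad20068dc0068dd005d200040410026240065a30045610076950056b10069490031e900354d003769005c82007693001dc10086100024a6004f6a0073cf006c49004ea90023f10062a1007d8000541f00403c007c67006431004dda0080fd0042a1007c040026b600276f0060d3003edd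 else nat_lit 0x435000435300722a00647600855f00734200802c007903007442004e5e004f170085320077bc00377f0071dc002407007a3500366f005c550077750042680043480042780036bf0037130066df003671006849004354004db900687000257f006477005431006bb60045c200435a007fd200711b004604002694003bf90041d800743c00408f00735d005e11004f63004f660058020077310063ce0038b10067f8006779007d640066cd0028040067940085950025860040d80080670045cf004ec600873a005f250051980046220062bc00736b00802d004ef4005bfa00860d0057bc006d03006d02004685007095004eb600640000420d0037ac004eae0068d800759c0036c90065d3004f030068c1006cd50062990073ce00716e0073cc00531e0035c300575c004d320049f40057810053fd006c47004eab006c7e006ca6004f020054e70081490043130053b100431500263f00715d002641004f8400371e00551c007b090042480036c40084b00037100061fd004be1004e77005bd1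
def cT_75_78 (j : ℕ) : ℕ := bif Nat.blt j 76 then nat_lit 0x4e06004d640058e30051a50046550051c0007c4a0045f400380a0076790045f60038b500720500347100666b0045c60063b000756a004817007d050056bd006f1a008085007d780056bf0037e80041ee004ff80041b10045ac00585c005795006abd007afc00403e0045ae0023ef00261f00547a007a160042ae007dbe0025840084c100691900822a0066ca0058b80066f30055c50065bf004a57005fcb00799d003755004f91007dc300676900238b005bef0079bb0055f00049c5003bf700268700416d006542003b99004d20006f12006c4b006b960064550085fd004af50064bd0042d5007e29004f1b0045c0007f600058ba005d71005833002690003bfb0077b5004df40045f10045f3004380005d6f005fcd004f7400579200735f005ba000385b0054c20057870079d80045d3007c390026420066aa00405c004a930053b3004178004ee8003ac10073e2002b820061ff002b83004a29004a27003ac4007bc7004c32002b840041650055c9003c6f0040f400412a003ba2004d62 else (cT_76_78 j)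
def cT_78_80 (j : ℕ) : ℕ := bif Nat.blt j 79 then nat_lit 0x5cd8007a890041ba0038b00072eb004f7f0070f900387100796d005835003c71004dd100430f0037ea00873900725b0054120065be004b040078aa0051340057bf005e1a005174007ad60081e8006552005d1d0040960076cb0075d7005bf6005107007f9b0067f50027510083c4004e3f00738d0069e0006bb40057560055020074fe00709d0027530045fa00821a0041b5005029006d430066ac0054bb00770e003c32003c35005cfd004d2500864b0070f4007c88006c8400787e008366005a4600787c0058ed00545c005d580037ec005c4200575e007b4d005e180025680049f8005148007324006fe2005d1f0074570026230024a8007b430056b2004093005758004b3e0081580045c800465700838800437f006ac1007cc800700b00700d0073fe00700c006818004e8d003706005d72006791006b06004e5d007fea004e2600877a007ef6007e080042b400647a0068760036d40085ff004e2800767200414a004dbd006d8c006228008145005a400058e80058e90046030045bb else nat_lit 0x4b2c004efe007292005887005df30068f3007fd80064f20054250065d6006d590065d400516100668300553b0073be006f1b0050a200409b0084af007dbd00263c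0071ec004d7b00644e00276d005d7500734e007b19007d18006c4a0050e800822c00409d007822007b520041b70058a600741f00430e005e2b0067680040ca005b9a00455e00542100518c004f180081f70065fd0058b90083560037eb004f75004a0500423a005ba10057500042a00057520066a60045d2007d600026b80023f5002625007473004599007b51007b4f00376a006938004f850026930080940027ea003895005bb3007219004a2a0055200069d30072b3003b9c0069b9004b2e0049f1007c1b00707600623f005163008109006cff005780004f67005f46004f69004ea700401b004ea300410f006415007678004d400056b3005d7700666a0070cb00666800880a007a3200370a00258200263b0081a30045bc004db40079700062320056a60062330041ae0058010050310069ad004b2600798d0041b8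
def cT_80_82 (j : ℕ) : ℕ := bif Nat.blt j 81 then nat_lit 0x4e0700674600417e0051a400628d004656004a61007fee004dbc0046280084b10037cc007c050076b10051650045c50045c7006d240045f90072fa0076d6004e410076d4005cd70041b0005c0b004a04007d510075b300708000389a00403d0080a3002620004dd9006ac200377d00774e0078ce005b9d003c33004a5a004f64004a5d003bf80074be005747004a580065ec00518e0054bc007ab2004af60064be007f17006c890045c1008156004f1c0045be0081c80077b6006d8d00434d00438900779800686400438100370b006f0f004f73008817008222005443005b9f00668000385c007f4f005788005bd8004689004634006f50007d720057ff00405b0053d4004a9400574e0037ad004d6b003ac00083c8003ac20036c70084dd008146004d69004a260073e5007181003ac30026950055c8006a5a0040f30041290041640046230074010046250081f600685200541a006c0000815700403b0057b20040b9004da000853e007ac9004a3e0076ca00389e006c5e006653006991 else nat_lit 0x6f3b0026b200715e0036c80037110066250066230036c500427e0076cc00821200438d004df000684b0054ad007dd000779d0083930037830073ab0042b5003784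00685100371d007e8b0073970038b2007f8c0068200042b8004e780045c300682100840e004a6500840c004393005cf9008872007098004a3100578900677e007a8d00697a003abe00405a007d4f0067dc005f48005f4a007d74004ee60040f2007f2b0066460074ca007f51007244004a63004af80042d800385e0057b7006d610041f10053f80057b40069fb0077320043260067c0007d2a007535005d7300852c004ec4008e350057270075d60050ce0056f0004d670049fa006d95008365006ad10078d00081c20058840074700079340040420065a40050fe007d4700623c0076960056b0007077007d32003897005c8300628300734f005bac008133005f170073d0006c48004f35004f250026220024a70062820040970072610040990073e60054af004d3300431200668e00263e007c030026b700276e004ddb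
def cT_78_82 (j : ℕ) : ℕ := bif Nat.blt j 80 then (cT_78_80 j) else (cT_80_82 j)
def cT_75_82 (j : ℕ) : ℕ := bif Nat.blt j 78 then (cT_75_78 j) else (cT_78_82 j)
def cT_68_82 (j : ℕ) : ℕ := bif Nat.blt j 75 then (cT_68_75 j) else (cT_75_82 j)
def cT_55_82 (j : ℕ) : ℕ := bif Nat.blt j 68 then (cT_55_68 j) else (cT_68_82 j)
def cT_83_85 (j : ℕ) : ℕ := bif Nat.blt j 84 then nat_lit 0x4a5b004a740076e500389f0071a1004b2f004b2d005def007c1a0070b2006a8f0051360081c1005162005f0f005c01004f22004f33005f4700409a004110007dde007212004d3f006414005d760051640085c1006d2300370900263a005d150040da0056aa0056a70041af0069ae007c8d0041bb004b270066c4005d4e0070fa0041b90045bd003870005cd9005800004dd2008f5d0054130053e6007334005c9c007cdb0043100063d8005133004b070040ea007f840051730072ea004b05005e1b0081b1007036007c31008b7e007c5a004044006a4c0026990049fc00269b0067f4006ea9008359004e4000738e00722c0069e1006234007c9f00810a0055030074ff00417f0027540042f1004e42004af900256b0066850053f5005749008656007199006eb00042da005a470040df004f1d0038ab006ffa003c7200898a0070840040ec0037ed004b030025690049f900674a0051470049f7006fe3005d1e0070820074910074580037ef0024a9006ca00040920057590049fe0065a6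 else nat_lit 0x37ae005f4c004eea007ef9004d6c0067260050b90057fd0053eb00813400508800860a007d77003abf007185006a5b006d8e008798004128004163002696004b0d004eb200771500462600640400462400370c0040b700762a002698006c0100726f0040b800763c004e08004659004a59006633008934007319007937004eee00376f004a3d00699000731700508c00468a00697f00588600694b0056ae00860c00389d0064f10066b0004b2b004ec30065d50063d70053f700553a004b020041f40024aa0050a100707f00647000772b007dbc008496004d7a0054cf0071e900263d0072950068f6007b1a006d05005d74004e790050e900409e00677c00409c004b28007cb20069c70057b600723b007ccb005cda0065fe00518d00898b0086590040b1005bd5007ec6007917004311005753005ba20046880046680072d100417d0057c70026260023f60051220074740045d100376b004d2b004d6800697b00544800709c0027eb006759003896005bb2004a5e007a63004a60004a2b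
def cT_82_85 (j : ℕ) : ℕ := bif Nat.blt j 83 then nat_lit 0x6c0200644b00578d006a8e00797300570e005757007df70063e60073fc0046580073fd003707004de800684500860f004e5c006869007ef50079c20073a90042b300681b006bb200280000864c00414b00865e004df200438c007bab00434f0077bd0074cb0037800083630077bb00796e007b2f0043850073a6007cca0043490042b200683e00240500545d003670006819004dee00257e00543200796f00743d006227007b6a005f100053f30077900066a70037810040d90083550045d0005d1a00874f005b0a004aad0062bb0080960023f7004b0800736e007245005c3600864d006d40005bfb006d040072b90046860088d1005f24004eb500640100420c0027ec005bd4005f1c004eaf00543c0070780024ba006553006d19006d750068c2006a2e006298007d7300623a0073cd00371200661a008738007284004b32005135005f1b0082640053fe008105006d01004f01008933008458006efd00696200431600720b0043140066e4004f8300800900551b008529004aff004247 else (cT_83_85 j)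
def cT_85_87 (j : ℕ) : ℕ := bif Nat.blt j 86 then nat_lit 0x5138006aa800881d00748f007935005f540040430050fd005109006f1f006a61007236007d2d0056af005885007304007d33007d31005c8400628400623b00879e005bab005ba90078b000720c00661e005be2004f26004f240037f000645f00405900806a0040980073e7008e57008022004b3100668f007f0d00668d0084b40081010082240073ed004d3400771700462b005af40071f100628c006d67004a30005c5a007e05004df100519f00640700838c0038080077bf003782004629007cec00666d0037ca0072db0045c400578a0076d70076eb0072fb004b29008fea007af800575400708100389b006782006b9c0040f100664500262100547800462700377b00574b005e14005748007f1a0076d8006c8a004af700691d0056d8006c880080fc00438600438800434c005c590071b900438200882f0054440065eb006f0e0046310063db00385d0026280080d60040af007ab900415800643b004633005bd9006f4f0082ec005831008795007e8a0053d5004a9500702900574d else nat_lit 0x4eb0005c35006927006d70005d030024b900794f006d1800879f006d740068c3005d3c0062970027ed0078b10027ef0065dd007e3500240400661b008f5c005cc6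007519007fec00660b0053ff0081040072b8007a15008cc200731b005e210085e80065e0006ed00065d900678f0050ee008ece007eec004b0000262a004afe00865a00581a0026b10066200050ba00549a007f560066240058180073d3002769008932008211007e51004def007baa008ed000808a0079c300797b008600007bdf0064d70027f20073aa00768800649e006bb100276b0054ac00275f00411b0073980073960042b60042b7007f5400657f0079bc005cdb006290004a6600820000887f0072a70080d7005c00006d990076c1007016008fe5007af6007d4e004a32005523005f4b0067dd00751a005f49008737008b7d007f2c005476007f50006a01005bfd005c280042d900385f00256a006eae0042f3005c26008b460078bb0050cd0056ef00376d004b380049fb005c370067bf006ad0006d960050eb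
def cT_87_89 (j : ℕ) : ℕ := bif Nat.blt j 88 then nat_lit 0x66770074ab007a6900269a0081b0007d930069e500722d0069e200722e0086d500778b0085380055040072470041be0040e600810b0027550040e3004e43007aa200256c0037b0005cff007f1b006eaf0042db00719a0040e00079f70038aa0089890040ed006956005816004f2d005c40004b370040eb0070c40051460071e5004b35004f1e006fe400730e00894e006f46006e7f0070830074590037ee006f1e0057e6006c9f0087350049ff004045005c860049fd0065a700644a00578e006e7d0086650071ba00570f006f720076100042e00063e5007c92004da3007400007c91004de7006844007e74007ff30085670072310079c1006235007fca00414c0085e900860e0077be0074cc00864a0065ff00434a00723200683f006ffb0056d5004e8a00263600257d0037080053f4007e4f00881a004aac00883600748b006f4a00874e004b0900736f00724600276300739a004124005bfc0072bb0072ba00546f0046870088d0005f23006ba500420b0041d60023f8005724005d05 else nat_lit 0x7d070050bd0068f70081230072bc0065d8004e7a0050ea0054ab005bfe00707e00733600510a0069b1008cba0040b20040540066af0046300063da00656f006932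0040b000707000409f00863e004667007a3d0077180088e80057c60026270080eb00512100821b00469a0053ea00710300376c00697c00894100709b00419a005447005e29005bb1005417007a64004a5f004a2f008d1400733d007818005cb000376e004a730038a000718800730f0064f60070b1006ff7007f8b0051370084c20067da005c02005bdf0041f5004f21004a33005524006781004111007729007ddd007fdc004d3e0050bf006413006d0800773d0073ea0081af0072da007b2a0056a80041bc0069af00411a0070bd005437005ba3007e500040db005be80088bf0053e70057c3008ab5005414004f280065990074e60063d9008df200695a00692e0040e9007335005172006d3100571a004b06005ba5006fb0006c9600386f007035007de3004121007d29008946007c59006a4b006a1e004b3a00269c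
def cT_85_89 (j : ℕ) : ℕ := bif Nat.blt j 87 then (cT_85_87 j) else (cT_87_89 j)
def cT_82_89 (j : ℕ) : ℕ := bif Nat.blt j 85 then (cT_82_85 j) else (cT_85_89 j)
def cT_90_92 (j : ℕ) : ℕ := bif Nat.blt j 91 then nat_lit 0x553800509e0076c200412000904f007af500781c0071a400662b007409004a340055250066290067de009048008cd70041260079c40054750056db00820a007cd10040e2008d2a008ec50056ee006909008aaf004b39006f220027f90067be004ebb006d97004e7c00513900547000890c006e81007a80008861005f530050fc0069fa007e54006a62005c650071c40072ff006a600050ec006a77008943007305007303007ea6007ca900510c007235008b21005baa0082800065df005ba800879d005be3007cd9005be1007cd7007ca80037f1008949006d9e00806b007c51005526008c73005cf50079ca005c3800723a0081030069eb008dd60075c10082230040e800462c006d38008ae300721700628b0071f200414d007907004e22008b16006bab006406005c5b003807007007005d070040e50051a0006d36005167005c300037c900462a005af5006d26006988007d0200578b004e0b006d98005c270087020071aa00894d006f4500405800678300904b0040f0004f27008736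 else nat_lit 0x7e75007ff20074cd005c320041140056d600263500881b00884b008936008ad700778e004aab008cb50027620088350041250083d500690700412300411f008dde0078b80088cf0041d5007e1700874d005723005d06005f1e0026ae005c3400415e00869a0024b800543f00546e0080d300893b007f9a0068c40062960084dc0079fc0027f0005d3d005c630068fb006d710027ee002403007b6700878a00462e008be9006445005c6a00771b007f8900415b007e4e0087ea004696008b3000640d005cf30082ee005e20004e7f004de600894500737a004245006eff00262d0083c50026b00068f900262b004afd0050bb0065db00873400865d00702400581700860b0062a6002768007e52004e5a0087640056e90042e700700100649b0056e700797c0064d6007e530080a20027f100797a00729d005c600050f1008265006bb00027fe008f1a00276000411c00257c0072a000275e00851d0076ac00549d0055190027f50073950069b00086ea007769004a67005cdc008f5f00887e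
def cT_89_92 (j : ℕ) : ℕ := bif Nat.blt j 90 then nat_lit 0x519e005c85006c8b0064c2004155005c2c0056d70056da00684000790600434b00905e0065ea006f0d008807005445007e6e006f4900882e0063de00692d0040ae003860004efa004157007bcf004632005bda007e06006f4e00643a007ee7005830008794007ea50053d60046630081c00026290037af00662c005f4d004eeb00415900769b004d6d007b90006f530066210057fc0088b5006753007ebf006751007c52005cb2006436007186008da4004162006c32005d00004b0c005f20005d3b004d35004127006405006cda00519b004eb1007e160088d3004a0000765600269700465b0065a80040b600879600578f00763d00465a00853c008935007c58004eef005cae006651004a3c004a9600698f00377200508d004a98004efc00865800377000508b00468b007d2e0050ed0086d80074bc00389c0023f9007339004b2a004ec20069b3007f57008b03004f2e004b010037b10024ab0057e50050a000801d00377a00774c0086d6004d790079530054d00081a10056e10069ec else (cT_90_92 j)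
def cT_92_94 (j : ℕ) : ℕ := bif Nat.blt j 93 then nat_lit 0x57c4008ab4004f290054150053e8008c720040560088be00692f0065bb0069020053e4008ab80064d00066c200571b005438008788005c3d005ba4007f8600667a00386e004db1007034007f87004122005471008b80008947006a1d008d88005b0600269d005143006d0d0069c0007d9600513c008106007a6a004e0a0041820069e30086d400778a00692a0027580077050072480041bd0040e7004181007cfe0086660027560042ef0074d2007707004e44007aa4004afb007ed00042dc007e120040e100869b006922008d210079150084e00089880040ee008aaa007df000826600540f00256d005140006d0f0079f9004b36005bdb00513e0038a90071cb008b08006e80006f4700894f00800c007b4a006955007e550057e70037b3006c9e00655a00902d006ee0007cad004aa9004046005c87006449007f2e00886d007c9b00465f0057130071bb0057100088df0077ac006c910064c80063e40041bf006c040041c1007fed007e22004da40041c000700300411500414f0068d0 else nat_lit 0x643900468d004e4c0057170086d10071d30071980023fc006f42004ec100769c0023fa008821008e6b0073a5007cc3005c990072550037b2008ed10086ed00774b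008ca500778900646e003779006c750056e2005c66003773007bd50050bc006c770068f80086d7008122008124008263004e7b008ac800509f00719300510b008f3100405500423d008ead0040b300656e0088960069310040530069b2004ef90040a00046660054a800771900890b0073370057c500889800462f00693300469900894b0053e9005e230076c30088600041990088e70054460040b50088b600721800796b005416009004006edf007f8d00733e004a720038a100708c005cb10024ac00850e0064f7007426008dd7006f8f0069c50070b000731500462d008364008864004f2f007025004f310037f2006d9d00718d005c03004112007728005464008e60004d3d006c92007d190064120050c00066b60050be00841c007cee00513d008601008225005af60076db00411900546a0054360083c2008937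
def cT_94_96 (j : ℕ) : ℕ := bif Nat.blt j 95 then nat_lit 0x54e30065ac006bac005168005c5c0037c8008536004dde006a93005d0a005c2f008ae20063e00069be004e0c0069890086eb008b0600881f00405700894c0040ef008b17006286004e450064c3008539005c2d00691f007978008c7a006f0c008dd3007605008ae80086a30063df0065e900690100386100880f004d73004156006eb70081180088060063dd007f6c006a73005403007bd000424200582f0087f4006616008793004662007c98007e1800695400882d00662d00740b0040ad004ebf006f31007efb007ec2007b9100708f007bcc007bef004afc004d6e0083c60088b4007ebe004695004a37005cb300415a006437006750008e540078b700902c005f21006ac80068c500853a008a68004161006ac6005d3e004aaa005f1f006cd9004d36008d98007655004691006a4900465c005c8800894800886e00794e0075dc006d35008783005f52007a5b008c42004a3b0053d700698e0086cf00706100508e004a99006c61004efb004d71007bce003771007c55004a9700468c else nat_lit 0x56e50087630079fe0042e60070020037c5005c610041160038040050f200415000275c005c5f0027fd008883006c0f00257b00263400276100262e00828200869f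006f2400411800729f0087cc0027f600275d0086e9006930004a680076dc0087cd008ec900664c004ebd008c6300905000781b00887d00826f00740a004a3500765700509d0067df0088490041600090470056dc008ca1008fe6008d2b00776a008d7e0027f8004323008ab00056ed007e8500664e004ebc007a78006e8200890d008b81008c6f0069f900878d007fd30057e90027fa006d0c0050fb007d97004e4d0057180054a7006438008c7800893c007a590079fb00510d005c640071c30087dd008aae00640e005cc400879c007f6d007916008862007f730079fa0041f80087c900853f004a36005527008e55008cd8005c39005c6900771a004e4e008dda00893e007e28008866006d39008dd5007cb0008f2e00818e00700400414e008b15006a46006cdc0077e600380600571f004e210079c9006504008ad2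
def cT_92_96 (j : ℕ) : ℕ := bif Nat.blt j 94 then (cT_92_94 j) else (cT_94_96 j)
def cT_89_96 (j : ℕ) : ℕ := bif Nat.blt j 92 then (cT_89_92 j) else (cT_92_96 j)
def cT_82_96 (j : ℕ) : ℕ := bif Nat.blt j 89 then (cT_82_89 j) else (cT_89_96 j)
def cT_97_99 (j : ℕ) : ℕ := bif Nat.blt j 98 then nat_lit 0x88e9006ede0057ec00708d00741c0024ad0038a2007c54008ddb00468e0069c4008dd80070af008822006d3a0087bc0079eb004f300037f30087cf0080d800877200667200870f0077aa0064ca00571500516f0050c1007d1a004d3c0066b70056dd008b00006ebe005cb700771f0064cc00836d004ddf005af70041510054a1008dd00040b4008ab30089fa0089c50088930088bd0069030065ba007372008ab7007c0f0064d1005d4b00571c005d1200878700695c005c3c008c6200386d005402004db0008984006f3a00885b005472008f60008e5b005b05008c59005d0e00655e008c9f0069c1008086004de00064cd0069bf007a95008816008074004e490086a700831d006a05006ec6002759006442006a06008aad007cfd00269e007a5c0027570042ee0074d300841d0063e10081dc007c20005716007e6f00778100692100879a009023008808007df10080d5007eb700256e008cfc0064fe00669c007783006923008987005c3e004d760038a80070ae0077420065950088b2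 else nat_lit 0x8805007ec10041c7006a720024af0042430062a80057fa0024ae008b130088b3008868004a38005529004ebe006bd100511d008c79008e9e006ac9006e8a008fef008d95004196005d3f008a69006ba80042e40068c6004d370087f3004692008d5b0040480065aa00465d008a39008b18006f8d0065ab00890e007a5a008c41005f510087b60086ce0070600053da004a9a0076f3008c0b0054060037f5006464007bcd0086c1004a3a00550b0040500057f7005404007efc0042080066110080ec00900a0086c30086d0004240004ec0006f410023fb008fbd007cc2008b29005c98007253007f6e00869c008c5e00646d0037780087c30077880056e3004e500089be00377400508f007a5100640f0077860086fe0023fd0087c6007032008ac20086ec008ac70071af008e83008a35008785006905004052009003007c2b0089c20054a9005c3b004241008dd4008c70008897004698008dd1008f5100664d00893900890a0088b8008ecc00796a0088b7008ee600469400902f004a71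
def cT_96_99 (j : ℕ) : ℕ := bif Nat.blt j 97 then nat_lit 0x84df008950007aca007cc100800d00878e0087f20057e80037b400641000655b0085bf008d1c00469300902e0040470041c4006f87005144006d0e007f2d0088dc00465e0046600041830071bc005711008c570077ab0025730084410063e30042e20064c70077030041c200852a008750007f1c005ce40063e2004da50064c60054650071bd0086e800881c0086fd00884a0089f7008acb00885c004ef8008938008e520088ce00874c0057220079c6006692008c3e007f07005c3300883400415f0024b700690600415d0040a10087f8006aca008944006e89008a9e0079fd006f020026ad005c620071c1004209006a310024020054a500769d008c71008ab900878900703300667b00415c0054010088d90087c00087b90023fe00511e0024b4004de5008dcc0087f100736a008c430073790051100026af00705b00262c00581c007bf0006ed20054d2008f300079ea006f0000829300812a007b470027670054d30088470042e800431b008f1b0056e80056e40050c6004e88003805 else (cT_97_99 j)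
def cT_99_101 (j : ℕ) : ℕ := bif Nat.blt j 100 then nat_lit 0x7a990087ce00553600552c0088ca00509c00550d008784008aac0087c40027f7008ca0008ac0008ac1008ab1006468008775008ff0008b820080d4008b0e005d0f00655d00878c0062b7005ce70038a30064f900582c006bd2008a9b00893d0072760041fa0026ac0077c80087c10087ba007bd20070ab00879b008b1f008b320079ec0041f9008c3f0087700085280055280086fc008a33005c3a004e4f0088bc0088ad008dd9008668008d940068c9005d40008b14006a450050c3004e20004e570086e70037c6008ad300404b008ad10068cb005c8c0051690041840037c70082830087510055170065ad005d0b006a080086a5008ae1007a62004e0d008eca008d180090220071c2004e4600777f005c2e006582008e5e008c7b0086a4008e51007eb9007a20004a6d00386200880e00827d006bd7007522006a350064660086a20070aa008aba004d740075200088af0089f80088d40087f5007c9700466100879200843700882c007a9a0066150040ab0088100040a5005afc006eb8 else nat_lit 0x4aa7006f880041c50086b3006c7200418b006d2e0077410041d10088db006d2a008d1b002574006c080087bd0081df0042e300386600827c008c500077020037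b8002572008442008b02007ec7006ec0008c52006ec2005ce30038650064c50089c000874b008ad50076a4008d8a007f06008833008a2f00897c008a30007d23008799008c680087f9006c36008a38006ce30077ed0087b40041d30024010057f80024b000885a008eaa008a310077f40088ae0088da0087b80024b3008c0f008ddd007251008a2e00705c00705a0087e8005cf1004a9d0023ff002400006ed300872500800a008dc80073780051110053e20027660054d400692400883200431c008749004e1e0042e9008c950042ea008b28006c370042e50087bf006ce20077ec005466008abd00431e004e870050c500640b00275b0077ea0027fc00888200257a0026330088b900876200262f0082810079e200777d0037c400795f0041170038030087cb007dd4008894006904004a69008771008ab2008d9300887c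
def cT_101_103 (j : ℕ) : ℕ := bif Nat.blt j 102 then nat_lit 0x9005008ee70057ed00511c0041fd008b2a006edd007b9400878b004a3900550c004207008d25008cfe00886c00900b0087bb005cc20037f4008b4a0041850088e60038690066ba0086b400516e0050c2006d2d0087100079560037b90066b8008b01005cb8006ebf00870e00386b0067e40064cb008752007642005af8005468008d19008acd008b35007ec0003802008ab6008d7d006a40007b18005d11007b270087860089f9008b22006d34004daf0089c40089c1008e6d005b03008d7b004189006a0c008c9e007fd600875300386c005af9008c6900794c007a94008d4f006e86008ca200831c006ec500275a0086d2006ec4008815007a24007a2200269f002570008c87006a0a0074d4007a050087a00086a6007766004e0e008114008aab008812007eb800256f008cbb0064ff007db500778200811a008809008cfd0038a70089bf0064690087760065b9008b370066b9006594008f1800879100878f004a9b008649006ed80037b50086b50067ee00655c0077840088d600902b else nat_lit 0x4e11008ae0007a61006583006d2900890f007a21008774004a6c003863006c0d00880d0088e1006a36007523005d43006467006a34008f1d008bd3007521007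7ee00818f0087f600877900882b0041ca008ff90040aa004e0f008b9c0040a60080d2006eb90088040041c60041c80088a80040a4007bac008a2d00656a004a9c0088c8006aa2006f84008b120084360088c90074370067e1008867008c67008f19008b090041d2008e330076800068c7008b340088d5008b2c004049004195005c8a008ad400404a008a9a008e5d0086cd004aa30087810053db0081a00076f4008bd5007b960054070081310037f60064650086c0006ff1004a6e00404e008b1e0054050067e300751f0087b5008a37004dad005afb0089850087ed0024b20086c2008ae4008ec8005c97006ed90076f5008c3d00377700904100844e007749008d80008b2d00705f0037750050900087c20067b90086420089860087c5008e5f008ac600423f008881009002008a340086a1008dd2008f1c0088cd0088d7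
def cT_99_103 (j : ℕ) : ℕ := bif Nat.blt j 101 then (cT_99_101 j) else (cT_101_103 j)
def cT_96_103 (j : ℕ) : ℕ := bif Nat.blt j 99 then (cT_96_99 j) else (cT_99_103 j)
def cT_104_106 (j : ℕ) : ℕ := bif Nat.blt j 105 then nat_lit 0x5c95008f57006eda0088c6007723008d41008f1f0076fd008a2c00705e008e6a00844f0067b800897d009037004aa4008f8f0041fe008b2e006edc008b1100793c00904d0087da0051130088e0004dab008d0300418600516d0072e40088e50037ba007e76005820004206008b6500418f00870d0067e500386a00765c00886b007643008cc1008d6d006698008d42008bd2006a12006f080088800087560089bd003801008ed30037be008a260080880087540076440088cc007fd7008cbe008db1008c6e008276008b0d008968007cfa008814007a2300724d0026a0008977006a0b008531007a4e008698008c6c00776500881300880c008ffa007db4008119008b9d0088c3007744004a6b00872200646a00877700581f0053dc008db8005ceb00879000540b008ea90041870067ed007db600869e00904e004aa5008e9b00835a0077590086b200418c0072e5006587004dac008f56008d05004daa008a6b00516c0025750072e1004da8008c4f0062ae00792200582100257100757d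 else nat_lit 0x8b1b00876000658d008d46007cc00025780089760037c20066be007e40006585008cbf00884e00897b00552e008eb00050990089bc006a3d008b380037bd008aea005ce900875500761a008bee00582a008cc8005116008ea60054d80026aa0088e300904a0051150086d900420100871f0087b0008911004e1c004e55008b9a008db0008287008b0b007ead008037008c9200649700897a005514008978004e12008adf004191008c6d00872000724c008d45006a37008d040075240088c1007db0008527005d420088e2005d48008ddc00882a008d510054df007a5f008a66005afe008f32007cf4006a9600864e0081900088030041c9008b33006a700087780053dd008aa9006aa1008a25004200008cc3007436008773008e3400877d008da00084b9008b2b00419400884c0084560086c40089f0004aa200900d00826d007b97008bd6007ece008fe400775b00775d0085fa0037f70086bf005097008ecd00404d004e10008bd40057f500803b00757b008a90006ff2008a990089b9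
def cT_103_106 (j : ℕ) : ℕ := bif Nat.blt j 104 then nat_lit 0x41d0008e1500419000905d006c68006ec100792300648d003864008acc008d89008b24009024008c5a005d470087b30087eb0087ec0024b1008b23008a8f008e6c005c94008e8c007a540087e70053de0088c70088a70037760026a1008dcb0087240072500065b8004a9e008a360079e80054d50086640087b200883000883100874a008d4c00803600880b005d46006d2c008abe00431d004e840087be0068cd005d440087b7008b250026320087610079ef0025790079e1007daf008c5d0037c300418a007c25005467008acf008d4b008ace006e8500884d0041cb0088ab0040a70088cb00509b0087ca0088c2008e92005cea008d7c004188006a0d00903b005ce8008b0f0038a4005afa008f2f00582b0067e2008d5a007277008ea80026ab0054d900844d008811008f1300727800876f0084350089f6008c0a008910006695008b2f004e1d004e1f0050c4004e560088ba008b990054e0008b0c007eae0068ca005c8b00516a008ad00064980070590088ac00404c008d780068cc else (cT_104_106 j)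
def cT_106_108 (j : ℕ) : ℕ := bif Nat.blt j 107 then nat_lit 0x8b390067b60087fa008ee80041ff008e82007edd008ae90050980087d90051140088c0007724008b19008c440090000037bb0088e40082bd009049004204008b9b00870c00418e008ed200765d009055004202008d4e004e1b008b1a0086c9008b6b0026a500873f008a27008eb30057f10086da008459008d480089f5008e6e008599008cfb00509300897f004e14008a62007e79007746009052007763008f1e0077450090580087210088c40067b0008884004aa10089bb00900c005cec007b9f0087260037bc008f87008696007e7800903a008e9a005118007cbf0086b10037bf008ec6008148006586008e5c008d1a008c53008a6c002576004da90088370062af008d020058220037f80076150067ae00757e008ff80041ce008e11006c6900873b0062b0008a6d00648e006a9900761600648c008eaf008a98008eeb008e8b0064940087e6005cee0088c50026a2008feb005c93008723004a9f008b690079e70083c300852e008cf9008e190072e30087b1008abf008d49005d45 else nat_lit 0x8f8a007431008d0a008ad8008ca7006c6a008e1200648f008e17005824008d2d007617008aa200883b0087e50086ef0026a3008bce008bd9004aa0008b6a002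6a4008eae00851c008c45008d2400875f008d4d006a6c008cfa00897e0037c0008a61006a39007b1500887800898300884f0086c8008b6c0026a60086f4008aeb00903f0057f0008eb2005828008d58004e1a0087270026a800904200876d0089120090260088260086df009036007762008e58008b9e00649500872c00873c004e130086dc008ddf008d01008a63002577008d4400814a008ea7008759008887008d5000859800889e008a65007cf5008132006a3a008f5b0051170088020086ee005aff008bcc006567008aa8006a9f008e6f008eb1007434008757008e5a004192008e100086c5008b3d00888500853b00883800656300904c007bb0008f1700775e008cf800826e0086be008de1005096005c8f0090430057f300904600803a008a670054dc0089ba0089f1008147009038008765008e780076fc007e94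
def cT_108_110 (j : ℕ) : ℕ := bif Nat.blt j 109 then nat_lit 0x649200875d008e8d0086b60088990075810089140086bb008ff70086f3008d860087690090390088510087fe008d060026a70087280087fd00876b00882500888a008c900086ba00873d008adc008cff008d2c008ff10086de008e6100889d008a6400822800871100758000903000875a008716008aef008aa7008e70008850008758008e59008827008e8e008886008839008da8008d30007bb1008bd1009040007cf60086bc00872b008ca6005095008c88008b6800775f0087290086c60089f2008766008a2b008b9f0067b500883c0087fb008a9f008e81008d8b0087d8009035008d6e008fbc007cf7008d0b008ea400870b008af0005825008f460089130086f2008c9600876a0088520086db008d990089f4008e7900509400873e00889a0082270090510086dd008915008a8c0067b1008c060086c70089f3008d070067b4008ec700814c0087120084bf008ff6008e99008d47006a6d0086b00090440037fc008596008d23008d22008c4d008d5c0058230037f9008d0000742e else nat_lit 0x8705008704008c7c008a88008706009054008da50086ac008e850090250086ab008a93008c480087d20086a9008874008c49008c460087d3008a91008a89008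ea0008f8e009045008e84008c7e008703008ffb008db9008c090086aa0087d1008e14009056008f8c008a960087d4008d8300896d008aa40086ad008c3c008873009001008768008af4008c8b0088750088240086b9008dac008c4700889c008e9f0087ff008d81008d9100875b008d52008876008a840087e0008bd0008da7008715008e7a008f8d0087080086a8008c8a008ff3008db200883d008c8c008aa000875c008d8c0087d6008c4a008714008ea3008709008af1008c98008823008c97008da9008e74008c080086b800889b008d9a008a8b008a85008d90008ca9008e93009057006491008713008e970087170086ae008af20090310037fb008c4b008d5d008d430037fa008d2f00742f008f8b008e7b0087d0008ff4008e18006490008d5e008f33007430008c8d0087e30086f00087d5008c070086f1009053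
def cT_106_110 (j : ℕ) : ℕ := bif Nat.blt j 108 then (cT_106_108 j) else (cT_108_110 j)
def cT_103_110 (j : ℕ) : ℕ := bif Nat.blt j 106 then (cT_103_106 j) else (cT_106_110 j)
def cT_96_110 (j : ℕ) : ℕ := bif Nat.blt j 103 then (cT_96_103 j) else (cT_103_110 j)
def cT_82_110 (j : ℕ) : ℕ := bif Nat.blt j 96 then (cT_82_96 j) else (cT_96_110 j)
def cT_55_110 (j : ℕ) : ℕ := bif Nat.blt j 82 then (cT_55_82 j) else (cT_82_110 j)
def cT_0_110 (j : ℕ) : ℕ := bif Nat.blt j 55 then (cT_0_55 j) else (cT_55_110 j)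
def cT (j : ℕ) : ℕ := (cT_0_110 j)
noncomputable def cChunk (h : ℕ) : ℕ := Nat.rec (motive := fun _ => ℕ) (cT 0) (fun n _ => cT (Nat.succ n)) h
noncomputable def cF (i : ℕ) : ℕ := Nat.land (Nat.shiftRight (cChunk (Nat.shiftRight i 7)) (Nat.mul (Nat.land i 127) 24)) 16777215
theorem cF_lt (i : ℕ) : cF i < 16777216 := land24_lt _
theorem cF_zero : cF 0 = 0 := by decide +kernel
def nDef : ℕ := 36958
def nEv : ℕ := 128765
def nW : ℕ := 242
def N : ℕ := 14080
def ys : List ℕ := [nat_lit 0, nat_lit 1, nat_lit 2, nat_lit 3, nat_lit 4, nat_lit 5, nat_lit 6, nat_lit 7, nat_lit 8]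
end Cfsg.Agent.Lib.ToddCox.Fi22_14080
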