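import Cfsg.Agent.Lib.ToddCox.Fi22_14080.Tab
set_option autoImplicit false
set_option maxRecDepth 100000
namespace Cfsg.Agent.Lib.ToddCox.Fi22_14080
theorem a10 : allBits chkAll 10 10240 = true := by decide +kernel
theorem a11 : allBits chkAll 10 11264 = true := by decide +kernel
theorem a12 : allBits chkAll 10 12288 = true := by decide +kernel
theorem a13 : allBits chkAll 10 13312 = true := by decide +kernel
end Cfsg.Agent.Lib.ToddCox.Fi22_14080
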